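import Cfsg.Agent.Lib.SpSixThree.Defs
import Cfsg.Agent.Lib.Classical.PSpFourThree

/-!
# The assembly of the pieces of statement S3342
-/

set_option autoImplicit false
set_option maxRecDepth 100000

namespace CfsgLib.SpSixThree

open Subgroup
open CfsgLib.PSpAmalgam (V3 zV eV)

universe u v w

variable {G : Type u} [Group G]

theorem three_neg : (-zV : V3) = zV + zV := by decide +kernel

/-- The inverse of `a`. -/
theorem Base.v_neg_z (B : Base G) : B.v (-zV) = (B.v zV)⁻¹ := by
  refine eq_inv_of_mul_eq_one_left ?_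
  rw [← B.v_add, neg_add_cancel]
  have h := B.v_add 0 0
  rw [add_zero] at h
  exact left_eq_mul.1 h

theorem sigma_word :
    (Equiv.swap (0 : Fin 6) 3 * Equiv.swap 1 4 * Equiv.swap 2 5) =
      (wSig.map fun i => Equiv.swap (⟨i % 6, Nat.mod_lt _ (by norm_num)⟩ : Fin 6)
        ⟨(i + 1) % 6, Nat.mod_lt _ (by norm_num)⟩).prod := by
  decide +kernel

/-- The image of `σ` under a homomorphism on the named elements. -/
theorem iota_sig {B : Base G} {E : Eight B} (S : Six E) (ι : MSp →* G)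
    (h : ∀ i < 9, ι (named i) = gen S i) : ι mSig = B.σ := by
  rw [← S.φ_σ, sigma_word, mSig, map_list_prod, map_list_prod, List.map_map, List.map_map]
  congr 1
  refine List.map_congr_left fun i hi => ?_
  have h5 : ∀ i ∈ wSig, i < 5 := by decide +kernel
  have := h5 i hi
  simp only [Function.comp_apply]
  rw [h i (by omega)]
  interval_cases i <;> rfl

variable [Finite G]

/-- From the pieces to the recognition. -/
theorem main_of (hSetup : StmtSetup.{u}) (hCases : StmtCases.{u}) (hLoc : StmtLoc8.{u})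
    (hCE : StmtCentE.{u}) (hOne : StmtOne.{u}) (hTwo : StmtTwo.{u}) (hFour : StmtFour.{u, v})
    (hW : StmtAutW.{u}) (hAut : StmtAut.{u, v}) (hKey : StmtKey.{u}) (hRels : StmtRels.{u})
    (hPres : StmtPresent.{u}) (hInv : StmtModelInvol) (hStrong : StmtStrong.{u})
    (hCent : StmtCentSigma.{u}) (hCM : StmtCensusModel) (hCensus : StmtCensus.{u})
    (a : G) (ha : orderOf a = 3) (C : Subgroup G) (hC : C = centralizer ({a} : Set G))
    (hR : Cfsg.IsExtraspecial 3 (Cfsg.pCore 3 C)) (hRcard : Nat.card (Cfsg.pCore 3 C) = 27)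
    (hRexp : ∀ r ∈ Cfsg.pCore 3 C, r ^ 3 = 1)
    (e : C ⧸ Cfsg.pCore 3 C ≃* Matrix.SpecialLinearGroup (Fin 2) (ZMod 3))
    (J : Subgroup G) (hJC : J ≤ C) (hJcomm : IsMulCommutative J) (hJexp : ∀ j ∈ J, j ^ 3 = 1)
    (hJcard : Nat.card J = 27)
    (hJsig : ∀ K : Subgroup G, (Nat.card K).Coprime 3 →
      (∀ j ∈ J, K.map (MulAut.conj j).toMonoidHom = K) → K = ⊥)
    (F : Type v) [Field F] [Fintype F] (hF : Fintype.card F = 3)
    (F₂ : Type w) [Field F₂] [Fintype F₂] (hF₂ : Fintype.card F₂ = 2) :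
    ((∀ g : G, g * a * g⁻¹ ≠ a⁻¹) →
      (∃ N : Subgroup G, N.Normal ∧ N.index = 3) ∨ Nonempty (G ≃* Cfsg.PSp 2 F)) ∧
    ((∃ g : G, g * a * g⁻¹ = a⁻¹) →
      normalizer (zpowers a : Set G) = ⊤ ∨ Nonempty (G ≃* MulAut (Cfsg.PSp 2 F)) ∨
        Nonempty (G ≃* Matrix.symplecticGroup (Fin 3) F₂)) := by
  obtain ⟨B, -, hva⟩ := hSetup a ha C hC hR hRcard hRexp e J hJC hJcomm hJexp hJcard hJsig
  subst hva
  constructor
  · intro hinv
    rcases hCases B with h | h | h | ⟨⟨E⟩⟩
    · exact Or.inl (hOne B h)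
    · obtain ⟨⟨d, -, hd, -⟩, -⟩ := h
      exact absurd (by rw [hd, B.v_neg_z]) (hinv d)
    · exact Or.inr (hFour B h F hF)
    · refine absurd ?_ (hinv E.δ)
      rw [← B.v_neg_z]
      exact E.conj_δ_zV
  · rintro ⟨g, hg⟩
    obtain ⟨n, hn, hnz⟩ := B.fusion zV (-zV) (isConj_iff.2 ⟨g, by rw [hg, B.v_neg_z]⟩)
    rcases hCases B with h | h | h | ⟨⟨E⟩⟩
    · rw [h n hn, mul_inv_cancel_right] at hnz
      exact absurd (B.v_inj hnz) (by decide +kernel)
    · exact Or.inl (hTwo B h)
    · exact absurd hnz (h.2 n hn)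
    · refine Or.inr ?_
      rcases hCE B E (hLoc B E) with hc | ⟨⟨S⟩⟩
      · exact Or.inl (hAut B E (hLoc B E) hc (hW B E (hLoc B E) hc) F hF)
      · right
        have h0 : gen S 0 ≠ 1 := fun h => by
          have := S.φ_inj (h.trans (map_one S.φ).symm)
          exact absurd this (by decide +kernel)
        obtain ⟨ι, hι, hn'⟩ := hPres (gen S) (hRels S (hKey S (hLoc B E))) h0
        let X : Emb S := ⟨ι, hι, hn', iota_sig S ι hn'⟩
        obtain ⟨hmove, hfus⟩ := hStrong hInv X (hLoc B E)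
        have hs := hCent X (hLoc B E) hmove hfus
        rw [← X.ι_sig] at hs
        have htop := hCensus hCM X.ι X.ι_inj hs hfus
        let f := ZMod.ringEquivOfPrime F₂ Nat.prime_two hF₂
        exact ⟨((MulEquiv.ofBijective ι ⟨hι, MonoidHom.range_eq_top.1 htop⟩).symm).trans
          { toFun := fun g => ⟨g.1.map f, CfsgLib.Classical.ESix.map_symp 3 f g.1 g.2⟩
            invFun := fun g => ⟨g.1.map f.symm, CfsgLib.Classical.ESix.map_symp 3 f.symm g.1 g.2⟩
            left_inv := fun g => Subtype.ext (by ext i j; simp)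
            right_inv := fun g => Subtype.ext (by ext i j; simp)
            map_mul' := fun g h => Subtype.ext (Matrix.map_mul (f := f)) }⟩

end CfsgLib.SpSixThree
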