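import Cfsg.Agent.Lib.SpSixThree.Defs
import Cfsg.Agent.Lib.PSpAmalgam.SL3

/-!
# Statement S3342, all signs: elementary facts used for the automorphism group
-/

set_option autoImplicit false
set_option maxRecDepth 100000
set_option linter.unusedSectionVars false
set_option synthInstance.maxSize 4096
set_option synthInstance.maxHeartbeats 200000

namespace CfsgLib.SpSixThree.AutX

open Subgroup
open CfsgLib.PSpAmalgam (V3 zV zV' eV fV gV actR actS SL3)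

theorem three_v3 : ∀ x : V3, x + x + x = 0 := by decide +kernel

/-- every element is a code applied to one of the three representatives -/
theorem small_rep : ∀ x : V3, x ≠ 0 → (x.1 = 0 ∨ x.2.1 = 0 ∨ x.2.2 = 0) →
    ∃ k : K8, act8 k eV = x ∨ act8 k fV = x := by decide +kernel

theorem plane_split : ∀ y : V3, actS y = y → y ≠ 0 →
    y = zV ∨ y = -zV ∨ y = zV' ∨ y = -zV' ∨ (y.1 = 0 ∨ y.2.1 = 0 ∨ y.2.2 = 0) := by decide +kernel

theorem plane_span : ∀ y : V3, actS y = y → ∃ i j : Fin 3, y = i.val • zV + j.val • zV' := by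
  decide +kernel

theorem act8_faithful : ∀ k l : K8, act8 k eV = act8 l eV → act8 k gV = act8 l gV →
    act8 k zV = act8 l zV → k = l := by decide +kernel

/-- a quaternion element by number -/
def qe (u w : SL3) (i : Fin 4) : SL3 :=
  if i = 0 then 1 else w ^ (i.val - 1) * u * (w ^ (i.val - 1))⁻¹

/-- its image under the central sign -/
def qd (u w : SL3) (i : Fin 4) : SL3 :=
  if i = 0 then 1 else (w ^ (i.val - 1))⁻¹ * u⁻¹ * w ^ (i.val - 1)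

theorem q_cover : ∀ u : SL3, u * u = -1 → ∀ w : SL3, w ^ 3 = 1 → w ≠ 1 → ∀ x : SL3, x ^ 4 = 1 →
    ∃ i : Fin 4, x = qe u w i ∨ x = -qe u w i := by decide +kernel

theorem q_pow : ∀ u : SL3, u * u = -1 → ∀ w : SL3, w ^ 3 = 1 → w ≠ 1 → ∀ i : Fin 4,
    qe u w i ^ 4 = 1 ∧ (-qe u w i) ^ 4 = 1 ∧ qd u w i ^ 4 = 1 ∧ (-qd u w i) ^ 4 = 1 ∧
      qd u w i * qe u w i ≠ -1 ∧ qe u w i * qd u w i ≠ -1 := by decide +kernel

theorem q_fix : ∀ u : SL3, u * u = -1 → ∀ w : SL3, w ^ 3 = 1 → w ≠ 1 → ∀ i : Fin 4,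
    qd u w i * qe u w i = 1 → i = 0 ∨ i = 1 := by decide +kernel

theorem q_eight : ∀ u : SL3, u * u = -1 → ∀ w : SL3, w ^ 3 = 1 → w ≠ 1 →
    qd u w 2 * qe u w 2 * (qd u w 2 * qe u w 2) = -1 := by decide +kernel

theorem q_outer : ∀ u : SL3, u * u = -1 → ∀ w : SL3, w ^ 3 = 1 → w ≠ 1 → ∀ c : SL3,
    c * u * c⁻¹ = u⁻¹ → c * (w * u * w⁻¹) * c⁻¹ ≠ w⁻¹ * u⁻¹ * w := by decide +kernel

theorem q_commutant : ∀ u : SL3, u * u = -1 → ∀ w : SL3, w ^ 3 = 1 → w ≠ 1 → ∀ c : SL3,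
    c * u = u * c → c * (w * u * w⁻¹) = w * u * w⁻¹ * c → c = 1 ∨ c = -1 := by decide +kernel

theorem q_line : ∀ u : SL3, u * u = -1 → ∀ w : SL3, w ^ 3 = 1 → w ≠ 1 → ∀ j : Fin 3,
    w ^ j.val * u = u * w ^ j.val → j = 0 := by decide +kernel

universe u

variable {G : Type u} [Group G] (B : Base G)

theorem v_zero : B.v 0 = 1 := by
  have h := B.v_add 0 0
  rw [add_zero] at h
  exact left_eq_mul.1 h

theorem v_neg (x : V3) : B.v (-x) = (B.v x)⁻¹ := by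
  refine eq_inv_of_mul_eq_one_left ?_
  rw [← B.v_add, neg_add_cancel, v_zero B]

theorem v_comm (x y : V3) : B.v x * B.v y = B.v y * B.v x := by
  rw [← B.v_add, add_comm, B.v_add]

theorem v_mem (x : V3) : B.v x ∈ B.J := (B.mem_J _).2 ⟨x, rfl⟩

theorem v_nsmul (x : V3) : ∀ n : ℕ, B.v (n • x) = B.v x ^ n
  | 0 => by rw [zero_smul, pow_zero, v_zero B]
  | n + 1 => by rw [succ_nsmul, B.v_add, v_nsmul x n, pow_succ]

theorem v_cube (x : V3) : B.v x ^ 3 = 1 := by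
  rw [pow_succ, pow_two, ← B.v_add, ← B.v_add, three_v3, v_zero B]

theorem v_eq_one {x : V3} : B.v x = 1 ↔ x = 0 :=
  ⟨fun h => B.v_inj (h.trans (v_zero B).symm), fun h => h ▸ v_zero B⟩

theorem orderOf_v {x : V3} (hx : x ≠ 0) : orderOf (B.v x) = 3 :=
  haveI := Fact.mk Nat.prime_three
  orderOf_eq_prime (v_cube B x) fun h => hx ((v_eq_one B).1 h)

theorem card_J : Nat.card B.J = 27 := by
  rw [← Nat.card_congr (Equiv.ofBijective (fun x : V3 => (⟨B.v x, v_mem B x⟩ : B.J))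
    ⟨fun x y e => B.v_inj (congrArg Subtype.val e), fun ⟨g, hg⟩ => by
      obtain ⟨x, hx⟩ := (B.mem_J g).1 hg
      exact ⟨x, Subtype.ext hx⟩⟩)]
  simp

theorem σ_inv : B.σ⁻¹ = B.σ := inv_eq_of_mul_eq_one_right B.σ_sq

theorem sl_neg_mul (x : SL3) : B.sl (-x) = B.σ * B.sl x := by
  rw [← neg_one_mul x, map_mul, B.sl_neg]

theorem σ_ne_one : B.σ ≠ 1 := fun h =>
  CfsgLib.PSpAmalgam.SL3.neg_one_ne (B.sl_inj (by rw [B.sl_neg, h, map_one]))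

theorem v_plane {y : V3} : B.v y * B.σ = B.σ * B.v y ↔ actS y = y := by
  constructor
  · intro h
    refine B.v_inj ?_
    rw [← B.conj_σ, ← h, mul_inv_cancel_right]
  · intro h
    have := B.conj_σ y
    rw [h, mul_inv_eq_iff_eq_mul] at this
    exact this.symm

/-- a power of `a` inside the copy of `SL₂(3)` is trivial -/
theorem eq_one_of_sl_eq_pow {x : SL3} {n : ℕ} (h : B.sl x = B.v zV ^ n) :
    x = 1 ∧ B.v zV ^ n = 1 := by
  have hcen : ∀ y : SL3, x * y = y * x := fun y => B.sl_inj (by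
    rw [map_mul, map_mul, h]
    exact (((show Commute (B.sl y) (B.v zV) from (B.sl_cent y).1).pow_right n).eq).symm)
  rcases CfsgLib.PSpAmalgam.SL3.center_cases x hcen with e | e
  · exact ⟨e, by rw [← h, e, map_one]⟩
  · exfalso
    rw [e, B.sl_neg] at h
    refine σ_ne_one B ?_
    calc B.σ = B.σ * (B.σ * B.σ) := by rw [B.σ_sq, mul_one]
      _ = (B.v zV ^ n) ^ 3 := by rw [← h, pow_succ, pow_two, mul_assoc]
      _ = 1 := by rw [← pow_mul, mul_comm, pow_mul, v_cube B, one_pow]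

/-- `C(a) ∩ C(σ) = ⟨a⟩ × SL₂(3)`. -/
theorem cent_zσ [Finite G] {c : G} (hz : c * B.v zV = B.v zV * c) (hσ : c * B.σ = B.σ * c) :
    ∃ (x : SL3) (i : Fin 3), c = B.sl x * B.v zV ^ i.val := by
  have hzne : zV ≠ (0 : V3) := by decide +kernel
  have hzσ : B.v zV * B.σ = B.σ * B.v zV := (v_plane B).2 (by decide +kernel)
  set U := centralizer ({B.v zV} : Set G) ⊓ centralizer ({B.σ} : Set G)
  have hmem : ∀ (x : SL3) (i : Fin 3), B.sl x * B.v zV ^ i.val ∈ U := fun x i => by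
    refine mem_inf.2 ⟨mem_centralizer_singleton_iff.2 ?_, mem_centralizer_singleton_iff.2 ?_⟩
    · exact ((show Commute (B.sl x) (B.v zV) from (B.sl_cent x).1).mul_left
        ((Commute.refl _).pow_left _)).eq
    · exact ((show Commute (B.sl x) B.σ from (B.sl_cent x).2).mul_left
        ((show Commute (B.v zV) B.σ from hzσ).pow_left _)).eq
  let φ : SL3 × Fin 3 → U := fun p => ⟨B.sl p.1 * B.v zV ^ p.2.val, hmem p.1 p.2⟩
  have hinj : Function.Injective φ := by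
    rintro ⟨x, i⟩ ⟨y, j⟩ h
    have h' : B.sl x * B.v zV ^ i.val = B.sl y * B.v zV ^ j.val := congrArg Subtype.val h
    have e : B.sl (y⁻¹ * x) = B.v zV ^ (j.val + 2 * i.val) := by
      rw [map_mul, map_inv, inv_mul_eq_iff_eq_mul, pow_add, ← mul_assoc, ← h', mul_assoc, ← pow_add,
        show i.val + 2 * i.val = 3 * i.val by ring, pow_mul, v_cube B, one_pow, mul_one]
    obtain ⟨h1, -⟩ := eq_one_of_sl_eq_pow B e
    obtain rfl : x = y := (inv_mul_eq_one.1 h1).symm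
    have h2 : B.v zV ^ i.val = B.v zV ^ j.val := mul_left_cancel h'
    have hi : i.val < orderOf (B.v zV) := by rw [orderOf_v B hzne]; exact i.2
    have hj : j.val < orderOf (B.v zV) := by rw [orderOf_v B hzne]; exact j.2
    exact Prod.ext rfl (Fin.ext (pow_injOn_Iio_orderOf hi hj h2))
  have hbij := Function.Injective.bijective_of_nat_card_le hinj (by
    rw [Nat.card_prod, CfsgLib.PSpAmalgam.SL3.card_eq, Nat.card_fin]
    exact le_of_eq B.card_cent_z_σ)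
  obtain ⟨⟨x, i⟩, hu⟩ := hbij.2 ⟨c, mem_inf.2
    ⟨mem_centralizer_singleton_iff.2 hz, mem_centralizer_singleton_iff.2 hσ⟩⟩
  exact ⟨x, i, (congrArg Subtype.val hu).symm⟩

/-- elements of `⟨a⟩ × SL₂(3)` of order prime to three -/
theorem coprime_form {x : SL3} {i : Fin 3} {m : ℕ} (hm : m.Coprime 3)
    (h : (B.sl x * B.v zV ^ i.val) ^ m = 1) : x ^ 4 = 1 ∧ B.sl x * B.v zV ^ i.val = B.sl x := by
  have hc : Commute (B.sl x) (B.v zV ^ i.val) :=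
    (show Commute (B.sl x) (B.v zV) from (B.sl_cent x).1).pow_right _
  rw [hc.mul_pow, ← map_pow, ← pow_mul] at h
  have e : B.sl (x ^ m) = B.v zV ^ (2 * (i.val * m)) := by
    rw [eq_inv_of_mul_eq_one_left h, eq_comm, ← mul_eq_one_iff_eq_inv, ← pow_add,
      show 2 * (i.val * m) + i.val * m = 3 * (i.val * m) by ring, pow_mul, v_cube B, one_pow]
  obtain ⟨h1, -⟩ := eq_one_of_sl_eq_pow B e
  have hi : B.v zV ^ (i.val * m) = 1 := by rw [h1, map_one, one_mul] at h; exact h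
  have h3 : 3 ∣ i.val * m := by
    have h3' := orderOf_dvd_of_pow_eq_one hi
    rwa [orderOf_v B (by decide +kernel : zV ≠ (0 : V3))] at h3'
  have hi0 : 3 ∣ i.val := (Nat.Coprime.dvd_of_dvd_mul_right hm.symm h3)
  have hi' : i.val = 0 := Nat.eq_zero_of_dvd_of_lt hi0 i.2
  refine ⟨CfsgLib.PSpAmalgam.SL3.quat_of_pow_eight x ?_, by rw [hi', pow_zero, mul_one]⟩
  have hd : orderOf x ∣ Nat.gcd m 24 := Nat.dvd_gcd (orderOf_dvd_of_pow_eq_one h1)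
    (orderOf_dvd_of_pow_eq_one (CfsgLib.PSpAmalgam.SL3.pow_card x))
  refine orderOf_dvd_iff_pow_eq_one.1 (hd.trans ?_)
  refine (Nat.Coprime.dvd_of_dvd_mul_right ?_ (show Nat.gcd m 24 ∣ 8 * 3 from Nat.gcd_dvd_right m 24))
  exact Nat.Coprime.coprime_dvd_left (Nat.gcd_dvd_left m 24) hm

/-- the generators of `C(a) ∩ C(σ)` inside `SL₂(3)` -/
structure UW (x w : SL3) : Prop where
  hu : B.sl x = B.q
  hw : B.sl w = B.v zV'
  sq : x * x = -1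
  cube : w ^ 3 = 1
  ne : w ≠ 1

theorem exists_uw : ∃ x w : SL3, UW B x w := by
  obtain ⟨x, hx⟩ := B.sl_q
  obtain ⟨w, hw⟩ := B.sl_z'
  refine ⟨x, w, hx, hw, B.sl_inj (by rw [map_mul, hx, B.q_sq, B.sl_neg]),
    B.sl_inj (by rw [map_pow, map_one, hw, v_cube B]), fun e => ?_⟩
  rw [e, map_one] at hw
  exact absurd ((v_eq_one B).1 hw.symm) (by decide +kernel)

/-- the quaternion group of `C(a)` -/
def QQ : Subgroup G := CfsgLib.PSpAmalgam.SL3.quat.map B.sl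

theorem mem_QQ {g : G} : g ∈ QQ B ↔ ∃ x : SL3, x ^ 4 = 1 ∧ B.sl x = g := Subgroup.mem_map

/-- elements of the plane are products -/
theorem plane_form {x w : SL3} (U : UW B x w) {y : V3} (hy : actS y = y) :
    ∃ i j : Fin 3, y = i.val • zV + j.val • zV' ∧ B.v y = B.sl (w ^ j.val) * B.v zV ^ i.val := by
  obtain ⟨i, j, rfl⟩ := plane_span y hy
  refine ⟨i, j, rfl, ?_⟩
  rw [add_comm, B.v_add, v_nsmul B, v_nsmul B, map_pow, U.hw]

variable {B} (E : Eight B)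

theorem ε2_sq : E.ε2 * E.ε2 = 1 := by
  rw [Eight.ε2, show B.β * E.ε * B.β⁻¹ * (B.β * E.ε * B.β⁻¹) = B.β * (E.ε * E.ε) * B.β⁻¹ by group,
    E.ε_sq, mul_one, mul_inv_cancel]

theorem ε3_sq : E.ε3 * E.ε3 = 1 := by
  rw [Eight.ε3, show B.β⁻¹ * E.ε * B.β * (B.β⁻¹ * E.ε * B.β) = B.β⁻¹ * (E.ε * E.ε) * B.β by group,
    E.ε_sq, mul_one, inv_mul_cancel]

theorem β_inv : B.β⁻¹ = B.β * B.β := inv_eq_of_mul_eq_one_left B.β_cube

theorem conj_β_ε3 : B.β * E.ε3 * B.β⁻¹ = E.ε := by rw [Eight.ε3]; group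

theorem conj_β_ε2 : B.β * E.ε2 * B.β⁻¹ = E.ε3 := by
  rw [Eight.ε2, Eight.ε3, β_inv]
  calc B.β * (B.β * E.ε * (B.β * B.β)) * (B.β * B.β) = B.β * B.β * E.ε * B.β * (B.β * B.β * B.β) := by
        group
    _ = _ := by rw [B.β_cube, mul_one]

theorem comm12 : Commute E.ε E.ε2 := E.ε_comm

theorem comm31 : Commute E.ε3 E.ε := by
  have h := congrArg (fun t => B.β⁻¹ * t * B.β) E.ε_comm
  show E.ε3 * E.ε = E.ε * E.ε3
  calc E.ε3 * E.ε = B.β⁻¹ * (E.ε * (B.β * E.ε * B.β⁻¹)) * B.β := by rw [Eight.ε3]; group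
    _ = B.β⁻¹ * (B.β * E.ε * B.β⁻¹ * E.ε) * B.β := h
    _ = _ := by rw [Eight.ε3]; group

theorem comm23 : Commute E.ε2 E.ε3 := by
  have h := congrArg (fun t => B.β * t * B.β⁻¹) (comm12 E).eq
  show E.ε2 * E.ε3 = E.ε3 * E.ε2
  calc E.ε2 * E.ε3 = (B.β * E.ε * B.β⁻¹) * (B.β * E.ε2 * B.β⁻¹) := by rw [conj_β_ε2 E]; rfl
    _ = B.β * (E.ε * E.ε2) * B.β⁻¹ := by group
    _ = B.β * (E.ε2 * E.ε) * B.β⁻¹ := h
    _ = (B.β * E.ε2 * B.β⁻¹) * (B.β * E.ε * B.β⁻¹) := by group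
    _ = _ := by rw [conj_β_ε2 E]; rfl

theorem σ_ε2 : B.σ * E.ε2 * B.σ⁻¹ = E.ε3 := by
  rw [Eight.ε2, Eight.ε3]
  calc B.σ * (B.β * E.ε * B.β⁻¹) * B.σ⁻¹
      = (B.σ * B.β * B.σ⁻¹) * (B.σ * E.ε * B.σ⁻¹) * (B.σ * B.β * B.σ⁻¹)⁻¹ := by group
    _ = _ := by rw [← E.ε_σ, mul_inv_cancel_right, σ_inv B, B.σ_β, inv_inv]

theorem σ_ε3 : B.σ * E.ε3 * B.σ⁻¹ = E.ε2 := by
  rw [← σ_ε2 E, σ_inv B]
  calc B.σ * (B.σ * E.ε2 * B.σ) * B.σ = (B.σ * B.σ) * E.ε2 * (B.σ * B.σ) := by group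
    _ = _ := by rw [B.σ_sq, one_mul, mul_one]

/-- the product of the last two signs -/
def ε' : G := E.ε2 * E.ε3

theorem δ_eq : E.δ = E.ε * ε' E := by rw [Eight.δ, ε', mul_assoc]

theorem ε'_eq : ε' E = E.ε * E.δ := by rw [δ_eq, ← mul_assoc, E.ε_sq, one_mul]

theorem ε'_σ : Commute (ε' E) B.σ := by
  have h : B.σ * ε' E * B.σ⁻¹ = ε' E := by
    calc B.σ * ε' E * B.σ⁻¹ = (B.σ * E.ε2 * B.σ⁻¹) * (B.σ * E.ε3 * B.σ⁻¹) := by rw [ε']; group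
      _ = _ := by rw [σ_ε2 E, σ_ε3 E, ε']; exact (comm23 E).eq.symm
  exact (mul_inv_eq_iff_eq_mul.1 h).symm

theorem ε'_ε : Commute (ε' E) E.ε := (comm12 E).symm.mul_left (comm31 E)

theorem δ_σ : Commute E.δ B.σ := by
  rw [δ_eq]
  exact (show Commute E.ε B.σ from E.ε_σ).mul_left (ε'_σ E)

theorem δ_ε : Commute E.δ E.ε := by
  rw [δ_eq]
  exact (Commute.refl _).mul_left (ε'_ε E)

theorem ε'_sq : ε' E * ε' E = 1 := by
  rw [ε']
  calc E.ε2 * E.ε3 * (E.ε2 * E.ε3) = E.ε2 * (E.ε3 * E.ε2) * E.ε3 := by group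
    _ = (E.ε2 * E.ε2) * (E.ε3 * E.ε3) := by rw [(comm23 E).eq.symm]; group
    _ = 1 := by rw [ε2_sq, ε3_sq, one_mul]

theorem δ_sq : E.δ * E.δ = 1 := by
  rw [δ_eq]
  calc E.ε * ε' E * (E.ε * ε' E) = E.ε * (ε' E * E.ε) * ε' E := by group
    _ = (E.ε * E.ε) * (ε' E * ε' E) := by rw [(ε'_ε E).eq]; group
    _ = 1 := by rw [E.ε_sq, ε'_sq, one_mul]

theorem δ_inv : E.δ⁻¹ = E.δ := inv_eq_of_mul_eq_one_right (δ_sq E)

theorem ε_inv : E.ε⁻¹ = E.ε := inv_eq_of_mul_eq_one_right E.ε_sq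

theorem conj_ε2 (x : V3) : E.ε2 * B.v x * E.ε2⁻¹ = B.v (x.1, -x.2.1, x.2.2) := by
  obtain ⟨y, rfl⟩ : ∃ y, actR y = x := ⟨(x.2.1, x.2.2, x.1), rfl⟩
  have e : B.v ((actR y).1, -(actR y).2.1, (actR y).2.2) =
      B.β * (E.ε * B.v y * E.ε⁻¹) * B.β⁻¹ := by rw [E.conj_ε, B.conj_β]; rfl
  rw [e, ← B.conj_β y, Eight.ε2]; group

theorem conj_ε3 (x : V3) : E.ε3 * B.v x * E.ε3⁻¹ = B.v (x.1, x.2.1, -x.2.2) := by
  have e : B.v x = B.β⁻¹ * B.v (actR x) * B.β := by rw [← B.conj_β]; group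
  have e' : B.v (x.1, x.2.1, -x.2.2) = B.β⁻¹ * B.v (actR (x.1, x.2.1, -x.2.2)) * B.β := by
    rw [← B.conj_β]; group
  rw [e, e', show actR (x.1, x.2.1, -x.2.2) = (-(actR x).1, (actR x).2.1, (actR x).2.2) from rfl,
    ← E.conj_ε, Eight.ε3]; group

theorem conj_δ (x : V3) : E.δ * B.v x * E.δ⁻¹ = B.v (-x) := by
  calc E.δ * B.v x * E.δ⁻¹
      = E.ε * (E.ε2 * (E.ε3 * B.v x * E.ε3⁻¹) * E.ε2⁻¹) * E.ε⁻¹ := by rw [Eight.δ]; group
    _ = B.v (-x) := by rw [conj_ε3, conj_ε2, E.conj_ε]; rfl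

theorem conj_ε' (x : V3) : ε' E * B.v x * (ε' E)⁻¹ = B.v (x.1, -x.2.1, -x.2.2) := by
  rw [ε', show E.ε2 * E.ε3 * B.v x * (E.ε2 * E.ε3)⁻¹ = E.ε2 * (E.ε3 * B.v x * E.ε3⁻¹) * E.ε2⁻¹ by
    group, conj_ε3, conj_ε2]

/-- the element of a code -/
def cd8 (k : K8) : G :=
  E.ε ^ k.1.1.val * E.ε2 ^ k.1.2.1.val * E.ε3 ^ k.1.2.2.val * B.β ^ k.2.1.val * B.σ ^ k.2.2.val

theorem conj_iterate {g : G} {φ : V3 → V3} (h : ∀ x, g * B.v x * g⁻¹ = B.v (φ x)) :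
    ∀ (n : ℕ) (x : V3), g ^ n * B.v x * (g ^ n)⁻¹ = B.v (φ^[n] x)
  | 0, x => by simp
  | n + 1, x => by
    rw [Function.iterate_succ_apply', ← h, ← conj_iterate h n, pow_succ']
    group

theorem conj_cd8 (k : K8) (x : V3) : cd8 E k * B.v x * (cd8 E k)⁻¹ = B.v (act8 k x) := by
  obtain ⟨⟨i, j, l⟩, r, s⟩ := k
  have e : cd8 E ((i, j, l), r, s) * B.v x * (cd8 E ((i, j, l), r, s))⁻¹ =
      E.ε ^ i.val * (E.ε2 ^ j.val * (E.ε3 ^ l.val * (B.β ^ r.val *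
        (B.σ ^ s.val * B.v x * (B.σ ^ s.val)⁻¹) * (B.β ^ r.val)⁻¹) * (E.ε3 ^ l.val)⁻¹) *
        (E.ε2 ^ j.val)⁻¹) * (E.ε ^ i.val)⁻¹ := by
    rw [cd8]; group
  rw [e, conj_iterate B.conj_σ, conj_iterate B.conj_β, conj_iterate (conj_ε3 E),
    conj_iterate (conj_ε2 E), conj_iterate E.conj_ε, act8]
  generalize actR^[r.val] (actS^[s.val] x) = y
  fin_cases i <;> fin_cases j <;> fin_cases l <;> simp [sg]

theorem norm_act {n : G} (hn : n ∈ normalizer (B.J : Set G)) :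
    ∃ (x : V3) (k : K8), n = B.v x * cd8 E k ∧ ∀ y, n * B.v y * n⁻¹ = B.v (act8 k y) := by
  obtain ⟨x, i, j, l, r, s, h⟩ := E.normalizer_mem n hn
  have h' : n = B.v x * cd8 E ((i, j, l), r, s) := by
    rw [h, cd8, Eight.ε2, Eight.ε3]; group
  refine ⟨x, ((i, j, l), r, s), h', fun y => ?_⟩
  rw [h', show B.v x * cd8 E ((i, j, l), r, s) * B.v y * (B.v x * cd8 E ((i, j, l), r, s))⁻¹ =
    B.v x * (cd8 E ((i, j, l), r, s) * B.v y * (cd8 E ((i, j, l), r, s))⁻¹) * (B.v x)⁻¹ by group,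
    conj_cd8, v_comm B, mul_inv_cancel_right]

/-- `δ` on the quaternion group -/
theorem δ_quat {x w : SL3} (U : UW B x w) (n : ℕ) :
    E.δ * B.sl (w ^ n * x * (w ^ n)⁻¹) * E.δ⁻¹ = B.sl ((w ^ n)⁻¹ * x⁻¹ * w ^ n) := by
  have hq : E.δ * B.q * E.δ⁻¹ = B.q⁻¹ := E.q_inv
  have hw : E.δ * B.sl (w ^ n) * E.δ⁻¹ = (B.sl (w ^ n))⁻¹ := by
    rw [map_pow, U.hw, ← conj_pow, conj_δ, v_neg B, inv_pow]
  simp only [map_mul, map_inv, U.hu]
  calc E.δ * (B.sl (w ^ n) * B.q * (B.sl (w ^ n))⁻¹) * E.δ⁻¹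
      = (E.δ * B.sl (w ^ n) * E.δ⁻¹) * (E.δ * B.q * E.δ⁻¹) * (E.δ * B.sl (w ^ n) * E.δ⁻¹)⁻¹ := by group
    _ = _ := by rw [hw, hq, inv_inv]

theorem δ_qe {x w : SL3} (U : UW B x w) (i : Fin 4) :
    E.δ * B.sl (qe x w i) * E.δ⁻¹ = B.sl (qd x w i) ∧
      E.δ * B.sl (-qe x w i) * E.δ⁻¹ = B.sl (-qd x w i) := by
  have h1 : E.δ * B.sl (qe x w i) * E.δ⁻¹ = B.sl (qd x w i) := by
    by_cases hi : i = 0
    · rw [qe, qd, if_pos hi, if_pos hi, map_one, mul_one, mul_inv_cancel]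
    · rw [qe, qd, if_neg hi, if_neg hi]; exact δ_quat E U _
  refine ⟨h1, ?_⟩
  rw [sl_neg_mul B, sl_neg_mul B, ← h1]
  calc E.δ * (B.σ * B.sl (qe x w i)) * E.δ⁻¹ = (E.δ * B.σ) * B.sl (qe x w i) * E.δ⁻¹ := by group
    _ = _ := by rw [(δ_σ E).eq]; group

/-- the shape of the image of an element of order dividing four -/
theorem δ_form {x w : SL3} (U : UW B x w) {t : SL3} (ht : t ^ 4 = 1) :
    ∃ i : Fin 4, (t = qe x w i ∧ E.δ * B.sl t * E.δ⁻¹ = B.sl (qd x w i)) ∨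
      (t = -qe x w i ∧ E.δ * B.sl t * E.δ⁻¹ = B.sl (-qd x w i)) := by
  obtain ⟨i, h | h⟩ := q_cover x U.sq w U.cube U.ne t ht
  · exact ⟨i, Or.inl ⟨h, h ▸ (δ_qe E U i).1⟩⟩
  · exact ⟨i, Or.inr ⟨h, h ▸ (δ_qe E U i).2⟩⟩

variable [Finite G] (hL : Loc8 B) (hCE : centralizer ({B.v eV} : Set G) ≤ normalizer (B.J : Set G))

include E hL hCE in
/-- centralisers of the short vectors -/
theorem small_cent {x : V3} (hx : x ≠ 0) (h0 : x.1 = 0 ∨ x.2.1 = 0 ∨ x.2.2 = 0) :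
    centralizer ({B.v x} : Set G) ≤ normalizer (B.J : Set G) := by
  intro c hc
  obtain ⟨k, hk⟩ := small_rep x hx h0
  have hn : cd8 E k ∈ normalizer (B.J : Set G) := by
    rw [Subgroup.mem_normalizer_iff_map_conj_eq]
    refine eq_of_le_of_card_ge ?_ (by rw [card_map_of_injective (MulEquiv.injective _)])
    rintro _ ⟨g, hg, rfl⟩
    obtain ⟨y, rfl⟩ := (B.mem_J g).1 hg
    show cd8 E k * B.v y * (cd8 E k)⁻¹ ∈ B.J
    rw [conj_cd8]; exact v_mem B _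
  have hcc : c * B.v x = B.v x * c := mem_centralizer_singleton_iff.1 hc
  have key : ∀ y, act8 k y = x → (cd8 E k)⁻¹ * c * cd8 E k ∈ centralizer ({B.v y} : Set G) := by
    intro y hy
    rw [mem_centralizer_singleton_iff]
    have e : B.v x = cd8 E k * B.v y * (cd8 E k)⁻¹ := by rw [conj_cd8, hy]
    rw [e] at hcc
    calc (cd8 E k)⁻¹ * c * cd8 E k * B.v y
        = (cd8 E k)⁻¹ * (c * (cd8 E k * B.v y * (cd8 E k)⁻¹)) * cd8 E k := by group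
      _ = (cd8 E k)⁻¹ * (cd8 E k * B.v y * (cd8 E k)⁻¹ * c) * cd8 E k := by rw [hcc]
      _ = _ := by group
  have hmem : (cd8 E k)⁻¹ * c * cd8 E k ∈ normalizer (B.J : Set G) := by
    rcases hk with h | h
    · exact hCE (key _ h)
    · exact hL.cent_f (key _ h)
  rw [show c = cd8 E k * ((cd8 E k)⁻¹ * c * cd8 E k) * (cd8 E k)⁻¹ by group]
  exact mul_mem (mul_mem hn hmem) (inv_mem hn)

end CfsgLib.SpSixThree.AutX
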