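import Mathlib
import Cfsg.Agent.Lib.SNineThree.CentTauSixModel

/-!
# The symmetric group of degree six: the frame of a Sylow three-normaliser up to automorphisms
-/

set_option autoImplicit false
set_option maxRecDepth 100000
set_option maxHeartbeats 1000000
set_option synthInstance.maxSize 4096
set_option synthInstance.maxHeartbeats 400000

namespace CfsgLib.SpSixThree.Loc

open Equiv Subgroup
open CfsgLib.SNineThree.CentTau (P6 za zb sa Ta InE6 InN6)

/-- The transposition `(3 4)`. -/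
def sb : P6 := swap 3 4

/-- A product of three transpositions. -/
def syn3 (a b c d e f : Fin 6) : P6 := swap a b * swap c d * swap e f

/-- The six totals. -/
def totL : Fin 6 → List P6
  | 0 => [syn3 0 1 2 3 4 5, syn3 0 2 1 4 3 5, syn3 0 3 1 5 2 4, syn3 0 4 1 3 2 5, syn3 0 5 1 2 3 4]
  | 1 => [syn3 0 1 2 4 3 5, syn3 0 2 1 5 3 4, syn3 0 3 1 2 4 5, syn3 0 4 1 3 2 5, syn3 0 5 1 4 2 3]
  | 2 => [syn3 0 1 2 5 3 4, syn3 0 2 1 3 4 5, syn3 0 3 1 5 2 4, syn3 0 4 1 2 3 5, syn3 0 5 1 4 2 3]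
  | 3 => [syn3 0 1 2 3 4 5, syn3 0 2 1 5 3 4, syn3 0 3 1 4 2 5, syn3 0 4 1 2 3 5, syn3 0 5 1 3 2 4]
  | 4 => [syn3 0 1 2 4 3 5, syn3 0 2 1 3 4 5, syn3 0 3 1 4 2 5, syn3 0 4 1 5 2 3, syn3 0 5 1 2 3 4]
  | 5 => [syn3 0 1 2 5 3 4, syn3 0 2 1 4 3 5, syn3 0 3 1 2 4 5, syn3 0 4 1 5 2 3, syn3 0 5 1 3 2 4]

/-- A permutation carries the total `i` to the total `j`. -/
def Moves (p : P6) (i j : Fin 6) : Prop :=
  ∀ s ∈ totL i, p * s * p⁻¹ ∈ totL j

instance (p : P6) (i j : Fin 6) : Decidable (Moves p i j) := by unfold Moves; infer_instance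

theorem moves_one : ∀ i j, Moves 1 i j ↔ i = j := by decide +kernel

theorem totL_disjoint : ∀ i j, (∀ s ∈ totL i, s ∈ totL j) → i = j := by decide +kernel

theorem moves_mul {p q : P6} {i j k : Fin 6} (hp : Moves p j k) (hq : Moves q i j) :
    Moves (p * q) i k := fun s hs => by
  have := hp _ (hq s hs)
  simpa [mul_assoc] using this

theorem totL_nodup : ∀ i, (totL i).Nodup ∧ (totL i).length = 5 := by decide +kernel

theorem moves_unique {p : P6} {i j k : Fin 6} (hj : Moves p i j) (hk : Moves p i k) : j = k := by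
  refine totL_disjoint j k ?_
  have hsub : ((totL i).map fun s => p * s * p⁻¹) ⊆ totL j := fun s hs => by
    obtain ⟨t, ht, rfl⟩ := List.mem_map.1 hs
    exact hj t ht
  have hnd : ((totL i).map fun s => p * s * p⁻¹).Nodup :=
    (totL_nodup i).1.map (MulAut.conj p).injective
  have hperm := (hnd.subperm hsub).perm_of_length_le (by
    rw [List.length_map, (totL_nodup i).2, (totL_nodup j).2])
  intro s hs
  obtain ⟨t, ht, rfl⟩ := List.mem_map.1 (hperm.mem_iff.2 hs)
  exact hk t ht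

theorem moves_gens : ∀ a : Fin 5, ∀ i, ∃ j, Moves (swap a.castSucc a.succ) i j := by decide +kernel

theorem moves_total (p : P6) : ∀ i, ∃ j, Moves p i j := by
  have h : p ∈ Submonoid.closure (Set.range fun a : Fin 5 => (swap a.castSucc a.succ : P6)) := by
    rw [Equiv.Perm.mclosure_swap_castSucc_succ]; trivial
  induction h using Submonoid.closure_induction with
  | mem x hx => obtain ⟨a, rfl⟩ := hx; exact moves_gens a
  | one => exact fun i => ⟨i, (moves_one i i).2 rfl⟩
  | mul x y _ _ hx hy =>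
    intro i
    obtain ⟨j, hj⟩ := hy i
    obtain ⟨k, hk⟩ := hx j
    exact ⟨k, moves_mul hk hj⟩

/-- The permutation of the totals. -/
noncomputable def outerPerm (p : P6) : P6 :=
  Equiv.ofBijective (fun i => (moves_total p i).choose) (Finite.injective_iff_bijective.1
    fun i j h => by
      have hi := (moves_total p i).choose_spec
      have hj := (moves_total p j).choose_spec
      rw [← h] at hj
      obtain ⟨k, hk⟩ := moves_total p⁻¹ (moves_total p i).choose
      have e := fun {l : Fin 6} (hl : Moves p l (moves_total p i).choose) =>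
        (moves_one l k).1 (inv_mul_cancel p ▸ moves_mul hk hl)
      rw [e hi, e hj])

theorem outerPerm_spec (p : P6) (i : Fin 6) : Moves p i (outerPerm p i) :=
  (moves_total p i).choose_spec

theorem outerPerm_eq {p q : P6} (h : ∀ i, Moves p i (q i)) : outerPerm p = q :=
  Equiv.ext fun i => moves_unique (outerPerm_spec p i) (h i)

/-- The action on the totals. -/
noncomputable def outerHom : P6 →* P6 := MonoidHom.mk' outerPerm fun p q =>
  outerPerm_eq fun i => by
    rw [Perm.mul_apply]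
    exact moves_mul (outerPerm_spec p _) (outerPerm_spec q i)

theorem outer_gens : ∀ a : Fin 5, ∃ x ∈ [syn3 0 4 1 3 2 5, syn3 0 5 1 4 2 3, syn3 0 4 1 2 3 5,
    syn3 0 3 1 4 2 5, syn3 0 4 1 5 2 3], ∀ i, Moves x i (swap a.castSucc a.succ i) := by
  decide +kernel

theorem outerHom_surjective : Function.Surjective outerHom := fun p => by
  have h : p ∈ Submonoid.closure (Set.range fun a : Fin 5 => (swap a.castSucc a.succ : P6)) := by
    rw [Equiv.Perm.mclosure_swap_castSucc_succ]; trivial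
  induction h using Submonoid.closure_induction with
  | mem x hx =>
    obtain ⟨a, rfl⟩ := hx
    obtain ⟨y, -, hy⟩ := outer_gens a
    exact ⟨y, outerPerm_eq hy⟩
  | one => exact ⟨1, map_one _⟩
  | mul x y _ _ hx hy =>
    obtain ⟨a, rfl⟩ := hx
    obtain ⟨b, rfl⟩ := hy
    exact ⟨a * b, map_mul _ _ _⟩

/-- An outer automorphism of the symmetric group of degree six. -/
noncomputable def outer : P6 ≃* P6 :=
  MulEquiv.ofBijective outerHom ⟨Finite.injective_iff_surjective.2 outerHom_surjective,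
    outerHom_surjective⟩

theorem outer_za_zb : outer (za * zb) = za⁻¹ ∧ outer (za * zb⁻¹) = zb :=
  ⟨outerPerm_eq (by decide +kernel), outerPerm_eq (by decide +kernel)⟩

/-! ### The standard Sylow three-subgroup -/

/-- The four elements that are cycles of length three. -/
def singles : List P6 := [za, za⁻¹, zb, zb⁻¹]

theorem single_support : ∀ a b : Fin 3, za ^ a.1 * zb ^ b.1 ∈ singles ↔
    (za ^ a.1 * zb ^ b.1).support.card = 3 := by decide +kernel

theorem mem_singles_iff {p : P6} (hp : InE6 p) : p ∈ singles ↔ p.support.card = 3 := by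
  obtain ⟨a, b, rfl⟩ := SNineThree.CentTau.inE6_form p hp
  exact single_support a b

theorem singles_inE6 : ∀ p ∈ singles, InE6 p := by decide +kernel

theorem single_conj (c : P6) {p : P6} (hp : p ∈ singles) (hc : InE6 (c * p * c⁻¹)) :
    c * p * c⁻¹ ∈ singles := by
  rw [mem_singles_iff hc, Equiv.Perm.card_support_conj]
  exact (mem_singles_iff (singles_inE6 p hp)).1 hp

open CfsgLib.SNineThree.CentTau (nf6)

/-- An element conjugating both generators into the standard subgroup has a normal form. -/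
theorem exists_nf6 {x p q : P6} (h1 : x * za = p * x) (h2 : x * zb = q * x) (hp : InE6 p)
    (hq : InE6 q) : ∃ a b c d e, nf6 a b c d e = x :=
  SNineThree.CentTau.inN6_form x (SNineThree.CentTau.inN6_of_conj x
    (by rwa [mul_inv_eq_iff_eq_mul.2 h1]) (by rwa [mul_inv_eq_iff_eq_mul.2 h2]))

theorem double_cases : ∀ a b : Fin 3, za ^ a.1 * zb ^ b.1 ≠ 1 → za ^ a.1 * zb ^ b.1 ∉ singles →
    za ^ a.1 * zb ^ b.1 ∈ [za * zb, (za * zb)⁻¹, za * zb⁻¹, (za * zb⁻¹)⁻¹] := by
  decide +kernel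

theorem outer_double {p : P6} (hp : InE6 p) (h1 : p ≠ 1) (hs : p ∉ singles) :
    outer p ∈ singles := by
  obtain ⟨a, b, rfl⟩ := SNineThree.CentTau.inE6_form p hp
  have h := double_cases a b h1 hs
  obtain ⟨e1, e2⟩ := outer_za_zb
  simp only [List.mem_cons, List.not_mem_nil, or_false] at h
  rcases h with e | e | e | e
  · rw [e, e1]; simp [singles]
  · rw [e, map_inv, e1]; simp [singles]
  · rw [e, e2]; simp [singles]
  · rw [e, map_inv, e2]; simp [singles]

theorem pair_conj : ∀ p ∈ singles, ∀ q ∈ singles, q ≠ p → q ≠ p⁻¹ →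
    ∃ k l m : Fin 2, ∃ c ∈ [sa ^ k.1 * sb ^ l.1 * Ta ^ m.1], c * za * c⁻¹ = p ∧ c * zb * c⁻¹ = q := by
  decide +kernel

theorem first_nf : ∀ a b : Fin 3, ∀ c d e : Fin 2, let x := nf6 a b c d e
    x * x = 1 → x * za = za⁻¹ * x → x * zb = zb * x →
      ∃ i : Fin 3, za ^ i.1 * sa * (za ^ i.1)⁻¹ = x := by decide +kernel

theorem second_nf : ∀ a b : Fin 3, ∀ c d e : Fin 2, let x := nf6 a b c d e
    x * x = 1 → x * za = za * x → x * zb = zb⁻¹ * x →
      ∃ i : Fin 3, zb ^ i.1 * sb * (zb ^ i.1)⁻¹ = x := by decide +kernel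

theorem third_nf : ∀ a b : Fin 3, ∀ c d e : Fin 2, let x := nf6 a b c d e
    x * x = 1 → x * za = zb * x → x * sa = sb * x → x = Ta := by decide +kernel

theorem za_zb_inE6 : InE6 za ∧ InE6 za⁻¹ ∧ InE6 zb ∧ InE6 zb⁻¹ := by decide +kernel

theorem first_cases {x : P6} (h0 : x * x = 1) (h1 : x * za = za⁻¹ * x) (h2 : x * zb = zb * x) :
    ∃ i : Fin 3, za ^ i.1 * sa * (za ^ i.1)⁻¹ = x := by
  obtain ⟨a, b, c, d, e, rfl⟩ := exists_nf6 h1 h2 za_zb_inE6.2.1 za_zb_inE6.2.2.1
  exact first_nf a b c d e h0 h1 h2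

theorem second_cases {x : P6} (h0 : x * x = 1) (h1 : x * za = za * x) (h2 : x * zb = zb⁻¹ * x) :
    ∃ i : Fin 3, zb ^ i.1 * sb * (zb ^ i.1)⁻¹ = x := by
  obtain ⟨a, b, c, d, e, rfl⟩ := exists_nf6 h1 h2 za_zb_inE6.1 za_zb_inE6.2.2.2
  exact second_nf a b c d e h0 h1 h2

theorem third_unique {x : P6} (h0 : x * x = 1) (h1 : x * za = zb * x) (h2 : x * sa = sb * x) :
    x = Ta := by
  have h3 : x * zb = za * x := by
    calc x * zb = x * (zb * (x * x)) := by rw [h0, mul_one]
      _ = x * (zb * x) * x := by group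
      _ = x * (x * za) * x := by rw [h1]
      _ = _ := by rw [← mul_assoc x x, h0, one_mul]
  obtain ⟨a, b, c, d, e, rfl⟩ := exists_nf6 h1 h3 za_zb_inE6.2.2.1 za_zb_inE6.1
  exact third_nf a b c d e h0 h1 h2

theorem frame_fix : za * zb = zb * za ∧ zb * sa = sa * zb ∧
    zb * sb * zb⁻¹ = swap 4 5 ∧ za * sa * za⁻¹ = swap 1 2 := by decide +kernel

/-- The standard Sylow three-subgroup. -/
def stdE : Subgroup P6 where
  carrier := {p | InE6 p}
  one_mem' := by show InE6 1; decide +kernel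
  mul_mem' {p q} hp hq := by
    obtain ⟨a, b, rfl⟩ := SNineThree.CentTau.inE6_form p hp
    obtain ⟨a', b', rfl⟩ := SNineThree.CentTau.inE6_form q hq
    rw [Set.mem_setOf_eq, ← SNineThree.CentTau.plane6.1]
    exact SNineThree.CentTau.plane6.2.2 _ _
  inv_mem' {p} hp := ⟨by rw [inv_pow, hp.1, inv_one], SNineThree.CentTau.inN6_inv hp.2⟩

theorem plane_inj : ∀ a b a' b' : Fin 3, za ^ a.1 * zb ^ b.1 = za ^ a'.1 * zb ^ b'.1 →
    (a, b) = (a', b') := by decide +kernel

theorem card_stdE : Nat.card stdE = 9 := by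
  let f : Fin 3 × Fin 3 → stdE := fun v =>
    ⟨za ^ v.1.1 * zb ^ v.2.1, SNineThree.CentTau.plane6.2.2 _ _⟩
  have hf : Function.Bijective f := by
    refine ⟨fun v w h => ?_, fun ⟨p, hp⟩ => ?_⟩
    · exact plane_inj v.1 v.2 w.1 w.2 (congrArg Subtype.val h)
    · obtain ⟨a, b, e⟩ := SNineThree.CentTau.inE6_form p hp
      exact ⟨(a, b), Subtype.ext e⟩
  rw [← Nat.card_eq_of_bijective f hf, Nat.card_prod, Nat.card_fin]

/-- Two commuting elements of exponent three go into the standard subgroup. -/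
theorem exists_conj_stdE {p q : P6} (hp : p ^ 3 = 1) (hq : q ^ 3 = 1) (hpq : p * q = q * p) :
    ∃ c : P6, InE6 (c * p * c⁻¹) ∧ InE6 (c * q * c⁻¹) := by
  haveI : Fact (Nat.Prime 3) := ⟨Nat.prime_three⟩
  set T := closure ({p, q} : Set P6)
  have hc : IsMulCommutative T := by
    refine Subgroup.isMulCommutative_closure ?_
    rintro x (rfl | rfl) y (rfl | rfl)
    exacts [rfl, hpq, hpq.symm, rfl]
  have hT : IsPGroup 3 T := fun t => ⟨1, by
    obtain ⟨t, ht⟩ := t
    refine Subtype.ext ?_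
    show t ^ 3 ^ 1 = 1
    induction ht using closure_induction with
    | mem x hx => rcases hx with rfl | rfl <;> simpa
    | one => exact one_pow _
    | mul x y hx hy h1 h2 =>
      have e : Commute x y := congrArg Subtype.val (hc.is_comm.comm ⟨x, hx⟩ ⟨y, hy⟩)
      rw [e.mul_pow, h1, h2, one_mul]
    | inv x _ h1 => rw [inv_pow, h1, inv_one]⟩
  obtain ⟨P, hP⟩ := hT.exists_le_sylow
  have hi : ¬ 3 ∣ stdE.index := fun hd => by
    have h := stdE.card_mul_index
    rw [card_stdE, Nat.card_perm, Nat.card_fin] at h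
    simp [Nat.factorial] at h
    omega
  let Q : Sylow 3 P6 := (IsPGroup.of_card (n := 2) card_stdE).toSylow hi
  obtain ⟨c, hc⟩ := MulAction.exists_smul_eq P6 P Q
  have key : ∀ x ∈ T, InE6 (c * x * c⁻¹) := fun x hx => by
    have h : c * x * c⁻¹ ∈ ((c • P : Sylow 3 P6) : Subgroup P6) := by
      rw [Sylow.coe_subgroup_smul]
      exact Subgroup.smul_mem_pointwise_smul x (MulAut.conj c) _ (hP hx)
    rw [hc] at h
    exact h
  exact ⟨c, key p (subset_closure (Set.mem_insert _ _)),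
    key q (subset_closure (Set.mem_insert_of_mem _ rfl))⟩

universe u

variable {M : Type u} [Group M]

/-- **A frame in a group isomorphic to `S₆` is the standard one up to an automorphism.** -/
theorem exists_frame (ψ : P6 ≃* M) (g h A B S : M) (hg3 : g ^ 3 = 1) (hg1 : g ≠ 1)
    (hh3 : h ^ 3 = 1) (hh1 : h ≠ 1) (hgh : g * h = h * g) (hA : A * A = 1) (hB : B * B = 1)
    (hS : S * S = 1) (hAg : A * g = g⁻¹ * A) (hAh : A * h = h * A) (hBg : B * g = g * B)
    (hBh : B * h = h⁻¹ * B) (hSg : S * g = h * S) (hSA : S * A = B * S) :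
    ∃ φ : P6 ≃* M, φ za = g ∧ φ zb = h ∧ φ sa = A ∧ φ sb = B ∧ φ Ta = S := by
  -- independence
  have hnd : h ≠ g ∧ h ≠ g⁻¹ := by
    have key : ∀ x : M, A * x = x⁻¹ * A → A * x = x * A → x ^ 3 = 1 → x = 1 := fun x h1 h2 h3 => by
      have e : x⁻¹ = x := mul_right_cancel (h1.symm.trans h2)
      rw [inv_eq_iff_mul_eq_one] at e
      rwa [pow_succ, pow_two, e, one_mul] at h3
    constructor <;> intro e <;> refine hg1 (key g hAg ?_ hg3) <;> rw [e] at hAh
    · exact hAh
    · have h1 : Commute A g⁻¹ := hAh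
      simpa using h1.inv_right.eq
  -- into the standard Sylow subgroup
  obtain ⟨c, hcg, hch⟩ := exists_conj_stdE (p := ψ.symm g) (q := ψ.symm h)
    (by rw [← map_pow, hg3, map_one]) (by rw [← map_pow, hh3, map_one])
    (by rw [← map_mul, ← map_mul, hgh])
  obtain ⟨ψ1, hψ1⟩ : ∃ ψ1 : P6 ≃* M, ∀ x, ψ1.symm x = c * ψ.symm x * c⁻¹ :=
    ⟨(ψ.symm.trans (MulAut.conj c)).symm, fun x => rfl⟩
  rw [← hψ1] at hcg hch
  have hconj : ψ1.symm h = ψ1.symm S * ψ1.symm g * (ψ1.symm S)⁻¹ := by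
    rw [← map_inv, ← map_mul, ← map_mul, hSg, mul_inv_cancel_right]
  have hconj' : ψ1.symm g = ψ1.symm S * ψ1.symm h * (ψ1.symm S)⁻¹ := by
    rw [← map_inv, ← map_mul, ← map_mul]
    congr 1
    calc g = S * (S * g) * 1 := by rw [mul_one, ← mul_assoc, hS, one_mul]
      _ = S * (h * S) * (S * S)⁻¹ := by rw [hSg, hS, inv_one]
      _ = _ := by group
  -- both are single cycles after an automorphism
  obtain ⟨ψ2, h2g, h2h⟩ : ∃ ψ2 : P6 ≃* M, ψ2.symm g ∈ singles ∧ ψ2.symm h ∈ singles := by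
    by_cases hs : ψ1.symm g ∈ singles
    · refine ⟨ψ1, hs, ?_⟩
      rw [hconj]
      exact single_conj _ hs (hconj ▸ hch)
    · refine ⟨outer.symm.trans ψ1, ?_, ?_⟩
      · exact outer_double hcg (fun e => hg1 (ψ1.symm.map_eq_one_iff.1 e)) hs
      · refine outer_double hch (fun e => hh1 (ψ1.symm.map_eq_one_iff.1 e)) fun hs' => hs ?_
        rw [hconj']
        exact single_conj _ hs' (hconj' ▸ hcg)
  obtain ⟨k, l, m, d, -, hdg, hdh⟩ := pair_conj _ h2g _ h2h
    (fun e => hnd.1 (ψ2.symm.injective e))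
    (fun e => hnd.2 (ψ2.symm.injective (e.trans (map_inv ψ2.symm g).symm)))
  obtain ⟨ψ3, h3g, h3h⟩ : ∃ ψ3 : P6 ≃* M, ψ3 za = g ∧ ψ3 zb = h :=
    ⟨(MulAut.conj d).trans ψ2, by
      constructor <;> simp [MulAut.conj_apply, hdg, hdh]⟩
  -- the two transpositions
  obtain ⟨i, hi⟩ := first_cases (x := ψ3.symm A) (by rw [← map_mul, hA, map_one])
    (ψ3.injective (by simp [h3g, hAg])) (ψ3.injective (by simp [h3h, hAh]))
  obtain ⟨j, hj⟩ := second_cases (x := ψ3.symm B) (by rw [← map_mul, hB, map_one])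
    (ψ3.injective (by simp [h3g, hBg])) (ψ3.injective (by simp [h3h, hBh]))
  obtain ⟨f1, f2, -, -⟩ := frame_fix
  have c1 : Commute za zb := f1
  have hsb : za * sb = sb * za := by decide +kernel
  set d2 : P6 := za ^ i.1 * zb ^ j.1 with hd2
  obtain ⟨φ, hφ⟩ : ∃ φ : P6 ≃* M, ∀ x, φ x = ψ3 (d2 * x * d2⁻¹) :=
    ⟨(MulAut.conj d2).trans ψ3, fun x => rfl⟩
  have hza : d2 * za * d2⁻¹ = za := by
    rw [(((Commute.refl za).pow_left _).mul_left ((c1.symm).pow_left _)).eq, mul_inv_cancel_right]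
  have hzb : d2 * zb * d2⁻¹ = zb := by
    rw [((c1.pow_left _).mul_left ((Commute.refl zb).pow_left _)).eq, mul_inv_cancel_right]
  have hdA : d2 * sa * d2⁻¹ = ψ3.symm A := by
    rw [← hi, hd2, mul_assoc (za ^ i.1), ((show Commute zb sa from f2).pow_left _).eq]; group
  have hdB : d2 * sb * d2⁻¹ = ψ3.symm B := by
    rw [← hj, hd2, (c1.pow_pow _ _).eq, mul_assoc (zb ^ j.1), ((show Commute za sb from hsb).pow_left _).eq]
    group
  have p1 : φ za = g := by rw [hφ, hza, h3g]
  have p2 : φ zb = h := by rw [hφ, hzb, h3h]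
  have p3 : φ sa = A := by rw [hφ, hdA, ψ3.apply_symm_apply]
  have p4 : φ sb = B := by rw [hφ, hdB, ψ3.apply_symm_apply]
  refine ⟨φ, p1, p2, p3, p4, φ.eq_symm_apply.1 ?_⟩
  refine (third_unique (x := φ.symm S) (by rw [← map_mul, hS, map_one])
    (φ.injective (by simp [p1, p2, hSg])) (φ.injective (by simp [p3, p4, hSA]))).symm

/-- An endomorphism fixing the frame is trivial. -/
theorem swap_cases : ∀ i j : Fin 6, swap i j * sa = sa * swap i j →
    swap i j * swap 4 5 = swap 4 5 * swap i j → swap i j ≠ sa → swap i j ≠ swap 4 5 →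
    swap i j ≠ (1 : P6) → swap i j = (swap 2 3 : P6) := by decide +kernel

theorem end_frame_eq_id (θ : P6 →* P6) (hinj : Function.Injective θ) (h1 : θ za = za)
    (h2 : θ zb = zb) (h3 : θ sa = sa) (h4 : θ sb = sb) (p : P6) : θ p = p := by
  obtain ⟨-, -, e45, e12⟩ := frame_fix
  have h45 : θ (swap 4 5) = swap 4 5 := by
    rw [← e45, map_mul, map_mul, map_inv, h2, h4]
  have h12 : θ (swap 1 2) = swap 1 2 := by
    rw [← e12, map_mul, map_mul, map_inv, h1, h3]
  have h23 : θ (swap 2 3) = swap 2 3 := by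
    have hc : ∀ q : P6, q * swap 2 3 = swap 2 3 * q → θ q = q →
        θ (swap 2 3) * q = q * θ (swap 2 3) := fun q hq hθ => by
      conv_lhs => rw [← hθ, ← map_mul, ← hq, map_mul, hθ]
    obtain ⟨r, hr⟩ : ∃ r : P6, r * sa * r⁻¹ = swap 2 3 := ⟨swap 0 2 * swap 1 3, by decide +kernel⟩
    have hform : θ (swap 2 3) = swap (θ r 0) (θ r 1) := by
      rw [← hr, map_mul, map_mul, map_inv, h3]
      exact (swap_apply_apply (θ r) 0 1).symm
    have e1 := hc sa (by decide +kernel) h3
    have e2 := hc (swap 4 5) (by decide +kernel) h45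
    rw [hform] at e1 e2 ⊢
    refine swap_cases _ _ e1 e2 ?_ ?_ ?_ <;> rw [← hform] <;> intro e
    · exact absurd (hinj (e.trans h3.symm)) (by decide +kernel)
    · exact absurd (hinj (e.trans h45.symm)) (by decide +kernel)
    · exact absurd (hinj (e.trans θ.map_one.symm)) (by decide +kernel)
  have h : p ∈ Submonoid.closure (Set.range fun a : Fin 5 => (swap a.castSucc a.succ : P6)) := by
    rw [Equiv.Perm.mclosure_swap_castSucc_succ]; trivial
  induction h using Submonoid.closure_induction with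
  | mem x hx =>
    obtain ⟨a, rfl⟩ := hx
    fin_cases a
    exacts [h3, h12, h23, h4, h45]
  | one => exact map_one _
  | mul x y _ _ hx hy => rw [map_mul, hx, hy]

end CfsgLib.SpSixThree.Loc
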