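import Cfsg.Agent.Lib.SpSixThree.Loc
import Cfsg.Agent.Lib.SpSixThree.LocModel
import Cfsg.Agent.S3333

/-!
# Statement S3342, local centralizers: the centralizer of `e`
-/

set_option autoImplicit false
set_option maxRecDepth 100000
set_option maxHeartbeats 800000
set_option linter.unusedSectionVars false
set_option linter.style.haveILetI false

namespace CfsgLib.SpSixThree.Loc

open Subgroup
open CfsgLib.PSpAmalgam (V3 zV eV fV gV actR actS)
open CfsgLib.SNineThree.CentTau (P6 za zb sa Ta)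

universe u

theorem e_facts : eV.1 ≠ (0 : ZMod 3) ∧ (eV : V3) ≠ 0 ∧ (((0, 1, 0) : V3) ≠ 0) ∧
    (((0, 0, 1) : V3) ≠ 0) := by decide +kernel

theorem actS_g : actS ((0, 1, 0) : V3) = (0, 0, 1) := by decide +kernel

theorem neg_g : ((0, -1, 0) : V3) = -(0, 1, 0) ∧ ((0, 0, -1) : V3) = -(0, 0, 1) ∧
    ((-1, 0, 0) : V3) = -eV := by decide +kernel

theorem flip_shape : (((0 : ZMod 3), -(1 : ZMod 3), (0 : ZMod 3)) : V3) = (0, -1, 0) := rfl

/-- The rotation and the reflection of the plane. -/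
def dAct : DihedralGroup 4 → V3 → V3
  | DihedralGroup.r i => (fun y : V3 => (y.1, -y.2.2, y.2.1))^[i.val]
  | DihedralGroup.sr i => fun y =>
    let z := (fun y : V3 => (y.1, -y.2.2, y.2.1))^[i.val] y
    (z.1, -z.2.1, z.2.2)

theorem dAct_faithful : ∀ d : DihedralGroup 4, dAct d (0, 1, 0) = (0, 1, 0) →
    dAct d (0, 0, 1) = (0, 0, 1) → d = 1 := by decide +kernel

/-- The homomorphism from the dihedral group of order eight given by a rotation and a reflection. -/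
def dihHom {N : Type u} [Group N] (X Y : N) (hX : X ^ 4 = 1) (hY : Y * Y = 1)
    (hYX : Y * X * Y = X⁻¹) : DihedralGroup 4 →* N :=
  MonoidHom.mk' (fun d => match d with
    | DihedralGroup.r i => X ^ i.val
    | DihedralGroup.sr i => Y * X ^ i.val) (by
    have hadd : ∀ i j : ZMod 4, X ^ (i + j).val = X ^ i.val * X ^ j.val := fun i j => by
      rw [← pow_add, ZMod.val_add, ← pow_mod_natCard]
      conv_rhs => rw [← Nat.mod_add_div (i.val + j.val) 4, pow_add, pow_mul, hX, one_pow, mul_one]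
      rw [pow_mod_natCard]
    have hneg : ∀ i : ZMod 4, X ^ (-i).val = (X ^ i.val)⁻¹ := fun i => by
      refine eq_inv_of_mul_eq_one_left ?_
      rw [← hadd, neg_add_cancel, ZMod.val_zero, pow_zero]
    have hYi : Y⁻¹ = Y := inv_eq_of_mul_eq_one_right hY
    have hflip : ∀ i : ZMod 4, Y * X ^ i.val * Y = X ^ (-i).val := fun i => by
      rw [hneg, ← inv_pow, ← hYX]
      conv_rhs => rw [show Y * X * Y = Y * X * Y⁻¹ by rw [hYi]]
      rw [conj_pow, hYi]
    rintro (i | i) (j | j)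
    · exact hadd i j
    · show Y * X ^ (j - i).val = X ^ i.val * (Y * X ^ j.val)
      rw [show j - i = -i + j by abel, hadd, ← hflip, ← mul_assoc, ← mul_assoc, ← mul_assoc, hY,
        one_mul, mul_assoc]
    · show Y * X ^ (i + j).val = Y * X ^ i.val * X ^ j.val
      rw [hadd, mul_assoc]
    · show X ^ (j - i).val = Y * X ^ i.val * (Y * X ^ j.val)
      rw [show j - i = -i + j by abel, hadd, ← hflip]; simp only [mul_assoc])

variable {G : Type u} [Group G] {B : Base G} (E : Eight B)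

theorem ε2_sq : E.ε2 * E.ε2 = 1 := by
  rw [Eight.ε2, show B.β * E.ε * B.β⁻¹ * (B.β * E.ε * B.β⁻¹) = B.β * (E.ε * E.ε) * B.β⁻¹ by group,
    E.ε_sq, mul_one, mul_inv_cancel]

theorem ε3_sq : E.ε3 * E.ε3 = 1 := by
  rw [Eight.ε3, show B.β⁻¹ * E.ε * B.β * (B.β⁻¹ * E.ε * B.β) = B.β⁻¹ * (E.ε * E.ε) * B.β by group,
    E.ε_sq, mul_one, inv_mul_cancel]

theorem ε_ε3 : E.ε * E.ε3 = E.ε3 * E.ε := by
  have h := congrArg (fun x => B.β⁻¹ * x * B.β) E.ε_comm
  simp only [Eight.ε3]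
  calc E.ε * (B.β⁻¹ * E.ε * B.β) = B.β⁻¹ * (B.β * E.ε * B.β⁻¹ * E.ε) * B.β := by group
    _ = B.β⁻¹ * (E.ε * (B.β * E.ε * B.β⁻¹)) * B.β := h.symm
    _ = B.β⁻¹ * E.ε * B.β * E.ε := by group

theorem σ_ε2 : B.σ * E.ε2 = E.ε3 * B.σ := by
  have hσ : B.σ⁻¹ = B.σ := inv_eq_of_mul_eq_one_right B.σ_sq
  have h1 : B.σ * B.β = B.β⁻¹ * B.σ := by
    rw [← B.σ_β, mul_assoc (B.σ * B.β), B.σ_sq, mul_one]
  have h2 : B.σ * B.β⁻¹ = B.β * B.σ := by
    rw [← B.σ_β, ← mul_assoc, ← mul_assoc, B.σ_sq, one_mul]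
  simp only [Eight.ε2, Eight.ε3]
  calc B.σ * (B.β * E.ε * B.β⁻¹) = B.σ * B.β * E.ε * B.β⁻¹ := by group
    _ = B.β⁻¹ * (B.σ * E.ε) * B.β⁻¹ := by rw [h1]; group
    _ = B.β⁻¹ * (E.ε * B.σ) * B.β⁻¹ := by rw [E.ε_σ]
    _ = B.β⁻¹ * E.ε * (B.σ * B.β⁻¹) := by group
    _ = _ := by rw [h2]; group

variable [Finite G]

/-- **The centralizer of `e`.** -/
theorem centE : StmtCentE.{u} := by
  intro G _ _ B E _
  classical
  haveI : Fact (Nat.Prime 3) := ⟨Nat.prime_three⟩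
  let π : V3 →+ ZMod 3 := AddMonoidHom.mk' (fun y => y.1) fun _ _ => rfl
  set U := centralizer ({B.v eV} : Set G) with hUdef
  have hJU : B.J ≤ U := fun g hg => by
    obtain ⟨y, rfl⟩ := (B.mem_J g).1 hg
    exact mem_centralizer_singleton_iff.2 (v_comm B _ _)
  obtain ⟨K, hKU, hUK, hKv, hcov, hinv, hsyl⟩ := exists_transfer E U hJU
    (IsPGroup.of_card (n := 1) (by
      rw [Nat.card_congr Multiplicative.toAdd, Nat.card_zmod, pow_one])) π
    fun n hn _ k hk => by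
      have he := code_fix (hk eV) (mem_centralizer_singleton_iff.1 hn)
      exact ⟨(fix_single k he).1, fix_single_fst k he⟩
  have hKc : ∀ k ∈ K, k * B.v eV = B.v eV * k := fun k hk =>
    mem_centralizer_singleton_iff.1 (hKU hk)
  obtain ⟨hnine, hnorm⟩ := exists_nine (x0 := eV) (π := π) e_facts.1 hKc hKv hsyl E
  set S : Subgroup K := B.J.subgroupOf K with hSdef
  -- the named elements
  have hgK : B.v (0, 1, 0) ∈ K := (hKv _).2 rfl
  have hhK : B.v (0, 0, 1) ∈ K := (hKv _).2 rfl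
  have hU_of : ∀ {w : G}, w * B.v eV * w⁻¹ = B.v eV → w ∈ U := fun {w} h =>
    mem_centralizer_singleton_iff.2 (mul_inv_eq_iff_eq_mul.1 h)
  have hε2U : E.ε2 ∈ U := hU_of (by rw [conj_ε2]; rfl)
  have hε3U : E.ε3 ∈ U := hU_of (by rw [conj_ε3]; rfl)
  have hσU : B.σ ∈ U := hU_of (by rw [B.conj_σ]; rfl)
  have hε2K : E.ε2 ∈ K := hinv _ hε2U (ε2_sq E)
  have hε3K : E.ε3 ∈ K := hinv _ hε3U (ε3_sq E)
  have hσK : B.σ ∈ K := hinv _ hσU B.σ_sq
  have hN_of : ∀ {w : G} (φ : V3 → V3), Function.Surjective φ →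
      (∀ x, w * B.v x * w⁻¹ = B.v (φ x)) → ∀ hw : w ∈ K,
      (⟨w, hw⟩ : K) ∈ normalizer (S : Set K) := fun φ hφ h hw =>
    (hnorm _).2 (mem_normalizer_of_conj B hφ h)
  let s2 : normalizer (S : Set K) :=
    ⟨⟨E.ε2, hε2K⟩, hN_of _ (fun x => ⟨(x.1, -x.2.1, x.2.2), by simp⟩) (conj_ε2 E) hε2K⟩
  let s3 : normalizer (S : Set K) :=
    ⟨⟨E.ε3, hε3K⟩, hN_of _ (fun x => ⟨(x.1, x.2.1, -x.2.2), by simp⟩) (conj_ε3 E) hε3K⟩
  let ts : normalizer (S : Set K) :=
    ⟨⟨B.σ, hσK⟩, hN_of _ (fun x => ⟨actS x, rfl⟩) B.conj_σ hσK⟩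
  have hval : ∀ a b : normalizer (S : Set K), ((a : K) : G) = ((b : K) : G) → a = b :=
    fun a b h => Subtype.ext (Subtype.ext h)
  have hσs : ts * s2 = s3 * ts := hval _ _ (σ_ε2 E)
  have hts : ts * ts = 1 := hval _ _ B.σ_sq
  have hs2 : s2 * s2 = 1 := hval _ _ (ε2_sq E)
  have hs3 : s3 * s3 = 1 := hval _ _ (ε3_sq E)
  have h23 : s2 * s3 = s3 * s2 := hval _ _ (by
    show E.ε2 * E.ε3 = E.ε3 * E.ε2
    have hb : B.β * (B.β * E.ε * B.β⁻¹) * B.β⁻¹ = B.β⁻¹ * E.ε * B.β := by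
      have e : B.β * B.β = B.β⁻¹ := eq_inv_of_mul_eq_one_left B.β_cube
      calc B.β * (B.β * E.ε * B.β⁻¹) * B.β⁻¹ = (B.β * B.β) * E.ε * (B.β * B.β)⁻¹ := by group
        _ = _ := by rw [e, inv_inv]
    simp only [Eight.ε2, Eight.ε3]
    rw [← hb]
    calc B.β * E.ε * B.β⁻¹ * (B.β * (B.β * E.ε * B.β⁻¹) * B.β⁻¹)
        = B.β * (E.ε * (B.β * E.ε * B.β⁻¹)) * B.β⁻¹ := by group
      _ = B.β * (B.β * E.ε * B.β⁻¹ * E.ε) * B.β⁻¹ := by rw [E.ε_comm]
      _ = _ := by group)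
  set X := s2 * ts with hXdef
  have hX2 : X * X = s2 * s3 := by
    calc s2 * ts * (s2 * ts) = s2 * (ts * s2) * ts := by group
      _ = s2 * s3 * (ts * ts) := by rw [hσs]; group
      _ = _ := by rw [hts, mul_one]
  have hX4 : X ^ 4 = 1 := by
    rw [show (4 : ℕ) = 2 * 2 from rfl, pow_mul, pow_two X, hX2, pow_two]
    calc s2 * s3 * (s2 * s3) = s2 * (s3 * s2) * s3 := by group
      _ = (s2 * s2) * (s3 * s3) := by rw [← h23]; group
      _ = 1 := by rw [hs2, hs3, one_mul]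
  have hYX : s2 * X * s2 = X⁻¹ := by
    rw [hXdef, mul_inv_rev, inv_eq_of_mul_eq_one_right hts, inv_eq_of_mul_eq_one_right hs2,
      ← mul_assoc s2 s2, hs2, one_mul]
  let F := dihHom X s2 hX4 hs2 hYX
  -- the action of the dihedral group
  have hXact : ∀ y, ((X : K) : G) * B.v y * ((X : K) : G)⁻¹ = B.v (y.1, -y.2.2, y.2.1) := fun y => by
    show E.ε2 * B.σ * B.v y * (E.ε2 * B.σ)⁻¹ = _
    rw [show E.ε2 * B.σ * B.v y * (E.ε2 * B.σ)⁻¹ = E.ε2 * (B.σ * B.v y * B.σ⁻¹) * E.ε2⁻¹ by group,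
      B.conj_σ, conj_ε2]
    rfl
  have hFact : ∀ d y, ((F d : K) : G) * B.v y * ((F d : K) : G)⁻¹ = B.v (dAct d y) := by
    rintro (i | i) y
    · show (((X ^ i.val : normalizer (S : Set K)) : K) : G) * _ * _⁻¹ = _
      rw [SubgroupClass.coe_pow, SubgroupClass.coe_pow]
      exact conj_iterate B hXact i.val y
    · rw [show F (DihedralGroup.sr i) = s2 * X ^ i.val from rfl]
      rw [Subgroup.coe_mul, Subgroup.coe_mul, SubgroupClass.coe_pow, SubgroupClass.coe_pow]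
      rw [show ((s2 : K) : G) = E.ε2 from rfl]
      rw [show ∀ a b w : G, a * b * w * (a * b)⁻¹ = a * (b * w * b⁻¹) * a⁻¹ from
        fun a b w => by group, conj_iterate B hXact i.val y, conj_ε2]
      rfl
  let S' : Subgroup (normalizer (S : Set K)) := S.subgroupOf (normalizer (S : Set K))
  let q : DihedralGroup 4 →* normalizer (S : Set K) ⧸ S' := (QuotientGroup.mk' S').comp F
  have hq : Function.Bijective q := by
    constructor
    · rw [injective_iff_map_eq_one]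
      intro d hd
      have hmem : ((F d : K) : G) ∈ B.J := (QuotientGroup.eq_one_iff (F d)).1 hd
      obtain ⟨w, hw⟩ := (B.mem_J _).1 hmem
      have hfix : ∀ y, dAct d y = y := fun y => B.v_inj (by
        rw [← hFact, ← hw, v_comm, mul_inv_cancel_right])
      exact dAct_faithful d (hfix _) (hfix _)
    · intro z
      induction z using QuotientGroup.induction_on with
      | _ n =>
      obtain ⟨x, k, hnk, hk⟩ := exists_code E ((hnorm (n : K)).1 n.2)
      obtain ⟨hr, hi⟩ := fix_single k (code_fix (hk eV) (hKc _ (n : K).2))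
      obtain ⟨⟨i, j, l⟩, r, t⟩ := k
      simp only at hr hi
      subst hr hi
      set W : normalizer (S : Set K) := s2 ^ j.val * s3 ^ l.val * ts ^ t.val with hW
      have hWn : ((n : K) : G) = B.v x * ((W : K) : G) := by
        rw [hnk, hW]
        simp only [Subgroup.coe_mul, SubgroupClass.coe_pow, w8, Fin.val_zero, pow_zero, one_mul,
          mul_one]
        rfl
      have hnW : (QuotientGroup.mk n : normalizer (S : Set K) ⧸ S') = QuotientGroup.mk W := by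
        refine (QuotientGroup.eq.2 ?_).symm
        show (((W⁻¹ * n : normalizer (S : Set K)) : K) : G) ∈ B.J
        rw [Subgroup.coe_mul, Subgroup.coe_mul, InvMemClass.coe_inv, InvMemClass.coe_inv, hWn]
        have hWN : ((W : K) : G) ∈ normalizer (B.J : Set G) := (hnorm _).1 W.2
        have h := (mem_normalizer_iff.1 (inv_mem hWN) _).1 (v_mem B x)
        rw [inv_inv] at h
        rwa [← mul_assoc]
      rw [hnW, ← QuotientGroup.mk'_apply, hW, map_mul, map_mul, map_pow, map_pow, map_pow]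
      set m := QuotientGroup.mk' S'
      have m2 : m s2 ∈ q.range := ⟨DihedralGroup.sr 0, by
        show m (s2 * X ^ (0 : ZMod 4).val) = m s2
        rw [ZMod.val_zero, pow_zero, mul_one]⟩
      have mt : m ts ∈ q.range := ⟨DihedralGroup.sr 1, by
        show m (s2 * X ^ (1 : ZMod 4).val) = m ts
        rw [show (1 : ZMod 4).val = 1 from rfl, pow_one, hXdef, ← mul_assoc, hs2, one_mul]⟩
      have m3 : m s3 ∈ q.range := by
        rw [show s3 = ts * s2 * ts by rw [hσs, mul_assoc, hts, mul_one], map_mul, map_mul]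
        exact mul_mem (mul_mem mt m2) mt
      exact mul_mem (mul_mem (pow_mem m2 _) (pow_mem m3 _)) (pow_mem mt _)
  let eN := (MulEquiv.ofBijective q hq).symm
  obtain ⟨P, hP⟩ := hnine.sylow
  rcases Cfsg.Agent.S3333.result P S hP hnine.card hnine.cent eN hnine.loc with hn | ⟨⟨e6⟩⟩
  · left
    intro c hc
    obtain ⟨y, hy⟩ := hcov c hc
    have := normalizer_eq_top_iff.2 hn
    rw [show c = B.v y * ((B.v y)⁻¹ * c) by group]
    exact mul_mem (le_normalizer (v_mem B y)) ((hnorm ⟨_, hy⟩).1 (this ▸ mem_top _))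
  right
  have conj_comm : ∀ {w : G} {x x' : V3}, w * B.v x * w⁻¹ = B.v x' →
      w * B.v x = B.v x' * w := fun h => mul_inv_eq_iff_eq_mul.1 h
  obtain ⟨g2n, g3n, -⟩ := neg_g
  obtain ⟨φ₀, p1, p2, p3, p4, p5⟩ := exists_frame e6.symm (⟨_, hgK⟩ : K) ⟨_, hhK⟩ ⟨_, hε2K⟩
    ⟨_, hε3K⟩ ⟨_, hσK⟩ (Subtype.ext (v_cube B _))
    (fun e => e_facts.2.2.1 ((v_eq_one B).1 (congrArg Subtype.val e)))
    (Subtype.ext (v_cube B _))
    (fun e => e_facts.2.2.2 ((v_eq_one B).1 (congrArg Subtype.val e)))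
    (Subtype.ext (v_comm B _ _)) (Subtype.ext (ε2_sq E)) (Subtype.ext (ε3_sq E))
    (Subtype.ext B.σ_sq)
    (Subtype.ext (by
      show E.ε2 * B.v (0, 1, 0) = (B.v (0, 1, 0))⁻¹ * E.ε2
      rw [← v_neg]; exact conj_comm (by rw [conj_ε2, ← g2n])))
    (Subtype.ext (conj_comm (by rw [conj_ε2]; simp)))
    (Subtype.ext (conj_comm (by rw [conj_ε3]; simp)))
    (Subtype.ext (by
      show E.ε3 * B.v (0, 0, 1) = (B.v (0, 0, 1))⁻¹ * E.ε3
      rw [← v_neg]; exact conj_comm (by rw [conj_ε3, ← g3n])))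
    (Subtype.ext (conj_comm (by rw [B.conj_σ, actS_g])))
    (Subtype.ext (σ_ε2 E))
  let φ : P6 →* G := K.subtype.comp φ₀.toMonoidHom
  have hεe : ∀ c : G, c * B.v eV = B.v eV * c →
      E.ε * c * E.ε⁻¹ * B.v eV = B.v eV * (E.ε * c * E.ε⁻¹) := fun c hc => by
    have h : E.ε * B.v eV * E.ε⁻¹ = (B.v eV)⁻¹ := by
      rw [E.conj_ε, ← v_neg, ← neg_g.2.2]; rfl
    have h' : Commute (E.ε * c * E.ε⁻¹) (E.ε * B.v eV * E.ε⁻¹) :=
      (show Commute c (B.v eV) from hc).map (MulAut.conj E.ε).toMonoidHom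
    rw [h] at h'
    simpa using h'.inv_right.eq
  have hεK : ∀ p : P6, E.ε * φ p * E.ε⁻¹ ∈ K := fun p => by
    have h : p ∈ Submonoid.closure
        (Set.range fun a : Fin 5 => (Equiv.swap a.castSucc a.succ : P6)) := by
      rw [Equiv.Perm.mclosure_swap_castSucc_succ]; trivial
    induction h using Submonoid.closure_induction with
    | mem x hx =>
      obtain ⟨a, rfl⟩ := hx
      refine hinv _ (mem_centralizer_singleton_iff.2 (hεe _ (hKc _ (φ₀ _).2))) ?_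
      calc E.ε * φ (Equiv.swap a.castSucc a.succ) * E.ε⁻¹ *
            (E.ε * φ (Equiv.swap a.castSucc a.succ) * E.ε⁻¹)
          = E.ε * (φ (Equiv.swap a.castSucc a.succ) * φ (Equiv.swap a.castSucc a.succ)) *
              E.ε⁻¹ := by group
        _ = 1 := by rw [← map_mul, Equiv.swap_mul_self, map_one, mul_one, mul_inv_cancel]
    | one => rw [map_one, mul_one, mul_inv_cancel]; exact one_mem _
    | mul x y _ _ hx hy =>
      rw [map_mul, show E.ε * (φ x * φ y) * E.ε⁻¹ =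
        E.ε * φ x * E.ε⁻¹ * (E.ε * φ y * E.ε⁻¹) by group]
      exact mul_mem hx hy
  let θ : P6 →* P6 := φ₀.symm.toMonoidHom.comp
    (MonoidHom.mk' (fun p => (⟨_, hεK p⟩ : K)) fun a b => Subtype.ext (by
      show E.ε * φ (a * b) * E.ε⁻¹ = E.ε * φ a * E.ε⁻¹ * (E.ε * φ b * E.ε⁻¹)
      rw [map_mul]; group))
  have hθinj : Function.Injective θ := fun a b h => by
    have h' := congrArg Subtype.val (φ₀.symm.injective h)
    exact φ₀.injective (Subtype.ext ((MulAut.conj E.ε).injective h'))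
  have hθ : ∀ p w (hw : w ∈ K), φ₀ p = ⟨w, hw⟩ → E.ε * w * E.ε⁻¹ = w → θ p = p := by
    intro p w hw hp he
    show φ₀.symm _ = p
    rw [φ₀.symm_apply_eq, hp]
    refine Subtype.ext ?_
    show E.ε * ((φ₀ p : K) : G) * E.ε⁻¹ = w
    rw [hp, he]
  have hcomm : ∀ p, θ p = p := end_frame_eq_id θ hθinj
    (hθ za _ _ p1 (by rw [E.conj_ε]; simp)) (hθ zb _ _ p2 (by rw [E.conj_ε]; simp))
    (hθ sa _ _ p3 (by rw [show E.ε * E.ε2 = E.ε2 * E.ε from E.ε_comm, mul_inv_cancel_right]))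
    (hθ sb _ _ p4 (by rw [ε_ε3, mul_inv_cancel_right]))
  refine ⟨{ φ := φ, φ_inj := K.subtype_injective.comp φ₀.injective,
            φ_e := fun p => hKc _ (φ₀ p).2, φ_cov := ?_, φ_g := ?_, φ_h := ?_, φ_ε2 := ?_,
            φ_ε3 := ?_, φ_σ := ?_, φ_ε := ?_ }⟩
  · intro c hc
    obtain ⟨y, hy⟩ := hcov c (mem_centralizer_singleton_iff.2 hc)
    have hy' : B.v (0, y.2) ∈ K := (hKv _).2 rfl
    obtain ⟨p, hp⟩ := φ₀.surjective (⟨_, mul_mem hy' hy⟩ : K)
    refine ⟨y.1.val, p, ?_⟩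
    show c = B.v eV ^ y.1.val * ((φ₀ p : K) : G)
    rw [hp]
    show c = B.v eV ^ y.1.val * (B.v (0, y.2) * ((B.v y)⁻¹ * c))
    rw [← mul_assoc, ← v_nsmul, ← B.v_add,
      show y.1.val • eV + ((0, y.2) : V3) = y by rw [val_nsmul]; ext <;> simp [eV],
      mul_inv_cancel_left]
  · exact congrArg Subtype.val p1
  · exact congrArg Subtype.val p2
  · exact congrArg Subtype.val p3
  · exact congrArg Subtype.val p4
  · exact congrArg Subtype.val p5
  · intro p
    have h : (⟨_, hεK p⟩ : K) = φ₀ p := φ₀.symm_apply_eq.1 (hcomm p)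
    exact (mul_inv_eq_iff_eq_mul.1 (congrArg Subtype.val h)).symm

end CfsgLib.SpSixThree.Loc
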