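import Cfsg.Agent.Lib.SpSixThree.AutW
import Cfsg.Agent.Lib.SpSixThree.LocE

/-!
# Statement S3342, all signs: the centralizer of the first sign
-/

set_option autoImplicit false
set_option maxRecDepth 100000
set_option maxHeartbeats 400000
set_option linter.unusedSectionVars false
set_option linter.style.haveILetI false
set_option synthInstance.maxSize 4096
set_option synthInstance.maxHeartbeats 200000

namespace CfsgLib.SpSixThree.AutX

open Subgroup
open CfsgLib.PSpAmalgam (V3 zV zV' eV fV gV actR actS SL3)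
open CfsgLib.SpSixThree.Loc (dAct dAct_faithful dihHom)

theorem fix_plane : ∀ k : K8, act8 k (0, 1, 0) = (0, 1, 0) → act8 k (0, 0, 1) = (0, 0, 1) →
    ∃ i : Fin 2, k = ((i, 0, 0), 0, 0) := by decide +kernel

theorem fix_plane_cube : ∀ k : K8, act8 k (0, 1, 0) = (0, 1, 0) → act8 k (0, 0, 1) = (0, 0, 1) →
    (act8 k)^[3] eV = eV → act8 k eV = eV := by decide +kernel

theorem fix_first : ∀ k : K8, ((act8 k (0, 1, 0)).1 = 0 ∧ (act8 k (0, 0, 1)).1 = 0) →
    k.2.1 = 0 := by decide +kernel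

theorem plane_decomp : ∀ y : V3, y = y.1.val • eV + (y.2.1.val • ((0, 1, 0) : V3) + y.2.2.val • ((0, 0, 1) : V3)) := by
  decide +kernel

theorem sign_first : ∀ y : V3, (-y.1, y.2.1, y.2.2) = y ↔ y.1 = 0 := by decide +kernel

theorem g_h_ne : ((0, 1, 0) : V3) ≠ 0 ∧ ((0, 0, 1) : V3) ≠ 0 := by decide +kernel

theorem sign_plane : ∀ i : Fin 2, act8 ((i, 0, 0), 0, 0) (0, 1, 0) = (0, 1, 0) ∧
    act8 ((i, 0, 0), 0, 0) (0, 0, 1) = (0, 0, 1) := by decide +kernel

theorem sign_fix : ∀ i : Fin 2, act8 ((i, 0, 0), 0, 0) eV = eV → ∀ y : V3, act8 ((i, 0, 0), 0, 0) y = y := by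
  decide +kernel

theorem mem_zpowers_two {H : Type*} [Group H] {a x : H} (ha : a * a = 1) (hx : x ∈ zpowers a) :
    x = 1 ∨ x = a := by
  obtain ⟨n, rfl⟩ := mem_zpowers_iff.1 hx
  rcases Int.even_or_odd n with ⟨k, rfl⟩ | ⟨k, rfl⟩
  · left; rw [zpow_add, ← (Commute.refl a).mul_zpow, ha, one_zpow]
  · right; rw [zpow_add_one, mul_comm 2 k, zpow_mul, zpow_ofNat, pow_two,
      ← (Commute.refl a).mul_zpow, ha, one_zpow, one_mul]

universe u

variable {G : Type u} [Group G] {B : Base G} (E : Eight B)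

theorem conj_mem_normalizer {g : G} (h : ∀ y, g * B.v y * g⁻¹ ∈ B.J) [Finite G] :
    g ∈ normalizer (B.J : Set G) := by
  rw [Subgroup.mem_normalizer_iff_map_conj_eq]
  refine eq_of_le_of_card_ge ?_ (by rw [card_map_of_injective (MulEquiv.injective _)])
  rintro _ ⟨x, hx, rfl⟩
  obtain ⟨y, rfl⟩ := (B.mem_J x).1 hx
  exact h y

theorem comm_ε {y : V3} : B.v y * E.ε = E.ε * B.v y ↔ y.1 = 0 := by
  rw [← sign_first y]
  constructor
  · intro h
    refine B.v_inj ?_
    rw [← E.conj_ε, ← h, mul_inv_cancel_right]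
  · intro h
    have := E.conj_ε y
    rw [h, mul_inv_eq_iff_eq_mul] at this
    exact this.symm

theorem mem_J_of_code [Finite G] {n : G} {k : K8} (hk : ∀ y, n * B.v y * n⁻¹ = B.v (act8 k y))
    (hfix : ∀ y, act8 k y = y) : n ∈ B.J := by
  rw [← B.cent_J]
  refine mem_centralizer_iff.2 fun g hg => ?_
  obtain ⟨y, rfl⟩ := (B.mem_J g).1 hg
  have := hk y
  rw [hfix, mul_inv_eq_iff_eq_mul] at this
  exact this.symm

variable [Finite G] (hL : Loc8 B) (hCE : centralizer ({B.v eV} : Set G) ≤ normalizer (B.J : Set G))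

include hL hCE in
theorem card_cent_ε : Nat.card (centralizer ({E.ε} : Set G)) = 144 ∨
    Nat.card (centralizer ({E.ε} : Set G)) = 1440 := by
  classical
  haveI := Fact.mk Nat.prime_three
  set C := centralizer ({E.ε} : Set G) with hC
  let Z : Subgroup C := (zpowers E.ε).subgroupOf C
  have hεC : E.ε ∈ C := mem_centralizer_singleton_iff.2 rfl
  have hZc : ∀ z ∈ Z, ∀ c : C, c * z = z * c := by
    intro z hz c
    obtain ⟨n, hn⟩ := mem_zpowers_iff.1 (mem_subgroupOf.1 hz)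
    refine Subtype.ext ?_
    show (c : G) * z = z * c
    rw [← hn]
    exact ((show Commute (c : G) E.ε from mem_centralizer_singleton_iff.1 c.2).zpow_right n).eq
  haveI : Z.Normal := ⟨fun z hz c => by rw [hZc z hz c, mul_inv_cancel_right]; exact hz⟩
  have hZ : ∀ z : C, z ∈ Z → (z : G) = 1 ∨ (z : G) = E.ε := by
    intro z hz
    exact mem_zpowers_two E.ε_sq (mem_subgroupOf.1 hz)
  let π := QuotientGroup.mk' Z
  have hπs : Function.Surjective π := QuotientGroup.mk'_surjective Z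
  let S : Subgroup (C ⧸ Z) := (B.J.subgroupOf C).map π
  have hvC : ∀ {y : V3}, y.1 = 0 → B.v y ∈ C := fun h =>
    mem_centralizer_singleton_iff.2 ((comm_ε E).2 h)
  have hS : ∀ x : C ⧸ Z, x ∈ S ↔ ∃ (y : V3) (hy : y.1 = 0), x = π ⟨B.v y, hvC hy⟩ := by
    intro x
    constructor
    · rintro ⟨c, hc, rfl⟩
      obtain ⟨y, hy⟩ := (B.mem_J _).1 (mem_subgroupOf.1 hc)
      have hy0 : y.1 = 0 := (comm_ε E).1 (by
        rw [hy]; exact mem_centralizer_singleton_iff.1 c.2)
      exact ⟨y, hy0, congrArg π (Subtype.ext hy.symm)⟩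
    · rintro ⟨y, hy, rfl⟩
      exact ⟨_, mem_subgroupOf.2 (v_mem B y), rfl⟩
  -- equalities in the quotient lift
  have hlift : ∀ (c : C) (y y' : V3) (hy : y.1 = 0) (hy' : y'.1 = 0),
      π c * π ⟨B.v y, hvC hy⟩ * (π c)⁻¹ = π ⟨B.v y', hvC hy'⟩ → (c : G) * B.v y * (c : G)⁻¹ = B.v y' := by
    intro c y y' hy hy' h
    rw [← map_inv, ← map_mul, ← map_mul, QuotientGroup.mk'_eq_mk'] at h
    obtain ⟨z, hz, e⟩ := h
    have e' : (c : G) * B.v y * (c : G)⁻¹ * z = B.v y' := congrArg Subtype.val e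
    rcases hZ z hz with hz1 | hz1
    · rwa [hz1, mul_one] at e'
    · exfalso
      rw [hz1] at e'
      have hcε : Commute ((c : G) * B.v y * (c : G)⁻¹) E.ε := by
        have h1 : Commute (c : G) E.ε := mem_centralizer_singleton_iff.1 c.2
        exact (h1.mul_left (show Commute (B.v y) E.ε from (comm_ε E).2 hy)).mul_left h1.inv_left
      have h3 := congrArg (· ^ 3) e'
      simp only [hcε.mul_pow, v_cube B, conj_pow, mul_one, mul_inv_cancel, one_mul] at h3
      rw [pow_succ, pow_two, E.ε_sq, one_mul] at h3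
      have h := E.conj_ε eV
      rw [h3, one_mul, inv_one, mul_one] at h
      exact absurd (B.v_inj h) (by decide +kernel)
  have hcard : Nat.card S = 9 := by
    let f : ZMod 3 × ZMod 3 → S := fun p => ⟨π ⟨B.v (0, p.1, p.2), hvC rfl⟩, (hS _).2 ⟨_, rfl, rfl⟩⟩
    have hf : Function.Bijective f := by
      refine ⟨fun p p' e => ?_, fun x => ?_⟩
      · have h := hlift 1 (0, p.1, p.2) (0, p'.1, p'.2) rfl rfl (by
          rw [map_one, one_mul, inv_one, mul_one]; exact congrArg Subtype.val e)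
        rw [Subgroup.coe_one, one_mul, inv_one, mul_one] at h
        have h' := B.v_inj h
        simp only [Prod.mk.injEq, true_and] at h'
        exact Prod.ext h'.1 h'.2
      · obtain ⟨y, hy, e⟩ := (hS x).1 x.2
        obtain ⟨a, b, c⟩ := y
        obtain rfl : a = 0 := hy
        exact ⟨(b, c), Subtype.ext e.symm⟩
    rw [← Nat.card_eq_of_bijective f hf]
    simp
  -- the centraliser of the plane
  have hplane : ∀ n : G, n * B.v (0, 1, 0) = B.v (0, 1, 0) * n → n * B.v (0, 0, 1) = B.v (0, 0, 1) * n →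
      ∃ (x : V3) (i : Fin 2), n = B.v x * E.ε ^ i.val ∧
        ∀ y, n * B.v y * n⁻¹ = B.v (act8 ((i, 0, 0), 0, 0) y) := by
    intro n hn1 hn2
    have hN : n ∈ normalizer (B.J : Set G) :=
      small_cent E hL hCE g_h_ne.1 (Or.inl rfl) (mem_centralizer_singleton_iff.2 hn1)
    obtain ⟨x, k, hnk, hk⟩ := norm_act E hN
    have f1 : act8 k (0, 1, 0) = (0, 1, 0) := B.v_inj (by rw [← hk, hn1, mul_inv_cancel_right])
    have f2 : act8 k (0, 0, 1) = (0, 0, 1) := B.v_inj (by rw [← hk, hn2, mul_inv_cancel_right])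
    obtain ⟨i, rfl⟩ := fix_plane k f1 f2
    exact ⟨x, i, by rw [hnk]; simp [cd8], hk⟩
  have hnorm : ∀ c : C, π c ∈ normalizer (S : Set (C ⧸ Z)) ↔ (c : G) ∈ normalizer (B.J : Set G) := by
    intro c
    constructor
    · intro hn
      have key : ∀ (y : V3) (hy : y.1 = 0), (∃ y', y'.1 = 0 ∧ (c : G) * B.v y * (c : G)⁻¹ = B.v y') ∧
          ∃ y', y'.1 = 0 ∧ (c : G)⁻¹ * B.v y * c = B.v y' := by
        intro y hy
        constructor
        · obtain ⟨y', hy', e⟩ := (hS _).1 ((mem_normalizer_iff.1 hn _).1 ((hS _).2 ⟨y, hy, rfl⟩))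
          exact ⟨y', hy', hlift c y y' hy hy' e⟩
        · obtain ⟨y', hy', e⟩ := (hS _).1 ((mem_normalizer_iff.1 (inv_mem hn) _).1 ((hS _).2 ⟨y, hy, rfl⟩))
          rw [← map_inv] at e
          exact ⟨y', hy', by simpa using hlift c⁻¹ y y' hy hy' e⟩
      have hcomm : ∀ (y : V3), y.1 = 0 →
          (c : G) * B.v eV * (c : G)⁻¹ * B.v y = B.v y * ((c : G) * B.v eV * (c : G)⁻¹) := by
        intro y hy
        obtain ⟨-, y', -, e⟩ := key y hy
        have e' : B.v y = (c : G) * B.v y' * (c : G)⁻¹ := by rw [← e]; group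
        rw [e']
        exact (show Commute (B.v eV) (B.v y') from v_comm B _ _).map (MulAut.conj (c : G))
      obtain ⟨x, i, -, hk⟩ := hplane _ (hcomm _ rfl) (hcomm _ rfl)
      have hfe : act8 ((i, 0, 0), 0, 0) eV = eV := by
        obtain ⟨g1, g2⟩ := sign_plane i
        refine fix_plane_cube _ g1 g2 (B.v_inj ?_)
        rw [← conj_iterate hk, conj_pow, v_cube B, mul_one, mul_inv_cancel, one_mul, inv_one, mul_one]
      have hJe : (c : G) * B.v eV * (c : G)⁻¹ ∈ B.J := mem_J_of_code hk (sign_fix i hfe)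
      refine conj_mem_normalizer fun y => ?_
      rw [plane_decomp y, B.v_add, B.v_add, v_nsmul B, v_nsmul B, v_nsmul B]
      obtain ⟨⟨y1, -, e1⟩, -⟩ := key (0, 1, 0) rfl
      obtain ⟨⟨y2, -, e2⟩, -⟩ := key (0, 0, 1) rfl
      rw [show ∀ a b d : G, (c : G) * (a * (b * d)) * (c : G)⁻¹ =
        ((c : G) * a * (c : G)⁻¹) * (((c : G) * b * (c : G)⁻¹) * ((c : G) * d * (c : G)⁻¹)) from
          fun a b d => by group, ← conj_pow, ← conj_pow, ← conj_pow, e1, e2]
      exact mul_mem (pow_mem hJe _) (mul_mem (pow_mem (v_mem B _) _) (pow_mem (v_mem B _) _))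
    · intro hn
      refine mem_normalizer_iff.2 fun x => ?_
      obtain ⟨d, rfl⟩ := hπs x
      rw [← map_inv, ← map_mul, ← map_mul]
      constructor
      · rintro ⟨j, hj, e⟩
        refine ⟨c * j * c⁻¹, ?_, by rw [map_mul, map_mul, e, ← map_mul, ← map_mul]⟩
        rw [SetLike.mem_coe, mem_subgroupOf]
        exact (mem_normalizer_iff.1 hn _).1 (mem_subgroupOf.1 hj)
      · rintro ⟨j, hj, e⟩
        refine ⟨c⁻¹ * j * c, ?_, by rw [map_mul, map_mul, e, ← map_mul, ← map_mul]; congr 1; group⟩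
        rw [SetLike.mem_coe, mem_subgroupOf, Subgroup.coe_mul, Subgroup.coe_mul, Subgroup.coe_inv]
        have h := (mem_normalizer_iff.1 (inv_mem hn) _).1 (mem_subgroupOf.1 hj)
        rwa [inv_inv] at h
  have hcomm : ∀ (c : C) (y : V3) (hy : y.1 = 0), π c * π ⟨B.v y, hvC hy⟩ = π ⟨B.v y, hvC hy⟩ * π c →
      (c : G) * B.v y = B.v y * c := fun c y hy h =>
    mul_inv_eq_iff_eq_mul.1 (hlift c y y hy hy (mul_inv_eq_iff_eq_mul.2 h))
  have hcent : centralizer (S : Set (C ⧸ Z)) = S := by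
    ext x
    constructor
    · intro hx
      obtain ⟨c, rfl⟩ := hπs x
      obtain ⟨x', i, e, -⟩ := hplane c
        (hcomm c (0, 1, 0) rfl (mem_centralizer_iff.1 hx _ ((hS _).2 ⟨_, rfl, rfl⟩)).symm)
        (hcomm c (0, 0, 1) rfl (mem_centralizer_iff.1 hx _ ((hS _).2 ⟨_, rfl, rfl⟩)).symm)
      have hx' : x'.1 = 0 := (comm_ε E).1 (by
        have e' : B.v x' = (c : G) * (E.ε ^ i.val)⁻¹ := by rw [e, mul_inv_cancel_right]
        rw [e']
        exact ((show Commute (c : G) E.ε from mem_centralizer_singleton_iff.1 c.2).mul_left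
          ((Commute.refl E.ε).pow_left _).inv_left).eq)
      refine (hS _).2 ⟨x', hx', ?_⟩
      refine (QuotientGroup.mk'_eq_mk' Z).2 ⟨c⁻¹ * ⟨B.v x', hvC hx'⟩, ?_, mul_inv_cancel_left _ _⟩
      rw [mem_subgroupOf, Subgroup.coe_mul, Subgroup.coe_inv, e]
      simp
    · intro hx
      refine mem_centralizer_iff.2 fun s hs => ?_
      obtain ⟨y, hy, rfl⟩ := (hS x).1 hx
      obtain ⟨y', hy', rfl⟩ := (hS s).1 hs
      rw [← map_mul, ← map_mul]
      exact congrArg π (Subtype.ext (v_comm B _ _))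
  have hloc : ∀ x ∈ S, x ≠ 1 → centralizer ({x} : Set (C ⧸ Z)) ≤ normalizer (S : Set (C ⧸ Z)) := by
    intro x hx hx1 d hd
    obtain ⟨c, rfl⟩ := hπs d
    obtain ⟨y, hy, rfl⟩ := (hS x).1 hx
    have hy0 : y ≠ 0 := fun e => hx1 (by
      rw [show (⟨B.v y, hvC hy⟩ : C) = 1 from Subtype.ext (by subst e; exact v_zero B), map_one])
    exact (hnorm c).2 (small_cent E hL hCE hy0 (Or.inl hy) (mem_centralizer_singleton_iff.2
      (hcomm c y hy (mem_centralizer_singleton_iff.1 hd))))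
  have hSp : IsPGroup 3 S := IsPGroup.of_card (n := 2) (by rw [hcard]; norm_num)
  let P : Sylow 3 (C ⧸ Z) :=
    { toSubgroup := S
      isPGroup' := hSp
      is_maximal' := fun {Q} hQ hle => sylow_eq hQ hle fun n hn hnn => by
        obtain ⟨c, rfl⟩ := hπs n
        have hnS : π c ∈ normalizer (S : Set (C ⧸ Z)) := by
          rw [Subgroup.mem_normalizer_iff_map_conj_eq]
          refine eq_of_le_of_card_ge ?_ (le_of_eq (card_map_of_injective
            (f := (MulAut.conj (π c)).toMonoidHom) (MulEquiv.injective _)).symm)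
          rintro _ ⟨t, ht, rfl⟩
          exact hnn t ht
        obtain ⟨x, k, -, hk⟩ := norm_act E ((hnorm c).1 hnS)
        have hr : k.2.1 = 0 := by
          have key : ∀ y : V3, y.1 = 0 → (act8 k y).1 = 0 := by
            intro y hy
            obtain ⟨y', hy', e⟩ := (hS _).1 (hnn _ ((hS _).2 ⟨y, hy, rfl⟩))
            have := hlift c y y' hy hy' e
            rw [hk] at this
            rw [B.v_inj this]; exact hy'
          exact fix_first k ⟨key _ rfl, key _ rfl⟩
        have h4J : (c : G) ^ 4 ∈ B.J := by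
          rw [← B.cent_J]
          refine mem_centralizer_iff.2 fun g hg => ?_
          obtain ⟨y, rfl⟩ := (B.mem_J g).1 hg
          have := conj_iterate hk 4 y
          rw [CfsgLib.SpSixThree.Loc.act8_four k hr] at this
          exact (mul_inv_eq_iff_eq_mul.1 this).symm
        have h4 : π c ^ 4 ∈ S := ⟨c ^ 4, mem_subgroupOf.2 h4J, map_pow _ _ _⟩
        obtain ⟨m, hm⟩ := hQ ⟨π c, hn⟩
        have h3 : π c ^ 3 ^ m ∈ S := by
          rw [show π c ^ 3 ^ m = 1 from congrArg Subtype.val hm]; exact one_mem _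
        have hcop : Nat.gcd 4 (3 ^ m) = 1 :=
          Nat.Coprime.pow_right m (show Nat.Coprime 4 3 by norm_num)
        rw [← zpow_one (π c), ← Int.ofNat_one, ← hcop, Nat.gcd_eq_gcd_ab, zpow_add, zpow_mul, zpow_mul,
          zpow_natCast, zpow_natCast]
        exact mul_mem (zpow_mem h4 _) (zpow_mem h3 _) }
  -- the automiser is dihedral of order eight
  have hgen : ∀ g : G, ∀ f : V3 → V3, (∀ y, g * B.v y * g⁻¹ = B.v (f y)) → ∀ hg : g ∈ C,
      π ⟨g, hg⟩ ∈ normalizer (S : Set (C ⧸ Z)) := fun g f hf hg =>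
    (hnorm _).2 (conj_mem_normalizer fun y => by rw [hf]; exact v_mem B _)
  have h2C : E.ε2 ∈ C := mem_centralizer_singleton_iff.2 (comm12 E).eq.symm
  have h3C : E.ε3 ∈ C := mem_centralizer_singleton_iff.2 (comm31 E).eq
  have hσC : B.σ ∈ C := mem_centralizer_singleton_iff.2 E.ε_σ.symm
  let s2 : normalizer (S : Set (C ⧸ Z)) := ⟨π ⟨E.ε2, h2C⟩, hgen _ _ (conj_ε2 E) h2C⟩
  let s3 : normalizer (S : Set (C ⧸ Z)) := ⟨π ⟨E.ε3, h3C⟩, hgen _ _ (conj_ε3 E) h3C⟩
  let ts : normalizer (S : Set (C ⧸ Z)) := ⟨π ⟨B.σ, hσC⟩, hgen _ _ B.conj_σ hσC⟩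
  have hX4 : (s2 * ts) ^ 4 = 1 := by
    refine Subtype.ext ?_
    show (π ⟨E.ε2, h2C⟩ * π ⟨B.σ, hσC⟩) ^ 4 = 1
    rw [← map_mul, ← map_pow, show ((⟨E.ε2, h2C⟩ * ⟨B.σ, hσC⟩ : C)) ^ 4 = 1 from Subtype.ext ?_, map_one]
    show (E.ε2 * B.σ) ^ 4 = 1
    have e : E.ε2 * B.σ * (E.ε2 * B.σ) = ε' E := by
      rw [ε', ← σ_ε2 E, σ_inv B]
      simp only [mul_assoc]
    rw [show 4 = 2 * 2 from rfl, pow_mul, pow_two (E.ε2 * B.σ), e, pow_two, ε'_sq]
  have hY : s2 * s2 = 1 := Subtype.ext (by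
    show π ⟨E.ε2, h2C⟩ * π ⟨E.ε2, h2C⟩ = 1
    rw [← map_mul, show (⟨E.ε2, h2C⟩ * ⟨E.ε2, h2C⟩ : C) = 1 from Subtype.ext (ε2_sq E), map_one])
  have hts : ts * ts = 1 := Subtype.ext (by
    show π ⟨B.σ, hσC⟩ * π ⟨B.σ, hσC⟩ = 1
    rw [← map_mul, show (⟨B.σ, hσC⟩ * ⟨B.σ, hσC⟩ : C) = 1 from Subtype.ext B.σ_sq, map_one])
  have hYX : s2 * (s2 * ts) * s2 = (s2 * ts)⁻¹ := by
    rw [mul_inv_rev, inv_eq_of_mul_eq_one_right hts, inv_eq_of_mul_eq_one_right hY, ← mul_assoc s2 s2,
      hY, one_mul]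
  let F := dihHom (s2 * ts) s2 hX4 hY hYX
  let S' : Subgroup (normalizer (S : Set (C ⧸ Z))) := S.subgroupOf (normalizer (S : Set (C ⧸ Z)))
  let q : DihedralGroup 4 →* normalizer (S : Set (C ⧸ Z)) ⧸ S' := (QuotientGroup.mk' S').comp F
  have hlow : ∀ d : DihedralGroup 4, ∃ c : C, π c = ((F d : normalizer (S : Set (C ⧸ Z))) : C ⧸ Z) ∧
      ∀ y, (c : G) * B.v y * (c : G)⁻¹ = B.v (dAct d y) := by
    have hrot : ∀ y, E.ε2 * B.σ * B.v y * (E.ε2 * B.σ)⁻¹ = B.v (y.1, -y.2.2, y.2.1) := fun y => by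
      rw [show E.ε2 * B.σ * B.v y * (E.ε2 * B.σ)⁻¹ = E.ε2 * (B.σ * B.v y * B.σ⁻¹) * E.ε2⁻¹ by group,
        B.conj_σ, conj_ε2]
      rfl
    rintro (i | i)
    · refine ⟨(⟨E.ε2, h2C⟩ * ⟨B.σ, hσC⟩) ^ i.val, ?_, fun y => ?_⟩
      · rw [map_pow, map_mul, show F (DihedralGroup.r i) = (s2 * ts) ^ i.val from rfl,
          SubgroupClass.coe_pow, Subgroup.coe_mul]
      · rw [SubgroupClass.coe_pow, Subgroup.coe_mul]
        exact conj_iterate hrot i.val y
    · refine ⟨⟨E.ε2, h2C⟩ * (⟨E.ε2, h2C⟩ * ⟨B.σ, hσC⟩) ^ i.val, ?_, fun y => ?_⟩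
      · rw [map_mul, map_pow, map_mul, show F (DihedralGroup.sr i) = s2 * (s2 * ts) ^ i.val from rfl,
          Subgroup.coe_mul, SubgroupClass.coe_pow, Subgroup.coe_mul]
      · rw [Subgroup.coe_mul, SubgroupClass.coe_pow, Subgroup.coe_mul,
          show ∀ a b w : G, a * b * w * (a * b)⁻¹ = a * (b * w * b⁻¹) * a⁻¹ from fun a b w => by group,
          conj_iterate hrot i.val y, conj_ε2]
        rfl
  have hq : Function.Bijective q := by
    constructor
    · rw [injective_iff_map_eq_one]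
      intro d hd
      obtain ⟨c, hcd, hact⟩ := hlow d
      obtain ⟨y', hy', e⟩ := (hS _).1 (show ((F d : normalizer (S : Set (C ⧸ Z))) : C ⧸ Z) ∈ S from
        (QuotientGroup.eq_one_iff (F d)).1 hd)
      rw [← hcd] at e
      have key : ∀ y : V3, y.1 = 0 → dAct d y = y := fun y hy => B.v_inj (by
        rw [← hact]
        refine hlift c y y hy hy ?_
        rw [e, ← map_inv, ← map_mul, ← map_mul]
        exact congrArg π (Subtype.ext (by
          show B.v y' * B.v y * (B.v y')⁻¹ = B.v y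
          rw [v_comm B, mul_inv_cancel_right])))
      exact dAct_faithful d (key _ rfl) (key _ rfl)
    · intro z
      induction z using QuotientGroup.induction_on with
      | _ n =>
      obtain ⟨c, hc⟩ := hπs (n : C ⧸ Z)
      obtain ⟨x, k, hck, hk⟩ := norm_act E ((hnorm c).1 (hc ▸ n.2))
      have hfst : ∀ y : V3, y.1 = 0 → (act8 k y).1 = 0 := fun y hy => (comm_ε E).1 (by
        rw [← hk]
        have h1 : Commute (c : G) E.ε := mem_centralizer_singleton_iff.1 c.2
        exact ((h1.mul_left (show Commute (B.v y) E.ε from (comm_ε E).2 hy)).mul_left h1.inv_left).eq)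
      have hr := fix_first k ⟨hfst _ rfl, hfst _ rfl⟩
      obtain ⟨⟨i, j, l⟩, r, t⟩ := k
      obtain rfl : r = 0 := hr
      set W : normalizer (S : Set (C ⧸ Z)) := s2 ^ j.val * s3 ^ l.val * ts ^ t.val with hW
      have hnW : (QuotientGroup.mk n : normalizer (S : Set (C ⧸ Z)) ⧸ S') = QuotientGroup.mk W := by
        refine (QuotientGroup.eq.2 ?_).symm
        show ((W⁻¹ * n : normalizer (S : Set (C ⧸ Z))) : C ⧸ Z) ∈ S
        have hxN : x.1 = 0 := (comm_ε E).1 (by
          have hcd : Commute (cd8 E ((i, j, l), 0, t)) E.ε := by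
            rw [cd8]
            exact (((((Commute.refl E.ε).pow_left _).mul_left ((comm12 E).symm.pow_left _)).mul_left
              ((comm31 E).pow_left _)).mul_left (by simp)).mul_left
              ((show Commute B.σ E.ε from E.ε_σ.symm).pow_left _)
          have e' : B.v x = (c : G) * (cd8 E ((i, j, l), 0, t))⁻¹ := by rw [hck, mul_inv_cancel_right]
          rw [e']
          exact ((show Commute (c : G) E.ε from mem_centralizer_singleton_iff.1 c.2).mul_left
            hcd.inv_left).eq)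
        let w : C := ⟨E.ε2, h2C⟩ ^ j.val * ⟨E.ε3, h3C⟩ ^ l.val * ⟨B.σ, hσC⟩ ^ t.val
        have hWw : ((W : normalizer (S : Set (C ⧸ Z))) : C ⧸ Z) = π w := by
          simp only [hW, w, map_mul, map_pow, Subgroup.coe_mul, SubgroupClass.coe_pow, s2, s3, ts]
        have hcw : π c = π ⟨B.v x, hvC hxN⟩ * π w := by
          let ee : C := ⟨E.ε, hεC⟩
          have he : π ee = 1 := (QuotientGroup.eq_one_iff _).2 (mem_subgroupOf.2 (mem_zpowers _))
          rw [show c = ⟨B.v x, hvC hxN⟩ * (ee ^ i.val * w) from Subtype.ext (by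
            rw [hck]
            simp only [cd8, w, ee, Fin.val_zero, pow_zero, mul_one, Subgroup.coe_mul,
              SubgroupClass.coe_pow]
            group), map_mul, map_mul π (ee ^ i.val) w, map_pow π ee, he, one_pow, one_mul]
        rw [Subgroup.coe_mul, InvMemClass.coe_inv, hWw, ← hc, hcw]
        have hwN : π w ∈ normalizer (S : Set (C ⧸ Z)) := hWw ▸ W.2
        have := (mem_normalizer_iff.1 (inv_mem hwN) _).1 ((hS _).2 ⟨x, hxN, rfl⟩)
        rwa [inv_inv, mul_assoc] at this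
      rw [hnW, ← QuotientGroup.mk'_apply, hW, map_mul, map_mul, map_pow, map_pow, map_pow]
      set m := QuotientGroup.mk' S'
      have m2 : m s2 ∈ q.range := ⟨DihedralGroup.sr 0, by
        show m (s2 * (s2 * ts) ^ (0 : ZMod 4).val) = m s2
        rw [ZMod.val_zero, pow_zero, mul_one]⟩
      have mt : m ts ∈ q.range := ⟨DihedralGroup.sr 1, by
        show m (s2 * (s2 * ts) ^ (1 : ZMod 4).val) = m ts
        rw [show (1 : ZMod 4).val = 1 from rfl, pow_one, ← mul_assoc, hY, one_mul]⟩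
      have m3 : m s3 ∈ q.range := by
        rw [show s3 = ts * s2 * ts from Subtype.ext (by
          show π ⟨E.ε3, h3C⟩ = π ⟨B.σ, hσC⟩ * π ⟨E.ε2, h2C⟩ * π ⟨B.σ, hσC⟩
          rw [← map_mul, ← map_mul]
          exact congrArg π (Subtype.ext (by
            show E.ε3 = B.σ * E.ε2 * B.σ
            rw [← σ_ε2 E, σ_inv B]))), map_mul, map_mul]
        exact mul_mem (mul_mem mt m2) mt
      exact mul_mem (mul_mem (pow_mem m2 _) (pow_mem m3 _)) (pow_mem mt _)
  let eN := (MulEquiv.ofBijective q hq).symm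
  have hCY : Nat.card C = 2 * Nat.card (C ⧸ Z) := by
    rw [card_eq_card_quotient_mul_card_subgroup Z, mul_comm]
    congr 1
    rw [Nat.card_congr (subgroupOfEquivOfLe (zpowers_le.2 hεC)).toEquiv, Nat.card_zpowers]
    refine orderOf_eq_prime (by rw [pow_two, E.ε_sq]) fun e => ?_
    have h := E.conj_ε eV
    rw [e, one_mul, inv_one, mul_one] at h
    exact absurd (B.v_inj h) (by decide +kernel)
  rcases Cfsg.Agent.S3333.result P S rfl hcard hcent eN hloc with hn | ⟨⟨e6⟩⟩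
  · left
    have hN : Nat.card (normalizer (S : Set (C ⧸ Z))) = 72 := by
      rw [card_eq_card_quotient_mul_card_subgroup S', Nat.card_congr eN.toEquiv, DihedralGroup.nat_card,
        Nat.card_congr (subgroupOfEquivOfLe le_normalizer).toEquiv, hcard]
    rw [normalizer_eq_top_iff.2 hn, Subgroup.card_top] at hN
    rw [hCY, hN]
  · right
    rw [hCY, Nat.card_congr e6.toEquiv, Nat.card_perm, Nat.card_fin]
    rfl

end CfsgLib.SpSixThree.AutX
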