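import Cfsg.Agent.Lib.SpSixThree.AutW

/-!
# Statement S3342, all signs: the Sylow two-subgroup
-/

set_option autoImplicit false
set_option maxRecDepth 100000
set_option linter.unusedSectionVars false
set_option linter.style.haveILetI false
set_option synthInstance.maxSize 4096
set_option synthInstance.maxHeartbeats 200000

namespace CfsgLib.SpSixThree.AutX

open Subgroup
open CfsgLib.PSpAmalgam (V3 zV zV' eV fV gV actR actS SL3)

theorem q_words : ∀ u : SL3, u * u = -1 → ∀ w : SL3, w ^ 3 = 1 → w ≠ 1 → ∀ j : Fin 3, j ≠ 0 →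
    ∀ x : SL3, x ^ 4 = 1 →
      ∃ (a : Fin 4) (b : Fin 2), x = u ^ a.val * (w ^ j.val * u * (w ^ j.val)⁻¹) ^ b.val := by
  decide +kernel

theorem q_noncomm : ∀ u : SL3, u * u = -1 → ∀ w : SL3, w ^ 3 = 1 → w ≠ 1 →
    u * (w * u * w⁻¹) ≠ w * u * w⁻¹ * u := by decide +kernel

theorem q_sq : ∀ x : SL3, x ^ 4 = 1 → x * x = 1 ∨ x * x = -1 := by decide +kernel

theorem q_sq_comm : ∀ x : SL3, x ^ 4 = 1 → ∀ y : SL3, y ^ 4 = 1 →
    (x * y = 1 → y * x = 1) ∧ (x * y = -1 → y * x = -1) := by decide +kernel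

theorem q_sep : ∀ u : SL3, u * u = -1 → ∀ w : SL3, w ^ 3 = 1 → w ≠ 1 → ∀ k l : Fin 4,
    qe u w l = qe u w k ∨ qe u w l = -qe u w k → k = l := by decide +kernel

theorem q_three : ∀ w : SL3, w ^ 3 = 1 → w ≠ 1 → ∀ t : SL3, t ^ 4 = 1 → ∀ i : Fin 3,
    (t * w⁻¹ ^ i.val) ^ 3 = 1 → t * w⁻¹ ^ i.val ≠ 1 →
      i ≠ 0 ∧ ∃ r : SL3, r ^ 4 = 1 ∧ t * w⁻¹ ^ i.val = r * w⁻¹ ^ i.val * r⁻¹ := by decide +kernel

theorem q_flip : ∀ u : SL3, u * u = -1 → ∀ x : SL3, x ^ 4 = 1 → x * u * x⁻¹ = u ∨ x * u * x⁻¹ = -u := by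
  decide +kernel

theorem q_flips : ∀ u : SL3, u * u = -1 → ∀ w : SL3, w ^ 3 = 1 → w ≠ 1 →
    w * u * w⁻¹ * u * (w * u * w⁻¹)⁻¹ = -u := by decide +kernel

theorem q_neg_ne : ∀ x : SL3, -x ≠ x := by decide +kernel

/-- a subgroup extended by an involution normalising it -/
def adj {H : Type*} [Group H] (W : Subgroup H) (t : H) (ht : t * t = 1)
    (hn : ∀ w ∈ W, t * w * t⁻¹ ∈ W) : Subgroup H where
  carrier := {g | g ∈ W ∨ g * t ∈ W}
  one_mem' := Or.inl (one_mem _)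
  mul_mem' := by
    have hi : t⁻¹ = t := inv_eq_of_mul_eq_one_right ht
    rintro g h (hg | hg) (hh | hh)
    · exact Or.inl (mul_mem hg hh)
    · exact Or.inr (by rw [mul_assoc]; exact mul_mem hg hh)
    · refine Or.inr ?_
      rw [show g * h * t = (g * t) * (t⁻¹ * h * t) by group, hi]
      refine mul_mem hg ?_
      simpa [hi] using hn _ hh
    · refine Or.inl ?_
      rw [show g * h = (g * t) * (t⁻¹ * (h * t) * t⁻¹) by group]
      refine mul_mem hg ?_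
      simpa [hi] using hn _ hh
  inv_mem' := by
    have hi : t⁻¹ = t := inv_eq_of_mul_eq_one_right ht
    rintro g (hg | hg)
    · exact Or.inl (inv_mem hg)
    · refine Or.inr ?_
      rw [show g⁻¹ * t = t * (g * t)⁻¹ * t⁻¹ by rw [hi, mul_inv_rev, hi, ← mul_assoc, ht, one_mul]]
      exact hn _ (inv_mem hg)

theorem mem_adj {H : Type*} [Group H] {W : Subgroup H} {t : H} {ht : t * t = 1}
    {hn : ∀ w ∈ W, t * w * t⁻¹ ∈ W} {g : H} : g ∈ adj W t ht hn ↔ g ∈ W ∨ g * t ∈ W := Iff.rfl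

theorem sq_adj {H : Type*} [Group H] {W : Subgroup H} {t : H} {ht : t * t = 1}
    {hn : ∀ w ∈ W, t * w * t⁻¹ ∈ W} {g : H} (hg : g ∈ adj W t ht hn) : g * g ∈ W := by
  have hi : t⁻¹ = t := inv_eq_of_mul_eq_one_right ht
  rcases hg with h | h
  · exact mul_mem h h
  · rw [show g * g = (g * t) * (t⁻¹ * (g * t) * t⁻¹) by group]
    refine mul_mem h ?_
    simpa [hi] using hn _ h

theorem isPGroup_adj {H : Type*} [Group H] {W : Subgroup H} {t : H} {ht : t * t = 1}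
    {hn : ∀ w ∈ W, t * w * t⁻¹ ∈ W} (hW : IsPGroup 2 W) : IsPGroup 2 (adj W t ht hn) := by
  intro g
  obtain ⟨k, hk⟩ := hW ⟨(g : H) * g, sq_adj g.2⟩
  refine ⟨k + 1, Subtype.ext ?_⟩
  rw [Subgroup.coe_pow, Subgroup.coe_one, pow_succ', pow_mul, pow_two]
  exact congrArg Subtype.val hk

theorem card_adj {H : Type*} [Group H] [Finite H] {W : Subgroup H} {t : H} {ht : t * t = 1}
    {hn : ∀ w ∈ W, t * w * t⁻¹ ∈ W} (h : t ∉ W) : 2 * Nat.card W ≤ Nat.card (adj W t ht hn) := by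
  have hle : W ≤ adj W t ht hn := fun w hw => Or.inl hw
  obtain ⟨k, hk⟩ := card_dvd_of_le hle
  have hne : Nat.card (adj W t ht hn) ≠ Nat.card W := fun e => h (by
    rw [eq_of_le_of_card_ge hle e.le]
    exact Or.inr (by rw [ht]; exact one_mem _))
  have hpos : 0 < Nat.card (adj W t ht hn) := Nat.card_pos
  rcases k with _ | _ | k
  · omega
  · omega
  · rw [hk, mul_comm 2]
    exact Nat.mul_le_mul_left _ (by omega)

theorem relIndex_adj {H : Type*} [Group H] {W : Subgroup H} {t : H} {ht : t * t = 1}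
    {hn : ∀ w ∈ W, t * w * t⁻¹ ∈ W} (h : t ∉ W) : W.relIndex (adj W t ht hn) = 2 := by
  refine relIndex_eq_two_iff.2 ⟨t, Or.inr (by rw [ht]; exact one_mem _), fun b hb => ?_⟩
  rcases hb with hb | hb
  · exact Or.inr ⟨hb, fun h' => h ((mul_mem_cancel_left hb).1 h')⟩
  · refine Or.inl ⟨hb, fun h' => h ((mul_mem_cancel_left h').1 hb)⟩

universe u

variable {G : Type u} [Group G] {B : Base G} (E : Eight B)

/-- the conjugate copy of `SL₂(3)` -/
def ec (t : SL3) : G := E.ε * B.sl t * E.ε⁻¹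

/-- a product from the two quaternion groups -/
def pw (x y : SL3) : G := B.sl x * ec E y

/-- the two quaternion groups commute -/
def WC : Prop := ∀ s t : SL3, s ^ 4 = 1 → t ^ 4 = 1 → Commute (B.sl s) (ec E t)

theorem ec_mul (s t : SL3) : ec E (s * t) = ec E s * ec E t := by
  rw [ec, ec, ec, map_mul]; group

theorem ec_one : ec E 1 = 1 := by rw [ec, map_one, mul_one, mul_inv_cancel]

theorem ec_neg_one : ec E (-1) = B.σ := by
  rw [ec, B.sl_neg, E.ε_σ, mul_inv_cancel_right]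

theorem conj_ε_ec (t : SL3) : E.ε * ec E t * E.ε⁻¹ = B.sl t := by
  rw [ec, ε_inv E]
  calc E.ε * (E.ε * B.sl t * E.ε) * E.ε = (E.ε * E.ε) * B.sl t * (E.ε * E.ε) := by group
    _ = _ := by rw [E.ε_sq, one_mul, mul_one]

theorem inv_four {x : SL3} (hx : x ^ 4 = 1) : x⁻¹ ^ 4 = 1 := by rw [inv_pow, hx, inv_one]

theorem neg_four {x : SL3} (hx : x ^ 4 = 1) : (-x) ^ 4 = 1 := by
  rw [← neg_one_mul x, (Commute.neg_one_left x).mul_pow, hx, mul_one,
    CfsgLib.PSpAmalgam.SL3.neg_one_pow_four]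

theorem one_four : (1 : SL3) ^ 4 = 1 := one_pow 4

theorem pw_one_one : pw E 1 1 = 1 := by rw [pw, map_one, ec_one, mul_one]

theorem pw_neg (x y : SL3) : pw E (-x) y = B.σ * pw E x y := by
  rw [pw, pw, sl_neg_mul B, mul_assoc]

theorem pw_neg' (x y : SL3) : pw E x (-y) = B.σ * pw E x y := by
  rw [pw, pw, ← neg_one_mul y, ec_mul, ec_neg_one, ← mul_assoc, (B.sl_cent x).2, mul_assoc]

theorem pw_σ (x y : SL3) : Commute (pw E x y) B.σ := by
  have h1 : Commute E.ε B.σ := E.ε_σ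
  exact (show Commute (B.sl x) B.σ from (B.sl_cent x).2).mul_left
    ((h1.mul_left (show Commute (B.sl y) B.σ from (B.sl_cent y).2)).mul_left h1.inv_left)

theorem δ_img {t : SL3} (ht : t ^ 4 = 1) :
    ∃ t' : SL3, t' ^ 4 = 1 ∧ E.δ * B.sl t * E.δ⁻¹ = B.sl t' ∧ E.δ * ec E t * E.δ⁻¹ = ec E t' ∧
      t * t' ≠ -1 := by
  obtain ⟨x, w, U⟩ := exists_uw B
  obtain ⟨i, h⟩ := δ_form E U ht
  obtain ⟨-, -, p3, p4, -, hne⟩ := q_pow x U.sq w U.cube U.ne i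
  have key : ∀ t', E.δ * B.sl t * E.δ⁻¹ = B.sl t' → E.δ * ec E t * E.δ⁻¹ = ec E t' := by
    intro t' e
    rw [ec, ec, ← e]
    calc E.δ * (E.ε * B.sl t * E.ε⁻¹) * E.δ⁻¹
        = (E.δ * E.ε) * B.sl t * (E.δ * E.ε)⁻¹ := by group
      _ = _ := by rw [(δ_ε E).eq]; group
  rcases h with ⟨e1, e2⟩ | ⟨e1, e2⟩
  · exact ⟨_, p3, e2, key _ e2, e1 ▸ hne⟩
  · refine ⟨_, p4, e2, key _ e2, ?_⟩
    rw [e1, neg_mul_neg]; exact hne

theorem δ_img_inj {t t' : SL3} (h : E.δ * B.sl t * E.δ⁻¹ = B.sl t') :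
    E.δ * B.sl t' * E.δ⁻¹ = B.sl t := by
  rw [← h, δ_inv E]
  calc E.δ * (E.δ * B.sl t * E.δ) * E.δ = (E.δ * E.δ) * B.sl t * (E.δ * E.δ) := by group
    _ = _ := by rw [δ_sq, one_mul, mul_one]

variable (hc : WC E)

include hc in
theorem pw_mul {x y x' y' : SL3} (hy : y ^ 4 = 1) (hx' : x' ^ 4 = 1) :
    pw E x y * pw E x' y' = pw E (x * x') (y * y') := by
  rw [pw, pw, pw, map_mul, ec_mul]
  calc B.sl x * ec E y * (B.sl x' * ec E y') = B.sl x * (ec E y * B.sl x') * ec E y' := by group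
    _ = B.sl x * (B.sl x' * ec E y) * ec E y' := by rw [(hc x' y hx' hy).eq]
    _ = _ := by group

include hc in
theorem pw_inv {x y : SL3} (hx : x ^ 4 = 1) (hy : y ^ 4 = 1) : (pw E x y)⁻¹ = pw E x⁻¹ y⁻¹ := by
  refine inv_eq_of_mul_eq_one_right ?_
  rw [pw_mul E hc hy (inv_four hx), mul_inv_cancel, mul_inv_cancel, pw_one_one]

include hc in
theorem conj_ε_pw {x y : SL3} (hx : x ^ 4 = 1) (hy : y ^ 4 = 1) :
    E.ε * pw E x y * E.ε⁻¹ = pw E y x := by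
  calc E.ε * pw E x y * E.ε⁻¹ = (E.ε * B.sl x * E.ε⁻¹) * (E.ε * ec E y * E.ε⁻¹) := by rw [pw]; group
    _ = ec E x * B.sl y := by rw [conj_ε_ec]; rfl
    _ = _ := (hc y x hy hx).eq.symm

theorem conj_δ_pw {x y : SL3} {x' y' : SL3} (hx : E.δ * B.sl x * E.δ⁻¹ = B.sl x')
    (hy : E.δ * ec E y * E.δ⁻¹ = ec E y') : E.δ * pw E x y * E.δ⁻¹ = pw E x' y' := by
  rw [pw, pw, ← hx, ← hy]; group

include hc in
theorem pw_eq_one {x y : SL3} (hx : x ^ 4 = 1) (hy : y ^ 4 = 1) (h : pw E x y = 1) :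
    (x = 1 ∧ y = 1) ∨ (x = -1 ∧ y = -1) := by
  obtain ⟨u, w, U⟩ := exists_uw B
  have hey : ec E y = B.sl x⁻¹ := by rw [map_inv]; exact eq_inv_of_mul_eq_one_right h
  have hcomm : ∀ t : SL3, t ^ 4 = 1 → y * t = t * y := fun t ht => B.sl_inj (by
    have h1 : Commute (ec E y) (ec E t) := hey ▸ hc _ t (inv_four hx) ht
    have h2 := h1.map (MulAut.conj E.ε)
    simp only [MulAut.conj_apply, conj_ε_ec] at h2
    rw [map_mul, map_mul]; exact h2.eq)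
  rcases q_commutant u U.sq w U.cube U.ne y (hcomm _ (uw_quat B U).1) (hcomm _ (uw_quat B U).2) with e | e
  · left
    refine ⟨?_, e⟩
    rw [e, ec_one] at hey
    exact inv_eq_one.1 (B.sl_inj (by rw [map_one]; exact hey.symm))
  · right
    refine ⟨?_, e⟩
    rw [e, ec_neg_one, ← B.sl_neg] at hey
    rw [← inv_inv x, ← B.sl_inj hey]
    exact CfsgLib.PSpAmalgam.SL3.quat_cases (-1)⁻¹ (inv_four CfsgLib.PSpAmalgam.SL3.neg_one_pow_four)
      (by decide +kernel) |>.resolve_left (by decide +kernel)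

include hc in
theorem pw_eq_σ {x y : SL3} (hx : x ^ 4 = 1) (hy : y ^ 4 = 1) (h : pw E x y = B.σ) :
    (x = -1 ∧ y = 1) ∨ (x = 1 ∧ y = -1) := by
  have h' : pw E (-x) y = 1 := by rw [pw_neg, h, B.σ_sq]
  rcases pw_eq_one E hc (neg_four hx) hy h' with ⟨a, b⟩ | ⟨a, b⟩
  · exact Or.inl ⟨by rw [← neg_neg x, a], b⟩
  · exact Or.inr ⟨by rw [← neg_neg x, a, neg_neg], b⟩

/-- the product of the two quaternion groups -/
def WW (hc : WC E) : Subgroup G where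
  carrier := {g | ∃ x y : SL3, x ^ 4 = 1 ∧ y ^ 4 = 1 ∧ pw E x y = g}
  one_mem' := ⟨1, 1, one_four, one_four, pw_one_one E⟩
  mul_mem' := by
    rintro _ _ ⟨x, y, hx, hy, rfl⟩ ⟨x', y', hx', hy', rfl⟩
    exact ⟨x * x', y * y', CfsgLib.PSpAmalgam.SL3.quat_mul _ _ hx hx',
      CfsgLib.PSpAmalgam.SL3.quat_mul _ _ hy hy', (pw_mul E hc hy hx').symm⟩
  inv_mem' := by
    rintro _ ⟨x, y, hx, hy, rfl⟩
    exact ⟨x⁻¹, y⁻¹, inv_four hx, inv_four hy, (pw_inv E hc hx hy).symm⟩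

theorem mem_WW {g : G} : g ∈ WW E hc ↔ ∃ x y : SL3, x ^ 4 = 1 ∧ y ^ 4 = 1 ∧ pw E x y = g := Iff.rfl

theorem δ_norm_WW : ∀ g ∈ WW E hc, E.δ * g * E.δ⁻¹ ∈ WW E hc := by
  rintro _ ⟨x, y, hx, hy, rfl⟩
  obtain ⟨x', hx', e1, -, -⟩ := δ_img E hx
  obtain ⟨y', hy', -, e2, -⟩ := δ_img E hy
  exact ⟨x', y', hx', hy', (conj_δ_pw E e1 e2).symm⟩

theorem ε_norm_WW : ∀ g ∈ WW E hc, E.ε * g * E.ε⁻¹ ∈ WW E hc := by
  rintro _ ⟨x, y, hx, hy, rfl⟩
  exact ⟨y, x, hy, hx, (conj_ε_pw E hc hx hy).symm⟩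

theorem ε'_norm_WW : ∀ g ∈ WW E hc, ε' E * g * (ε' E)⁻¹ ∈ WW E hc := by
  intro g hg
  rw [ε'_eq, show E.ε * E.δ * g * (E.ε * E.δ)⁻¹ = E.ε * (E.δ * g * E.δ⁻¹) * E.ε⁻¹ by group]
  exact ε_norm_WW E hc _ (δ_norm_WW E hc g hg)

/-- the subgroup of index two in the Sylow subgroup -/
def T1 (hc : WC E) : Subgroup G := adj (WW E hc) (ε' E) (ε'_sq E) (ε'_norm_WW E hc)

theorem ε_norm_T1 : ∀ g ∈ T1 E hc, E.ε * g * E.ε⁻¹ ∈ T1 E hc := by
  rintro g (hg | hg)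
  · exact Or.inl (ε_norm_WW E hc g hg)
  · refine Or.inr ?_
    have h := ε_norm_WW E hc _ hg
    rwa [show E.ε * (g * ε' E) * E.ε⁻¹ = E.ε * g * (ε' E * E.ε⁻¹) by group,
      ((ε'_ε E).inv_right).eq, ← mul_assoc] at h

/-- the Sylow two-subgroup -/
def TT (hc : WC E) : Subgroup G := adj (T1 E hc) E.ε E.ε_sq (ε_norm_T1 E hc)

theorem mem_TT {g : G} : g ∈ TT E hc ↔
    (g ∈ WW E hc ∨ g * ε' E ∈ WW E hc) ∨ g * E.ε ∈ WW E hc ∨ g * E.δ ∈ WW E hc := by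
  have e : g * E.ε * ε' E = g * E.δ := by rw [mul_assoc, δ_eq]
  rw [TT, mem_adj, T1, mem_adj, mem_adj, e]

theorem WW_le_TT : WW E hc ≤ TT E hc := fun _ hg => Or.inl (Or.inl hg)

theorem T1_le_TT : T1 E hc ≤ TT E hc := fun _ hg => Or.inl hg

theorem ε_mem_TT : E.ε ∈ TT E hc := Or.inr (Or.inl (by rw [E.ε_sq]; exact one_mem _))

theorem δ_mem_TT : E.δ ∈ TT E hc :=
  (mem_TT E hc).2 (Or.inr (Or.inr (by rw [δ_sq]; exact one_mem _)))

theorem QQ_le_WW : QQ B ≤ WW E hc := by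
  intro g hg
  obtain ⟨x, hx, rfl⟩ := (mem_QQ B).1 hg
  exact ⟨x, 1, hx, one_four, by rw [pw, ec_one, mul_one]⟩

theorem ec_mem_WW {t : SL3} (ht : t ^ 4 = 1) : ec E t ∈ WW E hc :=
  ⟨1, t, one_four, ht, by rw [pw, map_one, one_mul]⟩

theorem pw_pow_four {g : G} (hg : g ∈ WW E hc) : g ^ 4 = 1 := by
  obtain ⟨x, y, hx, hy, rfl⟩ := hg
  have hcm : Commute (B.sl x) (ec E y) := hc x y hx hy
  rw [pw, hcm.mul_pow, ← map_pow, hx, map_one, one_mul, ec, conj_pow, ← map_pow, hy, map_one,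
    mul_one, mul_inv_cancel]

theorem isPGroup_WW : IsPGroup 2 (WW E hc) := fun g =>
  ⟨2, Subtype.ext (by rw [Subgroup.coe_pow, Subgroup.coe_one]; exact pw_pow_four E hc g.2)⟩

theorem isPGroup_TT : IsPGroup 2 (TT E hc) := isPGroup_adj (isPGroup_adj (isPGroup_WW E hc))

theorem TT_σ {g : G} (hg : g ∈ TT E hc) : g * B.σ = B.σ * g := by
  have hW : ∀ h ∈ WW E hc, Commute h B.σ := by
    rintro _ ⟨x, y, -, -, rfl⟩; exact pw_σ E x y
  have key : ∀ t : G, Commute t B.σ → g * t ∈ WW E hc → g * B.σ = B.σ * g := by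
    intro t ht h
    have h' := (hW _ h).mul_left ht.inv_left
    rw [mul_inv_cancel_right] at h'
    exact h'.eq
  rcases (mem_TT E hc).1 hg with (h | h) | h | h
  · exact (hW g h).eq
  · exact key _ (ε'_σ E) h
  · exact key _ E.ε_σ h
  · exact key _ (δ_σ E) h

include hc in
/-- the squares of the products -/
theorem pw_sq {x y : SL3} (hx : x ^ 4 = 1) (hy : y ^ 4 = 1) :
    pw E x y * pw E x y = pw E (x * x) (y * y) := pw_mul E hc hy hx

theorem sq_mem_WW {g : G} (hg : g ∈ TT E hc) : g * g ∈ WW E hc := by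
  have key : ∀ t : G, t * t = 1 → (∀ w ∈ WW E hc, t * w * t⁻¹ ∈ WW E hc) → g * t ∈ WW E hc →
      g * g ∈ WW E hc := by
    intro t ht hn h
    exact sq_adj (ht := ht) (hn := hn) (Or.inr h)
  rcases (mem_TT E hc).1 hg with (h | h) | h | h
  · exact mul_mem h h
  · exact key _ (ε'_sq E) (ε'_norm_WW E hc) h
  · exact key _ E.ε_sq (ε_norm_WW E hc) h
  · exact key _ (δ_sq E) (δ_norm_WW E hc) h

theorem pow_four_cases {g : G} (hg : g ∈ TT E hc) : g ^ 4 = 1 ∨ g ^ 4 = B.σ := by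
  obtain ⟨x, y, hx, hy, e⟩ := sq_mem_WW E hc hg
  rw [show g ^ 4 = (g * g) * (g * g) by simp [pow_succ, mul_assoc], ← e, pw_sq E hc hx hy]
  rcases q_sq x hx with a | a <;> rcases q_sq y hy with b | b <;> rw [a, b]
  · exact Or.inl (pw_one_one E)
  · exact Or.inr (by rw [pw_neg', pw_one_one, mul_one])
  · exact Or.inr (by rw [pw_neg, pw_one_one, mul_one])
  · exact Or.inl (by rw [pw_neg, pw_neg', pw_one_one, mul_one, B.σ_sq])

/-- square roots of `σ` lie in one of the quaternion groups -/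
theorem sq_σ {g : G} (hg : g ∈ TT E hc) (h : g * g = B.σ) :
    g ∈ QQ B ∨ E.ε * g * E.ε⁻¹ ∈ QQ B := by
  have cancel : ∀ t : G, t * t = 1 → g = g * t * t⁻¹ := fun t _ => by group
  rcases (mem_TT E hc).1 hg with (hw | hw) | hw | hw
  · obtain ⟨x, y, hx, hy, rfl⟩ := hw
    rw [pw_sq E hc hx hy] at h
    rcases pw_eq_σ E hc (CfsgLib.PSpAmalgam.SL3.quat_mul _ _ hx hx)
      (CfsgLib.PSpAmalgam.SL3.quat_mul _ _ hy hy) h with ⟨-, b⟩ | ⟨a, -⟩
    · left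
      rcases CfsgLib.PSpAmalgam.SL3.quat_cases y hy b with e | e <;> rw [e]
      · exact (mem_QQ B).2 ⟨x, hx, by rw [pw, ec_one, mul_one]⟩
      · exact (mem_QQ B).2 ⟨-x, neg_four hx, by rw [pw, ec_neg_one, sl_neg_mul B, (B.sl_cent x).2]⟩
    · right
      rw [conj_ε_pw E hc hx hy]
      rcases CfsgLib.PSpAmalgam.SL3.quat_cases x hx a with e | e <;> rw [e]
      · exact (mem_QQ B).2 ⟨y, hy, by rw [pw, ec_one, mul_one]⟩
      · exact (mem_QQ B).2 ⟨-y, neg_four hy, by rw [pw, ec_neg_one, sl_neg_mul B, (B.sl_cent y).2]⟩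
  · exfalso
    obtain ⟨x, y, hx, hy, e⟩ := hw
    obtain ⟨x', hx', d1, d1', -⟩ := δ_img E hx
    obtain ⟨y', hy', d2, d2', -⟩ := δ_img E hy
    have eg : g = pw E x y * ε' E := by
      rw [e, mul_assoc, ε'_sq, mul_one]
    have ec' : ε' E * pw E x y * (ε' E)⁻¹ = pw E y' x' := by
      rw [ε'_eq, show E.ε * E.δ * pw E x y * (E.ε * E.δ)⁻¹ = E.ε * (E.δ * pw E x y * E.δ⁻¹) * E.ε⁻¹ by
        group, conj_δ_pw E d1 d2', conj_ε_pw E hc hx' hy']
    have hgg : g * g = pw E (x * y') (y * x') := by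
      rw [← pw_mul E hc hy hy', ← ec', eg]
      calc pw E x y * ε' E * (pw E x y * ε' E)
          = pw E x y * (ε' E * pw E x y * (ε' E)⁻¹) * (ε' E * ε' E) := by group
        _ = _ := by rw [ε'_sq, mul_one]
    rw [h] at hgg
    rcases pw_eq_σ E hc (CfsgLib.PSpAmalgam.SL3.quat_mul _ _ hx hy')
      (CfsgLib.PSpAmalgam.SL3.quat_mul _ _ hy hx') hgg.symm with ⟨a, b⟩ | ⟨a, b⟩
    · have b' : y' * x = 1 := B.sl_inj (by
        rw [map_mul, map_one, ← d2, ← δ_img_inj E d1,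
          show E.δ * B.sl y * E.δ⁻¹ * (E.δ * B.sl x' * E.δ⁻¹) = E.δ * (B.sl y * B.sl x') * E.δ⁻¹ by group,
          ← map_mul, b, map_one, mul_one, mul_inv_cancel])
      rw [(q_sq_comm y' hy' x hx).1 b'] at a
      exact CfsgLib.PSpAmalgam.SL3.neg_one_ne a.symm
    · have a' : x' * y = 1 := B.sl_inj (by
        rw [map_mul, map_one, ← d1, ← δ_img_inj E d2,
          show E.δ * B.sl x * E.δ⁻¹ * (E.δ * B.sl y' * E.δ⁻¹) = E.δ * (B.sl x * B.sl y') * E.δ⁻¹ by group,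
          ← map_mul, a, map_one, mul_one, mul_inv_cancel])
      rw [(q_sq_comm x' hx' y hy).1 a'] at b
      exact CfsgLib.PSpAmalgam.SL3.neg_one_ne b.symm
  · exfalso
    obtain ⟨x, y, hx, hy, e⟩ := hw
    have hgg : g * g = pw E (x * y) (y * x) := by
      rw [← pw_mul E hc hy hy, ← conj_ε_pw E hc hx hy, e]
      calc g * g = g * (E.ε * E.ε) * g * (E.ε * E.ε) := by rw [E.ε_sq, mul_one, mul_one]
        _ = _ := by rw [ε_inv E]; group
    rw [h] at hgg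
    rcases pw_eq_σ E hc (CfsgLib.PSpAmalgam.SL3.quat_mul _ _ hx hy)
      (CfsgLib.PSpAmalgam.SL3.quat_mul _ _ hy hx) hgg.symm with ⟨a, b⟩ | ⟨a, b⟩
    · rw [(q_sq_comm x hx y hy).2 a] at b
      exact CfsgLib.PSpAmalgam.SL3.neg_one_ne b
    · rw [(q_sq_comm x hx y hy).1 a] at b
      exact CfsgLib.PSpAmalgam.SL3.neg_one_ne b.symm
  · exfalso
    obtain ⟨x, y, hx, hy, e⟩ := hw
    obtain ⟨x', hx', d1, -, n1⟩ := δ_img E hx
    obtain ⟨y', hy', -, d2, n2⟩ := δ_img E hy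
    have hgg : g * g = pw E (x * x') (y * y') := by
      rw [← pw_mul E hc hy hx', ← conj_δ_pw E d1 d2, e]
      calc g * g = g * (E.δ * E.δ) * g * (E.δ * E.δ) := by rw [δ_sq, mul_one, mul_one]
        _ = _ := by rw [δ_inv E]; group
    rw [h] at hgg
    rcases pw_eq_σ E hc (CfsgLib.PSpAmalgam.SL3.quat_mul _ _ hx hx')
      (CfsgLib.PSpAmalgam.SL3.quat_mul _ _ hy hy') hgg.symm with ⟨a, -⟩ | ⟨-, b⟩
    · exact n1 a
    · exact n2 b

/-- the commutation hypothesis -/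
theorem wc_of (hW : ∀ x ∈ closure ({B.q, B.v eV * B.q * (B.v eV)⁻¹} : Set G),
    ∀ y ∈ closure ({B.q, B.v eV * B.q * (B.v eV)⁻¹} : Set G),
      x * (E.ε * y * E.ε⁻¹) = E.ε * y * E.ε⁻¹ * x) : WC E := by
  obtain ⟨x, w, U⟩ := exists_uw B
  set S := closure ({B.q, B.v eV * B.q * (B.v eV)⁻¹} : Set G)
  have h1 : B.v eV * B.q * (B.v eV)⁻¹ = B.sl (w ^ 2 * x * (w ^ 2)⁻¹) := by
    rw [show eV = (2 : ℕ) • zV' + (2 : ℕ) • zV by decide +kernel, B.v_add, v_nsmul B, v_nsmul B,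
      map_mul, map_mul, map_inv, map_pow, U.hu, U.hw]
    have hq : Commute (B.v zV ^ 2) B.q := (show Commute B.q (B.v zV) from B.q_a).symm.pow_left _
    rw [mul_assoc (B.v zV' ^ 2), hq.eq]
    group
  have hmem : ∀ s : SL3, s ^ 4 = 1 → B.sl s ∈ S := by
    intro s hs
    obtain ⟨a, b, e⟩ := q_words x U.sq w U.cube U.ne 2 (by decide) s hs
    rw [e, map_mul, map_pow, map_pow, U.hu, show B.sl (w ^ (2 : Fin 3).val * x * (w ^ (2 : Fin 3).val)⁻¹) =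
      B.v eV * B.q * (B.v eV)⁻¹ from h1.symm]
    have m1 : B.q ∈ S := Subgroup.subset_closure (Set.mem_insert _ _)
    have m2 : B.v eV * B.q * (B.v eV)⁻¹ ∈ S :=
      Subgroup.subset_closure (Set.mem_insert_of_mem _ (Set.mem_singleton _))
    exact mul_mem (pow_mem m1 _) (pow_mem m2 _)
  exact fun s t hs ht => hW _ (hmem s hs) _ (hmem t ht)

variable [Finite G] (hL : Loc8 B) (hCE : centralizer ({B.v eV} : Set G) ≤ normalizer (B.J : Set G))

set_option maxHeartbeats 1000000 in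
include hc hL hCE in
/-- a two-group normalising the subgroup gives nothing new -/
theorem TT_self {P : Subgroup G} (hP : IsPGroup 2 P) (hTP : TT E hc ≤ P) {n : G} (hnP : n ∈ P)
    (hn : ∀ t ∈ TT E hc, n * t * n⁻¹ ∈ TT E hc) : n ∈ TT E hc := by
  obtain ⟨x, w, U⟩ := exists_uw B
  have hr4 := (uw_quat B U).2
  have hx4 := (uw_quat B U).1
  -- `σ` is fixed
  have hnσ : ∀ m ∈ P, (∀ t ∈ TT E hc, m * t * m⁻¹ ∈ TT E hc) → m * B.σ = B.σ * m := by
    intro m _ hm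
    have hg : E.δ * B.sl (qe x w 2) ∈ TT E hc := mul_mem (δ_mem_TT E hc)
      (WW_le_TT E hc (QQ_le_WW E hc ((mem_QQ B).2 ⟨_, (q_pow x U.sq w U.cube U.ne 2).1, rfl⟩)))
    have e : (E.δ * B.sl (qe x w 2)) ^ 4 = B.σ := by
      have hd := (δ_qe E U 2).1
      rw [δ_inv E] at hd
      have e2 : E.δ * B.sl (qe x w 2) * (E.δ * B.sl (qe x w 2)) = B.sl (qd x w 2 * qe x w 2) := by
        rw [map_mul, ← hd]; group
      rw [show ∀ g : G, g ^ 4 = (g * g) * (g * g) from fun g => by simp [pow_succ, mul_assoc], e2, ← map_mul,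
        q_eight x U.sq w U.cube U.ne, B.sl_neg]
    rcases pow_four_cases E hc (hm _ hg) with h | h <;> rw [conj_pow, e] at h
    · exfalso
      exact σ_ne_one B (conj_eq_one_iff.1 h)
    · exact mul_inv_eq_iff_eq_mul.1 h
  have main : ∀ m ∈ P, (∀ t ∈ TT E hc, m * t * m⁻¹ ∈ TT E hc) →
      m * B.sl x * m⁻¹ ∈ QQ B → m * B.sl (w * x * w⁻¹) * m⁻¹ ∈ QQ B → m ∈ TT E hc := by
    intro m hmP hm h1 h2
    have hmσ := hnσ m hmP hm
    have hQ : ∀ y ∈ QQ B, m * y * m⁻¹ ∈ QQ B := by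
      intro y hy
      obtain ⟨s, hs, rfl⟩ := (mem_QQ B).1 hy
      obtain ⟨a, b, e⟩ := q_words x U.sq w U.cube U.ne 1 (by decide) s hs
      have e' : (1 : Fin 3).val = 1 := rfl
      rw [e', pow_one] at e
      rw [e, map_mul, map_pow, map_pow, show ∀ p q : G, m * (p * q) * m⁻¹ = (m * p * m⁻¹) * (m * q * m⁻¹)
        from fun p q => by group, ← conj_pow, ← conj_pow]
      exact mul_mem (pow_mem h1 _) (pow_mem h2 _)
    have hmap : (QQ B).map (MulAut.conj m).toMonoidHom = QQ B := by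
      refine eq_of_le_of_card_ge ?_ (le_of_eq (card_map_of_injective
        (f := (MulAut.conj m).toMonoidHom) (MulEquiv.injective _)).symm)
      rintro _ ⟨y, hy, rfl⟩
      exact hQ y hy
    have hCQ : m * B.v zV * m⁻¹ ∈ CQ B := by
      refine (mem_CQ B).2 fun y hy => ?_
      obtain ⟨g, hg, eg⟩ := hmap.ge ((mem_QQ B).2 ⟨y, hy, rfl⟩)
      obtain ⟨s, -, rfl⟩ := (mem_QQ B).1 hg
      rw [← eg]
      show m * B.v zV * m⁻¹ * (m * B.sl s * m⁻¹) = m * B.sl s * m⁻¹ * (m * B.v zV * m⁻¹)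
      exact ((show Commute (B.v zV) (B.sl s) from (B.sl_cent s).1.symm).map (MulAut.conj m)).eq
    obtain ⟨K, hK, hK3, hdec, hKc, hKo⟩ := exists_K E
    obtain ⟨k, hk, i, hi⟩ := hdec _ hCQ
    obtain ⟨t, ht, et⟩ := (mem_QQ B).1 (K_le E hL hCE hK hK3 hKc hKo k hk)
    have hεa : E.ε * B.v zV * E.ε⁻¹ = B.sl w⁻¹ := by
      rw [map_inv, U.hw, E.conj_ε, ← v_neg B]; exact congrArg B.v (by decide +kernel)
    have hεi : E.ε * B.v zV ^ i.val * E.ε⁻¹ = B.sl (w⁻¹ ^ i.val) := by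
      rw [← conj_pow, hεa, map_pow]
    have hεs : E.ε * (m * B.v zV * m⁻¹) * E.ε⁻¹ = B.sl (t * w⁻¹ ^ i.val) := by
      rw [map_mul, et, ← hεi, hi]; group
    obtain ⟨hi0, r, hr, er⟩ := q_three w U.cube U.ne t ht i (B.sl_inj (by
        rw [map_pow, map_one, ← hεs, conj_pow, conj_pow, v_cube B]; group))
      (fun e => zV_ne ((v_eq_one B).1 (conj_eq_one_iff.1 (conj_eq_one_iff.1
        (hεs.trans (by rw [e, map_one]))))))
    have hrT : ec E r ∈ TT E hc := WW_le_TT E hc (ec_mem_WW E hc hr)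
    have hmv : (ec E r)⁻¹ * m * B.v zV * ((ec E r)⁻¹ * m)⁻¹ = B.v zV ^ i.val := by
      have e1 : m * B.v zV * m⁻¹ = E.ε * B.sl (t * w⁻¹ ^ i.val) * E.ε⁻¹ := by
        rw [← hεs, show ∀ X : G, E.ε * (E.ε * X * E.ε⁻¹) * E.ε⁻¹ = (E.ε * E.ε) * X * (E.ε * E.ε)⁻¹ from
          fun X => by group, E.ε_sq, one_mul, inv_one, mul_one]
      rw [er, map_mul, map_mul, map_inv, ← hεi] at e1
      calc (ec E r)⁻¹ * m * B.v zV * ((ec E r)⁻¹ * m)⁻¹
          = (ec E r)⁻¹ * (m * B.v zV * m⁻¹) * ec E r := by group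
        _ = (E.ε * E.ε) * B.v zV ^ i.val * (E.ε * E.ε)⁻¹ := by rw [e1, ec]; group
        _ = _ := by rw [E.ε_sq, one_mul, inv_one, mul_one]
    have hm2 : (ec E r)⁻¹ * m ∈ P := mul_mem (inv_mem (hTP hrT)) hmP
    have hm2σ : (ec E r)⁻¹ * m * B.σ = B.σ * ((ec E r)⁻¹ * m) :=
      ((show Commute (ec E r) B.σ from TT_σ E hc hrT).inv_left.mul_left hmσ).eq
    have fin : ∀ g ∈ P, g * B.v zV = B.v zV * g → g * B.σ = B.σ * g → g ∈ TT E hc := by
      intro g hg hz hσ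
      obtain ⟨s, j, rfl⟩ := cent_zσ B hz hσ
      obtain ⟨l, hl⟩ := hP ⟨_, hg⟩
      have hl' : (B.sl s * B.v zV ^ j.val) ^ 2 ^ l = 1 := congrArg Subtype.val hl
      obtain ⟨h4, he⟩ := coprime_form B (Nat.Coprime.pow_left l (by norm_num)) hl'
      rw [he]
      exact WW_le_TT E hc (QQ_le_WW E hc ((mem_QQ B).2 ⟨s, h4, rfl⟩))
    rw [show m = ec E r * ((ec E r)⁻¹ * m) by group]
    refine mul_mem hrT ?_
    fin_cases i
    · exact absurd rfl hi0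
    · exact fin _ hm2 (mul_inv_eq_iff_eq_mul.1 (by simpa using hmv)) hm2σ
    · have h : E.δ * ((ec E r)⁻¹ * m) ∈ TT E hc := fin _ (mul_mem (hTP (δ_mem_TT E hc)) hm2) (by
        refine mul_inv_eq_iff_eq_mul.1 ?_
        rw [show ∀ g : G, E.δ * g * B.v zV * (E.δ * g)⁻¹ = E.δ * (g * B.v zV * g⁻¹) * E.δ⁻¹ from
          fun g => by group, hmv,
          show B.v zV ^ 2 = (B.v zV)⁻¹ from eq_inv_of_mul_eq_one_left (by rw [← pow_succ]; exact v_cube B _),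
          ← v_neg B, conj_δ, neg_neg]) (((δ_σ E).mul_left hm2σ).eq)
      rw [show (ec E r)⁻¹ * m = E.δ⁻¹ * (E.δ * ((ec E r)⁻¹ * m)) by group]
      exact mul_mem (inv_mem (δ_mem_TT E hc)) h
  have hy : ∀ s : SL3, s ^ 4 = 1 → s * s = -1 →
      n * B.sl s * n⁻¹ ∈ QQ B ∨ E.ε * (n * B.sl s * n⁻¹) * E.ε⁻¹ ∈ QQ B := fun s hs h2 =>
    sq_σ E hc (hn _ (WW_le_TT E hc (QQ_le_WW E hc ((mem_QQ B).2 ⟨s, hs, rfl⟩)))) (by
      rw [show ∀ g : G, n * g * n⁻¹ * (n * g * n⁻¹) = n * (g * g) * n⁻¹ from fun g => by group,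
        ← map_mul, h2, B.sl_neg, hnσ n hnP hn, mul_inv_cancel_right])
  have hr2 : w * x * w⁻¹ * (w * x * w⁻¹) = -1 := by
    rw [show w * x * w⁻¹ * (w * x * w⁻¹) = w * (x * x) * w⁻¹ by group, U.sq,
      (Commute.neg_one_right w).eq, mul_inv_cancel_right]
  have noncomm : ¬ Commute (n * B.sl x * n⁻¹) (n * B.sl (w * x * w⁻¹) * n⁻¹) := by
    intro h
    refine q_noncomm x U.sq w U.cube U.ne (B.sl_inj ?_)
    have h' := h.map (MulAut.conj n⁻¹)
    simp only [MulAut.conj_apply, inv_inv] at h'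
    rw [map_mul B.sl, map_mul B.sl (w * x * w⁻¹) x]
    simpa [mul_assoc] using h'.eq
  have mixed : ∀ a b : G, a ∈ QQ B → E.ε * b * E.ε⁻¹ ∈ QQ B → Commute a b := by
    intro a b ha hb
    obtain ⟨s, hs, rfl⟩ := (mem_QQ B).1 ha
    obtain ⟨t, ht, et⟩ := (mem_QQ B).1 hb
    have e : b = ec E t := by
      rw [ec, et, ε_inv E]
      calc b = (E.ε * E.ε) * b * (E.ε * E.ε) := by rw [E.ε_sq, one_mul, mul_one]
        _ = _ := by group
    exact e ▸ hc s t hs ht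
  rcases hy x hx4 U.sq with h1 | h1 <;> rcases hy _ hr4 hr2 with h2 | h2
  · exact main n hnP hn h1 h2
  · exact absurd (mixed _ _ h1 h2) noncomm
  · exact absurd (mixed _ _ h2 h1).symm noncomm
  · have h := main (E.ε * n) (mul_mem (hTP (ε_mem_TT E hc)) hnP) (fun t ht => by
        rw [show E.ε * n * t * (E.ε * n)⁻¹ = E.ε * (n * t * n⁻¹) * E.ε⁻¹ by group]
        exact mul_mem (mul_mem (ε_mem_TT E hc) (hn t ht)) (inv_mem (ε_mem_TT E hc)))
      (by simpa [mul_assoc] using h1) (by simpa [mul_assoc] using h2)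
    rw [show n = E.ε⁻¹ * (E.ε * n) by group]
    exact mul_mem (inv_mem (ε_mem_TT E hc)) h

include hL hCE in
theorem not_two_dvd_index : ¬ 2 ∣ (TT E hc).index := by
  haveI := Fact.mk Nat.prime_two
  rw [← relIndex_top_right]
  exact not_dvd_relIndex (isPGroup_TT E hc) le_top fun P hP hTP _ n hnP hn =>
    TT_self E hc hL hCE hP hTP hnP hn

end CfsgLib.SpSixThree.AutX
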