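import Cfsg.Agent.Lib.SpSixThree.AutEps
import Cfsg.Agent.Lib.SpSixThree.AutT
import Cfsg.Agent.Lib.Transfer.ThompsonTransfer

/-!
# Statement S3342, all signs: a subgroup of index two
-/

set_option autoImplicit false
set_option maxRecDepth 100000
set_option maxHeartbeats 400000
set_option linter.unusedSectionVars false
set_option linter.style.haveILetI false
set_option synthInstance.maxSize 4096
set_option synthInstance.maxHeartbeats 200000

namespace CfsgLib.SpSixThree.AutX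

open Subgroup
open CfsgLib.PSpAmalgam (V3 zV zV' eV fV gV actR actS SL3)

theorem fix_e : ∀ k : K8, act8 k eV = eV → k.2.1 = 0 := by decide +kernel

theorem fix_two : ∀ y : V3, (y.1, -y.2.1, -y.2.2) = y → y = y.1.val • eV := by decide +kernel

theorem zmod3_sq : ∀ z : ZMod 3, z ≠ 0 → z * z - 1 = 0 := by decide +kernel

theorem eV_ne : (eV : V3) ≠ 0 := by decide +kernel

universe u

variable {G : Type u} [Group G] {B : Base G} (E : Eight B)

theorem card_cent_conj (g a : G) :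
    Nat.card (centralizer ({g * a * g⁻¹} : Set G)) = Nat.card (centralizer ({a} : Set G)) := by
  have e : centralizer ({g * a * g⁻¹} : Set G) =
      (centralizer ({a} : Set G)).map (MulAut.conj g).toMonoidHom := by
    ext y
    rw [mem_centralizer_singleton_iff, mem_map]
    constructor
    · intro h
      refine ⟨g⁻¹ * y * g, mem_centralizer_singleton_iff.2 ?_, by simp [mul_assoc]⟩
      calc g⁻¹ * y * g * a = g⁻¹ * (y * (g * a * g⁻¹)) * g := by group
        _ = g⁻¹ * (g * a * g⁻¹ * y) * g := by rw [h]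
        _ = _ := by group
    · rintro ⟨z, hz, rfl⟩
      exact ((show Commute z a from mem_centralizer_singleton_iff.1 hz).map (MulAut.conj g)).eq
  rw [e, card_map_of_injective (MulEquiv.injective _)]

theorem card_cent_of_isConj {a b : G} (h : IsConj a b) :
    Nat.card (centralizer ({b} : Set G)) = Nat.card (centralizer ({a} : Set G)) := by
  obtain ⟨g, rfl⟩ := isConj_iff.1 h
  exact card_cent_conj g a

theorem big_dvd [Finite G] {H X : Subgroup G} (hH : IsPGroup 2 H) (h : 64 ≤ Nat.card H) (hle : H ≤ X) :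
    64 ∣ Nat.card X := by
  haveI := Fact.mk Nat.prime_two
  obtain ⟨k, hk⟩ := IsPGroup.iff_card.1 hH
  have hk6 : 6 ≤ k := by
    by_contra h'
    have : Nat.card H ≤ 2 ^ 5 := hk ▸ Nat.pow_le_pow_right (by norm_num) (by omega)
    omega
  exact ((pow_dvd_pow 2 hk6).trans (dvd_of_eq hk.symm)).trans (card_dvd_of_le hle)

/-- the central sign twisted by `σ` is conjugate to `σ` -/
theorem σε'_conj : B.σ * ε' E = E.ε2 * B.σ * E.ε2⁻¹ := by
  rw [inv_eq_of_mul_eq_one_right (ε2_sq E), (ε'_σ E).symm.eq, ε', ← σ_ε2 E, σ_inv B]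
  calc E.ε2 * (B.σ * E.ε2 * B.σ) * B.σ = E.ε2 * B.σ * E.ε2 * (B.σ * B.σ) := by group
    _ = _ := by rw [B.σ_sq, mul_one]

variable (hc : WC E)

include hc in
theorem ec_not_QQ {y : SL3} (hy : y ^ 4 = 1) (h2 : y * y = -1) : ec E y ∉ QQ B := by
  intro h
  obtain ⟨s, hs, es⟩ := (mem_QQ B).1 h
  have h1 : pw E s⁻¹ y = 1 := by rw [pw, ← es, ← map_mul, inv_mul_cancel, map_one]
  rcases pw_eq_one E hc (inv_four hs) hy h1 with ⟨-, e⟩ | ⟨-, e⟩ <;> rw [e] at h2
  · rw [one_mul] at h2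
    exact CfsgLib.PSpAmalgam.SL3.neg_one_ne h2.symm
  · rw [neg_one_mul, neg_neg] at h2
    exact CfsgLib.PSpAmalgam.SL3.neg_one_ne h2.symm

theorem WW_conj_sl {g : G} (hg : g ∈ WW E hc) : ∃ a : SL3, a ^ 4 = 1 ∧
    ∀ s : SL3, s ^ 4 = 1 → g * B.sl s * g⁻¹ = B.sl (a * s * a⁻¹) := by
  obtain ⟨a, b, ha, hb, rfl⟩ := hg
  refine ⟨a, ha, fun s hs => ?_⟩
  rw [pw, map_mul, map_mul, map_inv]
  calc B.sl a * ec E b * B.sl s * (B.sl a * ec E b)⁻¹
      = B.sl a * (ec E b * B.sl s) * (ec E b)⁻¹ * (B.sl a)⁻¹ := by group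
    _ = B.sl a * (B.sl s * ec E b) * (ec E b)⁻¹ * (B.sl a)⁻¹ := by rw [(hc s b hs hb).eq]
    _ = _ := by group

theorem δ_not_mem : E.δ ∉ WW E hc := by
  intro h
  obtain ⟨x, w, U⟩ := exists_uw B
  obtain ⟨a, -, key⟩ := WW_conj_sl E hc h
  have d0 := δ_quat E U 0
  have d1 := δ_quat E U 1
  simp only [pow_zero, one_mul, inv_one, mul_one, pow_one] at d0 d1
  exact q_outer x U.sq w U.cube U.ne a (B.sl_inj ((key x (uw_quat B U).1).symm.trans d0))
    (B.sl_inj ((key _ (uw_quat B U).2).symm.trans d1))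

theorem ε_not_mem : E.ε ∉ WW E hc := by
  intro h
  obtain ⟨x, w, U⟩ := exists_uw B
  obtain ⟨a, ha, key⟩ := WW_conj_sl E hc h
  refine ec_not_QQ E hc (uw_quat B U).1 U.sq ((mem_QQ B).2 ⟨a * x * a⁻¹, ?_, (key x (uw_quat B U).1).symm⟩)
  rw [conj_pow, (uw_quat B U).1, mul_one, mul_inv_cancel]

theorem ε'_not_mem : ε' E ∉ WW E hc := by
  intro h
  obtain ⟨x, w, U⟩ := exists_uw B
  have hx := (uw_quat B U).1
  obtain ⟨a, ha, key⟩ := WW_conj_sl E hc h
  obtain ⟨x', hx', e1, -, -⟩ := δ_img E hx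
  have h2 : x' * x' = -1 := B.sl_inj (by
    rw [map_mul, ← e1, B.sl_neg, show E.δ * B.sl x * E.δ⁻¹ * (E.δ * B.sl x * E.δ⁻¹) =
      E.δ * (B.sl x * B.sl x) * E.δ⁻¹ by group, ← map_mul, U.sq, B.sl_neg, (δ_σ E).eq,
      mul_inv_cancel_right])
  refine ec_not_QQ E hc hx' h2 ((mem_QQ B).2 ⟨a * x * a⁻¹, ?_, ?_⟩)
  · rw [conj_pow, hx, mul_one, mul_inv_cancel]
  · rw [← key x hx, ec, ← e1, ε'_eq]; group

theorem ε_not_T1 : E.ε ∉ T1 E hc := by
  rintro (h | h)
  · exact ε_not_mem E hc h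
  · rw [← δ_eq] at h
    exact δ_not_mem E hc h

variable [Finite G]

theorem card_WW : 32 ≤ Nat.card (WW E hc) := by
  obtain ⟨x, w, U⟩ := exists_uw B
  have hq := fun i => q_pow x U.sq w U.cube U.ne i
  let sgn : Fin 2 → SL3 → SL3 := fun s t => if s = 0 then t else -t
  have hsg : ∀ s i, sgn s (qe x w i) ^ 4 = 1 := fun s i => by
    simp only [sgn]; split_ifs
    · exact (hq i).1
    · exact (hq i).2.1
  let f : Fin 4 × Fin 2 × Fin 4 → WW E hc := fun p =>
    ⟨pw E (sgn p.2.1 (qe x w p.1)) (qe x w p.2.2), _, _, hsg _ _, (hq _).1, rfl⟩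
  have hf : Function.Injective f := by
    rintro ⟨i, s, k⟩ ⟨i', s', k'⟩ h
    have h' : pw E (sgn s (qe x w i)) (qe x w k) = pw E (sgn s' (qe x w i')) (qe x w k') :=
      congrArg Subtype.val h
    have h1 : pw E ((sgn s (qe x w i))⁻¹ * sgn s' (qe x w i')) ((qe x w k)⁻¹ * qe x w k') = 1 := by
      rw [← pw_mul E hc (inv_four (hq k).1) (hsg s' i'), ← pw_inv E hc (hsg s i) (hq k).1, h',
        inv_mul_cancel]
    rcases pw_eq_one E hc (CfsgLib.PSpAmalgam.SL3.quat_mul _ _ (inv_four (hsg s i)) (hsg s' i'))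
      (CfsgLib.PSpAmalgam.SL3.quat_mul _ _ (inv_four (hq k).1) (hq k').1) h1 with ⟨e1, e2⟩ | ⟨-, e2⟩
    · have ek := inv_mul_eq_one.1 e2
      have ea := inv_mul_eq_one.1 e1
      obtain rfl := q_sep x U.sq w U.cube U.ne k k' (Or.inl ek.symm)
      have key : i = i' ∧ s = s' := by
        simp only [sgn] at ea
        split_ifs at ea with a b b
        · exact ⟨q_sep x U.sq w U.cube U.ne i i' (Or.inl ea.symm), a.trans b.symm⟩
        · obtain rfl := q_sep x U.sq w U.cube U.ne i i' (Or.inr (by rw [ea, neg_neg]))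
          exact absurd ea.symm (q_neg_ne _)
        · obtain rfl := q_sep x U.sq w U.cube U.ne i i' (Or.inr ea.symm)
          exact absurd ea (q_neg_ne _)
        · exact ⟨q_sep x U.sq w U.cube U.ne i i' (Or.inl (neg_inj.1 ea).symm), by omega⟩
      obtain ⟨rfl, rfl⟩ := key
      rfl
    · exfalso
      have e3 : qe x w k' = -qe x w k := by
        rw [inv_mul_eq_iff_eq_mul.1 e2, mul_neg, mul_one]
      obtain rfl := q_sep x U.sq w U.cube U.ne k k' (Or.inr e3)
      exact q_neg_ne _ e3.symm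
  have := Nat.card_le_card_of_injective f hf
  simpa using this

theorem card_T1 : 64 ≤ Nat.card (T1 E hc) :=
  le_trans (Nat.mul_le_mul_left 2 (card_WW E hc)) (card_adj (ε'_not_mem E hc))

theorem card_TT : 128 ≤ Nat.card (TT E hc) :=
  le_trans (Nat.mul_le_mul_left 2 (card_T1 E hc)) (card_adj (ε_not_T1 E hc))

include hc in
theorem big_σ : 64 ∣ Nat.card (centralizer ({B.σ} : Set G)) :=
  big_dvd (isPGroup_adj (isPGroup_WW E hc)) (card_T1 E hc) fun g hg =>
    mem_centralizer_singleton_iff.2 (TT_σ E hc (T1_le_TT E hc hg))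

include hc in
theorem big_diag {x w : SL3} (U : UW B x w) :
    64 ∣ Nat.card (centralizer ({pw E x x} : Set G)) ∧
      64 ∣ Nat.card (centralizer ({B.σ * pw E x x} : Set G)) := by
  obtain ⟨hx, hr⟩ := uw_quat B U
  set j := pw E x x with hj
  have hσj : Commute j B.σ := pw_σ E x x
  -- the action on the diagonal involution
  have hW : ∀ g ∈ WW E hc, g * j * g⁻¹ = j ∨ g * j * g⁻¹ = B.σ * j := by
    rintro _ ⟨a, b, ha, hb, rfl⟩
    rw [hj, pw_inv E hc ha hb, pw_mul E hc hb hx,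
      pw_mul E hc (CfsgLib.PSpAmalgam.SL3.quat_mul _ _ hb hx) (inv_four ha)]
    rcases q_flip x U.sq a ha with e1 | e1 <;> rcases q_flip x U.sq b hb with e2 | e2 <;> rw [e1, e2]
    · exact Or.inl rfl
    · exact Or.inr (pw_neg' E x x)
    · exact Or.inr (pw_neg E x x)
    · exact Or.inl (by rw [pw_neg, pw_neg', ← mul_assoc, B.σ_sq, one_mul])
  have hδ : E.δ * j * E.δ⁻¹ = j := by
    have d := δ_quat E U 0
    simp only [pow_zero, one_mul, inv_one, mul_one] at d
    have d' : E.δ * ec E x * E.δ⁻¹ = ec E x⁻¹ := by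
      rw [ec, ec, ← d, show E.δ * (E.ε * B.sl x * E.ε⁻¹) * E.δ⁻¹ =
        (E.δ * E.ε) * B.sl x * (E.δ * E.ε)⁻¹ by group, (δ_ε E).eq]
      group
    have ex : x⁻¹ = -x := inv_eq_of_mul_eq_one_right (by rw [mul_neg, U.sq, neg_neg])
    rw [hj, conj_δ_pw E d d', ex, pw_neg, pw_neg', ← mul_assoc, B.σ_sq, one_mul]
  have hε : E.ε * j * E.ε⁻¹ = j := conj_ε_pw E hc hx hx
  have hε' : ε' E * j * (ε' E)⁻¹ = j := by
    rw [ε'_eq, show E.ε * E.δ * j * (E.ε * E.δ)⁻¹ = E.ε * (E.δ * j * E.δ⁻¹) * E.ε⁻¹ by group, hδ, hε]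
  have hT : ∀ g ∈ TT E hc, g * j * g⁻¹ = j ∨ g * j * g⁻¹ = B.σ * j := by
    intro g hg
    have key : ∀ t : G, t * j * t⁻¹ = j → g * t ∈ WW E hc → g * j * g⁻¹ = j ∨ g * j * g⁻¹ = B.σ * j := by
      intro t ht h
      have e : g * j * g⁻¹ = g * t * j * (g * t)⁻¹ := by
        calc g * j * g⁻¹ = g * (t * j * t⁻¹) * g⁻¹ := by rw [ht]
          _ = _ := by group
      rw [e]; exact hW _ h
    rcases (mem_TT E hc).1 hg with (h | h) | h | h
    · exact hW g h
    · exact key _ hε' h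
    · exact key _ hε h
    · exact key _ hδ h
  let H : Subgroup G := TT E hc ⊓ centralizer ({j} : Set G)
  have hrT : B.sl (w * x * w⁻¹) ∈ TT E hc :=
    WW_le_TT E hc (QQ_le_WW E hc ((mem_QQ B).2 ⟨_, hr, rfl⟩))
  have hrj : B.sl (w * x * w⁻¹) * j * (B.sl (w * x * w⁻¹))⁻¹ = B.σ * j := by
    rw [show B.sl (w * x * w⁻¹) = pw E (w * x * w⁻¹) 1 by rw [pw, ec_one, mul_one], hj,
      pw_inv E hc hr one_four, pw_mul E hc one_four hx, inv_one, one_mul,
      pw_mul E hc hx (inv_four hr), mul_one, q_flips x U.sq w U.cube U.ne, pw_neg]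
  have hshift : ∀ g ∈ TT E hc, g ∉ H → g * B.sl (w * x * w⁻¹) ∈ H := by
    intro g hg hH
    refine mem_inf.2 ⟨mul_mem hg hrT, mem_centralizer_singleton_iff.2 (mul_inv_eq_iff_eq_mul.1 ?_)⟩
    have hg' : g * j * g⁻¹ = B.σ * j := (hT g hg).resolve_left fun e =>
      hH (mem_inf.2 ⟨hg, mem_centralizer_singleton_iff.2 (mul_inv_eq_iff_eq_mul.1 e)⟩)
    calc g * B.sl (w * x * w⁻¹) * j * (g * B.sl (w * x * w⁻¹))⁻¹
        = g * (B.sl (w * x * w⁻¹) * j * (B.sl (w * x * w⁻¹))⁻¹) * g⁻¹ := by group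
      _ = g * B.σ * j * g⁻¹ := by rw [hrj]; group
      _ = B.σ * (g * j * g⁻¹) := by rw [TT_σ E hc hg]; group
      _ = _ := by rw [hg', ← mul_assoc, B.σ_sq, one_mul]
  classical
  let f : TT E hc → H × Fin 2 := fun g =>
    if h : (g : G) ∈ H then (⟨g, h⟩, 0) else (⟨_, hshift g g.2 h⟩, 1)
  have hf : Function.Injective f := by
    intro g g' e
    simp only [f] at e
    split_ifs at e with a b b <;> simp only [Prod.mk.injEq, Subtype.mk.injEq] at e
    · exact Subtype.ext e.1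
    · exact absurd e.2 (by decide)
    · exact absurd e.2 (by decide)
    · exact Subtype.ext (mul_right_cancel e.1)
  have h64 : 64 ≤ Nat.card H := by
    have := Nat.card_le_card_of_injective f hf
    rw [Nat.card_prod, Nat.card_fin] at this
    have := card_TT E hc
    omega
  have hH2 : IsPGroup 2 H := (isPGroup_TT E hc).to_le inf_le_left
  refine ⟨big_dvd hH2 h64 inf_le_right, big_dvd hH2 h64 fun g hg => ?_⟩
  exact mem_centralizer_singleton_iff.2 ((show Commute g B.σ from TT_σ E hc (mem_inf.1 hg).1).mul_right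
    (mem_centralizer_singleton_iff.1 (mem_inf.1 hg).2)).eq

include hc in
/-- an involution of the product of the quaternion groups has a large centraliser -/
theorem big_WW {j : G} (hj : j ∈ WW E hc) (h2 : j * j = 1) (h1 : j ≠ 1) :
    64 ∣ Nat.card (centralizer ({j} : Set G)) := by
  obtain ⟨a, b, ha, hb, rfl⟩ := hj
  obtain ⟨x, w, U⟩ := exists_uw B
  obtain ⟨hx, -⟩ := uw_quat B U
  rw [pw_sq E hc ha hb] at h2
  rcases pw_eq_one E hc (CfsgLib.PSpAmalgam.SL3.quat_mul _ _ ha ha)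
      (CfsgLib.PSpAmalgam.SL3.quat_mul _ _ hb hb) h2 with ⟨e1, e2⟩ | ⟨e1, e2⟩
  · have hσ : pw E a b = B.σ := by
      rcases CfsgLib.PSpAmalgam.SL3.quat_cases a ha e1 with rfl | rfl <;>
        rcases CfsgLib.PSpAmalgam.SL3.quat_cases b hb e2 with rfl | rfl
      · exact absurd (pw_one_one E) h1
      · rw [pw_neg', pw_one_one, mul_one]
      · rw [pw_neg, pw_one_one, mul_one]
      · exact absurd (by rw [pw_neg, pw_neg', pw_one_one, mul_one, B.σ_sq]) h1
    rw [hσ]; exact big_σ E hc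
  · have hne : x * x ≠ 1 := by rw [U.sq]; exact CfsgLib.PSpAmalgam.SL3.neg_one_ne
    have orb : ∀ r : SL3, r ^ 4 = 1 → r * r = -1 →
        ∃ (i : Fin 3) (p : SL3), (p = x ∨ p = -x) ∧ r = w ^ i.val * p * (w ^ i.val)⁻¹ := by
      intro r hr hr2
      rcases CfsgLib.PSpAmalgam.SL3.quat_orbit w U.cube U.ne x r ⟨hx, hr, hne⟩ with e | e | ⟨i, e | e⟩
      · rw [e, one_mul] at hr2; exact absurd hr2.symm CfsgLib.PSpAmalgam.SL3.neg_one_ne
      · rw [e, neg_one_mul, neg_neg] at hr2; exact absurd hr2.symm CfsgLib.PSpAmalgam.SL3.neg_one_ne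
      · exact ⟨i, x, Or.inl rfl, e⟩
      · exact ⟨i, -x, Or.inr rfl, by rw [e, mul_neg, neg_mul]⟩
    obtain ⟨i, p, hp, rfl⟩ := orb a ha e1
    obtain ⟨k, q, hq, rfl⟩ := orb b hb e2
    have hcw : ∀ (n : ℕ) (z : SL3), Commute (ec E (w ^ n)) (B.sl z) := by
      intro n z
      have e : ec E (w ^ n) = ((B.v zV)⁻¹) ^ n := by
        rw [ec, map_pow, ← conj_pow, U.hw, E.conj_ε, ← v_neg B]
        exact congrArg (B.v · ^ n) (by decide +kernel)
      rw [e]
      exact ((show Commute (B.sl z) (B.v zV) from (B.sl_cent z).1).inv_right.pow_right n).symm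
    have hcs : ∀ (n : ℕ) (z : SL3), Commute (B.sl (w ^ n)) (ec E z) := by
      intro n z
      have h := (hcw n z).map (MulAut.conj E.ε)
      simp only [MulAut.conj_apply, conj_ε_ec] at h
      exact h
    have hconj : pw E (w ^ i.val * p * (w ^ i.val)⁻¹) (w ^ k.val * q * (w ^ k.val)⁻¹) =
        (B.sl (w ^ i.val) * ec E (w ^ k.val)) * pw E p q * (B.sl (w ^ i.val) * ec E (w ^ k.val))⁻¹ := by
      have eC : ec E (w ^ k.val * q * (w ^ k.val)⁻¹) = ec E (w ^ k.val) * ec E q * (ec E (w ^ k.val))⁻¹ := by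
        simp only [ec, map_mul, map_inv]; group
      rw [pw, pw, map_mul, map_mul, map_inv, eC]
      have c1 : Commute (B.sl p) (ec E (w ^ k.val)) := (hcw _ _).symm
      have c3 : Commute (B.sl (w ^ i.val))⁻¹ (ec E (w ^ k.val) * ec E q * (ec E (w ^ k.val))⁻¹) :=
        (((hcs i.val (w ^ k.val)).mul_right (hcs i.val q)).mul_right
          (hcs i.val (w ^ k.val)).inv_right).inv_left
      calc B.sl (w ^ i.val) * B.sl p * (B.sl (w ^ i.val))⁻¹ *
            (ec E (w ^ k.val) * ec E q * (ec E (w ^ k.val))⁻¹)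
          = B.sl (w ^ i.val) * B.sl p * ((B.sl (w ^ i.val))⁻¹ *
            (ec E (w ^ k.val) * ec E q * (ec E (w ^ k.val))⁻¹)) := by group
        _ = B.sl (w ^ i.val) * (B.sl p * ec E (w ^ k.val)) * ec E q * (ec E (w ^ k.val))⁻¹ *
            (B.sl (w ^ i.val))⁻¹ := by rw [c3.eq]; group
        _ = _ := by rw [c1.eq]; group
    rw [hconj, card_cent_conj]
    obtain ⟨b1, b2⟩ := big_diag E hc U
    rcases hp with rfl | rfl <;> rcases hq with rfl | rfl
    · exact b1
    · rw [pw_neg']; exact b2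
    · rw [pw_neg]; exact b2
    · rw [pw_neg, pw_neg', ← mul_assoc, B.σ_sq, one_mul]; exact b1

include E in
/-- nine does not divide the order of the centraliser of `ε'` -/
theorem not_nine (hCE : centralizer ({B.v eV} : Set G) ≤ normalizer (B.J : Set G)) :
    ¬ 9 ∣ Nat.card (centralizer ({ε' E} : Set G)) := by
  haveI := Fact.mk Nat.prime_three
  set X := centralizer ({ε' E} : Set G)
  let T := zpowers (B.v eV)
  have hT3 : Nat.card T = 3 := by rw [Nat.card_zpowers, orderOf_v B eV_ne]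
  have hTp : IsPGroup 3 T := IsPGroup.of_card (n := 1) (by rw [hT3, pow_one])
  have heX : B.v eV ∈ X := by
    refine mem_centralizer_singleton_iff.2 (mul_inv_eq_iff_eq_mul.1 ?_).symm
    rw [conj_ε']; exact congrArg B.v (by decide +kernel)
  have hTX : T ≤ X := zpowers_le.2 heX
  have hsyl : ¬ 3 ∣ T.relIndex X := by
    refine not_dvd_relIndex hTp hTX fun P hP _ hPX n hnP hn => ?_
    obtain ⟨m, hm⟩ := hP ⟨n, hnP⟩
    have hm' : n ^ 3 ^ m = 1 := congrArg Subtype.val hm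
    have hce : n * B.v eV = B.v eV * n := by
      obtain ⟨l, hl⟩ := mem_zpowers_iff.1 (hn _ (mem_zpowers _))
      have h2 : Commute (n ^ 2) (B.v eV) := by
        refine mul_inv_eq_iff_eq_mul.1 ?_
        have e1 : n ^ 2 * B.v eV * (n ^ 2)⁻¹ = B.v eV ^ (l * l) := by
          rw [pow_two, show n * n * B.v eV * (n * n)⁻¹ = n * (n * B.v eV * n⁻¹) * n⁻¹ by group, ← hl,
            ← conj_zpow, ← hl, ← zpow_mul]
        have h3 : B.v eV ^ (3 : ℤ) = 1 := by rw [zpow_ofNat, v_cube B]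
        have hl3 : (l : ZMod 3) ≠ 0 := by
          intro h0
          obtain ⟨c, rfl⟩ := (ZMod.intCast_zmod_eq_zero_iff_dvd l 3).1 h0
          rw [zpow_mul, Nat.cast_ofNat, h3, one_zpow] at hl
          exact eV_ne ((v_eq_one B).1 (conj_eq_one_iff.1 hl.symm))
        have hll : (((l * l - 1 : ℤ)) : ZMod 3) = 0 := by
          push_cast
          exact zmod3_sq _ hl3
        obtain ⟨c, hc'⟩ := (ZMod.intCast_zmod_eq_zero_iff_dvd _ 3).1 hll
        rw [e1, show l * l = (3 : ℤ) * c + 1 by simp only [Nat.cast_ofNat] at hc'; linarith, zpow_add,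
          zpow_mul, h3, one_zpow, one_mul, zpow_one]
      obtain ⟨c, hc'⟩ := Odd.pow (show Odd 3 by decide) (n := m)
      have e : n = (n ^ 2) ^ (c + 1) := by
        rw [← pow_mul, show 2 * (c + 1) = 3 ^ m + 1 by omega, pow_succ, hm', one_mul]
      rw [e]; exact (h2.pow_left _).eq
    obtain ⟨x, k, -, hk⟩ := norm_act E (hCE (mem_centralizer_singleton_iff.2 hce))
    have hr : k.2.1 = 0 := fix_e k (B.v_inj (by rw [← hk, hce, mul_inv_cancel_right]))
    have h4 : n ^ 4 ∈ B.J := by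
      rw [← B.cent_J]
      refine mem_centralizer_iff.2 fun g hg => ?_
      obtain ⟨y, rfl⟩ := (B.mem_J g).1 hg
      have := conj_iterate hk 4 y
      rw [CfsgLib.SpSixThree.Loc.act8_four k hr] at this
      exact (mul_inv_eq_iff_eq_mul.1 this).symm
    have hnJ : n ∈ B.J := by
      have hcop : Nat.gcd 4 (3 ^ m) = 1 := Nat.Coprime.pow_right m (show Nat.Coprime 4 3 by norm_num)
      rw [← zpow_one n, ← Int.ofNat_one, ← hcop, Nat.gcd_eq_gcd_ab, zpow_add, zpow_mul, zpow_mul,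
        zpow_natCast, zpow_natCast, hm', one_zpow, mul_one]
      exact zpow_mem h4 _
    obtain ⟨y, rfl⟩ := (B.mem_J n).1 hnJ
    have hy : (y.1, -y.2.1, -y.2.2) = y := B.v_inj (by
      rw [← conj_ε' E, ← mem_centralizer_singleton_iff.1 (hPX hnP), mul_inv_cancel_right])
    rw [fix_two y hy, v_nsmul B]
    exact pow_mem (mem_zpowers _) _
  intro h9
  refine hsyl ?_
  have e := (T.subgroupOf X).card_mul_index
  rw [Nat.card_congr (subgroupOfEquivOfLe hTX).toEquiv, hT3] at e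
  rw [← e] at h9
  exact Nat.dvd_of_mul_dvd_mul_left (by norm_num) (show 3 * 3 ∣ 3 * T.relIndex X from h9)

variable (hL : Loc8 B) (hCE : centralizer ({B.v eV} : Set G) ≤ normalizer (B.J : Set G))

include hc hL hCE in
theorem exists_half : ∃ M : Subgroup G, M.Normal ∧ M.index = 2 ∧ E.ε ∉ M := by
  haveI := Fact.mk Nat.prime_two
  let P : Sylow 2 G := (isPGroup_TT E hc).toSylow (not_two_dvd_index E hc hL hCE)
  have hPe : (P : Subgroup G) = TT E hc := rfl
  have hεne : E.ε ≠ 1 := fun e => by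
    have h := E.conj_ε eV
    rw [e, one_mul, inv_one, mul_one] at h
    exact absurd (B.v_inj h) (by decide +kernel)
  refine CfsgLib.Transfer.exists_index_two_of_not_conj_mem P (Q := T1 E hc) (u := E.ε)
    (hPe ▸ T1_le_TT E hc) (hPe ▸ relIndex_adj (ε_not_T1 E hc))
    (orderOf_eq_prime (by rw [pow_two, E.ε_sq]) hεne) fun g hg => ?_
  set j := g * E.ε * g⁻¹ with hjdef
  have hcard : Nat.card (centralizer ({j} : Set G)) = Nat.card (centralizer ({E.ε} : Set G)) :=
    card_cent_conj g E.ε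
  have hjj : j * j = 1 := by
    rw [hjdef, show g * E.ε * g⁻¹ * (g * E.ε * g⁻¹) = g * (E.ε * E.ε) * g⁻¹ by group, E.ε_sq, mul_one,
      mul_inv_cancel]
  have hj1 : j ≠ 1 := fun e => hεne (conj_eq_one_iff.1 e)
  have hcases := card_cent_ε E hL hCE
  have no64 : ¬ 64 ∣ Nat.card (centralizer ({j} : Set G)) := by
    rw [hcard]; rcases hcases with e | e <;> rw [e] <;> norm_num
  rcases hg with hw | hw
  · exact no64 (big_WW E hc hw hjj hj1)
  · obtain ⟨x, y, hx, hy, e⟩ := hw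
    obtain ⟨x', hx', d1, d1', -⟩ := δ_img E hx
    obtain ⟨y', hy', d2, d2', -⟩ := δ_img E hy
    have ej : j = pw E x y * ε' E := by rw [e, mul_assoc, ε'_sq, mul_one]
    have hcj : ε' E * pw E x y * (ε' E)⁻¹ = pw E y' x' := by
      rw [ε'_eq, show E.ε * E.δ * pw E x y * (E.ε * E.δ)⁻¹ = E.ε * (E.δ * pw E x y * E.δ⁻¹) * E.ε⁻¹ by
        group, conj_δ_pw E d1 d2', conj_ε_pw E hc hx' hy']
    have hprod : pw E (x * y') (y * x') = 1 := by
      rw [← pw_mul E hc hy hy', ← hcj, ← hjj, ej]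
      calc pw E x y * (ε' E * pw E x y * (ε' E)⁻¹)
          = pw E x y * (ε' E * pw E x y * (ε' E)⁻¹) * (ε' E * ε' E) := by rw [ε'_sq, mul_one]
        _ = _ := by group
    -- conjugates of `ε'` in the coset
    have hd1 : E.δ * B.sl y⁻¹ * E.δ⁻¹ = B.sl y'⁻¹ := by
      rw [map_inv, map_inv, ← d2]; group
    have hcz : ∀ z : SL3, z = y'⁻¹ → pw E z y * ε' E = pw E 1 y * ε' E * (pw E 1 y)⁻¹ := by
      rintro _ rfl
      have hey : ε' E * pw E 1 y⁻¹ * (ε' E)⁻¹ = pw E y'⁻¹ 1 := by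
        have hd1' : E.δ * ec E y⁻¹ * E.δ⁻¹ = ec E y'⁻¹ := by
          rw [ec, ec, ← hd1, show E.δ * (E.ε * B.sl y⁻¹ * E.ε⁻¹) * E.δ⁻¹ =
            (E.δ * E.ε) * B.sl y⁻¹ * (E.δ * E.ε)⁻¹ by group, (δ_ε E).eq]
          group
        rw [ε'_eq, show E.ε * E.δ * pw E 1 y⁻¹ * (E.ε * E.δ)⁻¹ =
          E.ε * (E.δ * pw E 1 y⁻¹ * E.δ⁻¹) * E.ε⁻¹ by group,
          conj_δ_pw E (x' := 1) (by rw [map_one, mul_one, mul_inv_cancel]) hd1',
          conj_ε_pw E hc one_four (inv_four hy')]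
      rw [pw_inv E hc one_four hy, inv_one]
      calc pw E y'⁻¹ y * ε' E = pw E 1 y * pw E y'⁻¹ 1 * ε' E := by
            rw [pw_mul E hc hy (inv_four hy'), one_mul, mul_one]
        _ = _ := by rw [← hey]; group
    rcases pw_eq_one E hc (CfsgLib.PSpAmalgam.SL3.quat_mul _ _ hx hy')
      (CfsgLib.PSpAmalgam.SL3.quat_mul _ _ hy hx') hprod with ⟨e1, -⟩ | ⟨e1, -⟩
    · have h1 : Nat.card (centralizer ({j} : Set G)) = Nat.card (centralizer ({ε' E} : Set G)) := by
        rw [ej, hcz x (eq_inv_of_mul_eq_one_left e1), card_cent_conj]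
      refine not_nine E hCE ?_
      rw [← h1, hcard]
      rcases hcases with e | e <;> rw [e] <;> norm_num
    · refine no64 ?_
      have ex : -x = y'⁻¹ := eq_inv_of_mul_eq_one_left (by rw [neg_mul, e1, neg_neg])
      have h1 : j = pw E 1 y * (B.σ * ε' E) * (pw E 1 y)⁻¹ := by
        calc j = B.σ * (pw E (-x) y * ε' E) := by
              rw [ej, pw_neg]
              calc pw E x y * ε' E = (B.σ * B.σ) * (pw E x y * ε' E) := by rw [B.σ_sq, one_mul]
                _ = _ := by group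
          _ = (B.σ * pw E 1 y) * ε' E * (pw E 1 y)⁻¹ := by rw [hcz _ ex]; group
          _ = _ := by rw [← (pw_σ E 1 y).eq]; group
      rw [h1, card_cent_conj, σε'_conj, card_cent_conj]
      exact big_σ E hc

end CfsgLib.SpSixThree.AutX
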