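import Cfsg.Agent.Lib.SpSixThree.Defs
import Cfsg.Agent.Lib.PSpAmalgam.Local
import Cfsg.Agent.Lib.PSpAmalgam.FrameExists
import Cfsg.Agent.Lib.U42.Main

/-!
# The even signs: the group is `PSp₄(3)` (statement S3342, piece P3)

With the even signs the coordinates form a frame of the amalgam of `PSp₄(3)`; a subgroup of index two
would contain `C(a)` and `N(J)`, hence the normalizer of a Sylow 3-subgroup.
-/

set_option autoImplicit false
set_option maxRecDepth 100000

namespace CfsgLib.SpSixThree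

open Subgroup
open CfsgLib.PSpAmalgam (V3 K4 zV zV' eV fV gV actR actS actA actB act IsSmall)

universe u v

/-- An element with a code as signs and permutation: an even code is a code of `K4`, an odd one
differs from the central sign by a code of `K4`. -/
theorem four_codes : ∀ k : K8, (∃ l : K4, ∀ x, act8 k x = act l x) ∨
    ∃ l : K4, ∀ x, act8 k x = -act l x := by decide +kernel

theorem four_act_eq : ∀ k l : K4, act k eV = act l eV → act k gV = act l gV →
    act k zV = act l zV → k = l := by decide +kernel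

theorem four_act_surj : ∀ (k : K4) (y : V3), ∃ x, act k x = y := by decide +kernel

set_option synthInstance.maxSize 4000 in
set_option synthInstance.maxHeartbeats 200000 in
theorem four_small : ∀ k : K4,
    (act k (act k (act k eV)) = eV ∧ act k (act k (act k gV)) = gV ∧
      act k (act k (act k zV)) = zV) → k ≠ ((0, 0), 0, 0) → ∀ x : V3, act k x = x →
    x = 0 ∨ (x.1 ≠ 0 ∧ x.2.1 ≠ 0 ∧ x.2.2 ≠ 0) := by decide +kernel

theorem four_zV_ne : (zV : V3) ≠ 0 := by decide +kernel

theorem four_third : ∀ x : V3, actA (actB x) = (-x.1, -x.2.1, x.2.2) := by decide +kernel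

theorem four_third' : ∀ x : V3, actA (actR x) = actR ((-x.1, -x.2.1, x.2.2) : V3) := by
  decide +kernel

theorem four_fix_R : ∀ x : V3, actR x = x → x = 0 ∨ x = zV ∨ x = -zV := by decide +kernel

variable {G : Type u} [Group G] [Finite G]

/-- With the even signs the coordinates extend to a frame. -/
theorem four_frame (B : Base G) (h4 : Four B) :
    ∃ F : CfsgLib.PSpAmalgam.Frame G, F.v = B.v ∧ F.Q = B.J ∧ F.β = B.β ∧ F.σ = B.σ := by
  classical
  obtain ⟨⟨d, hdd, hd, hdσ⟩, hno⟩ := h4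
  haveI : Fact (Nat.Prime 3) := ⟨Nat.prime_three⟩
  have hv0 : B.v 0 = 1 := by
    have h := B.v_add 0 0
    rw [add_zero] at h
    exact left_eq_mul.1 h
  have hvm : ∀ x, B.v x ∈ B.J := fun x => (B.mem_J _).2 ⟨x, rfl⟩
  have hJcard : Nat.card B.J = 27 := by
    rw [← Nat.card_congr (Equiv.ofBijective (fun x : V3 => (⟨B.v x, hvm x⟩ : B.J))
      ⟨fun x y e => B.v_inj (congrArg Subtype.val e), fun ⟨g, hg⟩ => by
        obtain ⟨x, hx⟩ := (B.mem_J g).1 hg
        exact ⟨x, Subtype.ext hx⟩⟩)]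
    simp [Nat.card_prod, Nat.card_zmod]
  let hE : K4 → G := fun k =>
    d ^ k.1.1.val * (B.β * d * B.β⁻¹) ^ k.1.2.val * B.β ^ k.2.1.val * B.σ ^ k.2.2.val
  have hiter : ∀ (w : G) (φ : V3 → V3), (∀ x, w * B.v x * w⁻¹ = B.v (φ x)) →
      ∀ (n : ℕ) (x : V3), w ^ n * B.v x * (w ^ n)⁻¹ = B.v (φ^[n] x) := by
    intro w φ h n
    induction n with
    | zero => intro x; simp
    | succ n ih => intro x; rw [Function.iterate_succ_apply', ← h, ← ih, pow_succ']; group
  have hb : ∀ x, B.β * d * B.β⁻¹ * B.v x * (B.β * d * B.β⁻¹)⁻¹ = B.v (actB x) := by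
    intro x
    obtain ⟨y, rfl⟩ : ∃ y, actR y = x := ⟨(x.2.1, x.2.2, x.1), rfl⟩
    rw [← B.conj_β y]
    have e : B.v (actB (actR y)) = B.β * (d * B.v y * d⁻¹) * B.β⁻¹ := by
      rw [hd, B.conj_β]; rfl
    rw [e]; group
  have hconj : ∀ (k : K4) (x : V3), hE k * B.v x * (hE k)⁻¹ = B.v (act k x) := by
    intro k x
    unfold act
    rw [← hiter d actA hd, ← hiter _ actB hb, ← hiter _ actR B.conj_β, ← hiter _ actS B.conj_σ]
    simp only [hE]
    group
  have hmem : ∀ k, hE k ∈ normalizer (B.J : Set G) := by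
    intro k
    refine mem_normalizer_iff.2 fun g => ⟨fun hg => ?_, fun hg => ?_⟩
    · obtain ⟨x, rfl⟩ := (B.mem_J g).1 hg
      rw [hconj]; exact hvm _
    · obtain ⟨y, hy⟩ := (B.mem_J _).1 hg
      obtain ⟨x, rfl⟩ := four_act_surj k y
      rw [← hconj] at hy
      rw [← mul_left_cancel (mul_right_cancel hy)]
      exact hvm x
  have hnm : ∀ g ∈ normalizer (B.J : Set G), ∃ (x : V3) (k : K4), g = B.v x * hE k := by
    intro g hg
    obtain ⟨k8, hk⟩ := B.monomial g hg
    rcases four_codes k8 with ⟨l, hl⟩ | ⟨l, hl⟩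
    · have hc : g * (hE l)⁻¹ ∈ centralizer (B.J : Set G) := by
        refine mem_centralizer_iff.2 fun j hj => ?_
        obtain ⟨x, rfl⟩ := (B.mem_J j).1 hj
        obtain ⟨y, rfl⟩ := four_act_surj l x
        have e := hk y
        rw [hl y, ← hconj l y] at e
        rw [← hconj]
        calc hE l * B.v y * (hE l)⁻¹ * (g * (hE l)⁻¹) = g * B.v y * g⁻¹ * (g * (hE l)⁻¹) := by
              rw [e]
          _ = g * (hE l)⁻¹ * (hE l * B.v y * (hE l)⁻¹) := by group
      rw [B.cent_J] at hc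
      obtain ⟨x, hx⟩ := (B.mem_J _).1 hc
      exact ⟨x, l, by rw [hx, inv_mul_cancel_right]⟩
    · exfalso
      obtain ⟨y, hy⟩ := four_act_surj l zV
      -- conjugate by an element inverting the coordinates
      refine hno (g * (hE l)⁻¹) (mul_mem hg (inv_mem (hmem l))) ?_
      have e := hk y
      rw [hl y, hy] at e
      have e' := hconj l y
      rw [hy] at e'
      rw [← e, ← e']
      group
  have hinj : Function.Injective fun p : V3 × K4 => B.v p.1 * hE p.2 := by
    rintro ⟨x, k⟩ ⟨y, l⟩ h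
    change B.v x * hE k = B.v y * hE l at h
    have hc : ∀ (a : V3) (m : K4) (z : V3),
        B.v a * hE m * B.v z * (B.v a * hE m)⁻¹ = B.v (act m z) := by
      intro a m z
      calc B.v a * hE m * B.v z * (B.v a * hE m)⁻¹
          = B.v a * (hE m * B.v z * (hE m)⁻¹) * (B.v a)⁻¹ := by group
        _ = B.v (act m z) := by
          rw [hconj, ← B.v_add, add_comm, B.v_add, mul_inv_cancel_right]
    have hact : ∀ z, act k z = act l z := fun z => B.v_inj (by rw [← hc x k z, h, hc y l z])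
    obtain rfl := four_act_eq k l (hact _) (hact _) (hact _)
    exact Prod.ext (B.v_inj (mul_right_cancel h)) rfl
  have hcardN : Nat.card (normalizer (B.J : Set G)) = 648 := by
    let f : V3 × K4 → normalizer (B.J : Set G) := fun p =>
      ⟨B.v p.1 * hE p.2, mul_mem (le_normalizer (hvm _)) (hmem _)⟩
    have hf : Function.Bijective f := ⟨fun p q h => hinj (congrArg Subtype.val h), fun ⟨g, hg⟩ => by
      obtain ⟨x, k, rfl⟩ := hnm g hg
      exact ⟨(x, k), rfl⟩⟩
    rw [← Nat.card_congr (Equiv.ofBijective f hf)]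
    simp [Nat.card_prod, Nat.card_zmod]
  have hsmall : ∀ x, IsSmall x → ¬ 81 ∣ Nat.card (centralizer ({B.v x} : Set G)) := by
    rintro x ⟨hx0, hx⟩ h81
    obtain ⟨P, hPc⟩ := Sylow.exists_subgroup_card_pow_prime 3 (n := 4)
      (show 3 ^ 4 ∣ Nat.card (centralizer ({B.v x} : Set G)) from h81)
    have hJC : B.J ≤ centralizer ({B.v x} : Set G) := fun g hg => by
      obtain ⟨y, rfl⟩ := (B.mem_J g).1 hg
      exact mem_centralizer_singleton_iff.2 (by rw [← B.v_add, add_comm, B.v_add])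
    have hJp : IsPGroup 3 (B.J.subgroupOf (centralizer ({B.v x} : Set G))) :=
      IsPGroup.of_card (n := 3)
        (by rw [Nat.card_congr (subgroupOfEquivOfLe hJC).toEquiv, hJcard]; norm_num)
    obtain ⟨S, hS⟩ := hJp.exists_le_sylow
    -- the Sylow subgroup over `J` has order 81
    have hScard : 81 ∣ Nat.card S := by
      obtain ⟨T, hT⟩ := (IsPGroup.of_card hPc).exists_le_sylow
      have h1 := card_dvd_of_le hT
      rw [hPc] at h1
      have h2 : Nat.card T = Nat.card S := by rw [T.card_eq_multiplicity, S.card_eq_multiplicity]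
      rw [← h2]; exact h1
    let S' : Subgroup G := (S : Subgroup _).map (centralizer ({B.v x} : Set G)).subtype
    have hS'c : Nat.card S' = Nat.card S := card_map_of_injective (subtype_injective _)
    have hS'p : IsPGroup 3 S' := S.isPGroup'.map _
    obtain ⟨m, hm⟩ := IsPGroup.iff_card.1 hS'p
    have hm4 : m = 4 := by
      have h1 : 3 ^ 4 ∣ 3 ^ m := by rw [← hm, hS'c]; exact hScard
      have h2 := (Nat.pow_dvd_pow_iff_le_right (by norm_num : 1 < 3)).1 h1
      by_contra hne
      exact B.sylow ((pow_dvd_pow 3 (show 5 ≤ m by omega)).trans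
        (hm ▸ card_subgroup_dvd_card S'))
    have hJS : B.J ≤ S' := fun g hg => ⟨⟨g, hJC hg⟩, hS hg, rfl⟩
    -- `J` is normal in it
    have hidx : (B.J.subgroupOf S').index = 3 := by
      have h1 := (B.J.subgroupOf S').index_mul_card
      rw [Nat.card_congr (subgroupOfEquivOfLe hJS).toEquiv, hJcard, hm, hm4] at h1
      norm_num at h1
      omega
    haveI : (B.J.subgroupOf S').Normal :=
      Subgroup.normal_of_index_eq_minFac_card (by
        rw [hidx, hm, hm4, Nat.Prime.pow_minFac Nat.prime_three (by norm_num)])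
    have hSN : S' ≤ normalizer (B.J : Set G) := (normal_subgroupOf_iff_le_normalizer hJS).1 this
    obtain ⟨g, hg, hgJ⟩ : ∃ g ∈ S', g ∉ B.J := SetLike.not_le_iff_exists.1 fun hle => by
      have h1 := card_le_of_le hle
      rw [hm, hm4, hJcard] at h1
      norm_num at h1
    have hg3 : g ^ 3 ∈ B.J := by
      have h1 := Subgroup.pow_index_mem (B.J.subgroupOf S') ⟨g, hg⟩
      rw [hidx] at h1
      exact h1
    obtain ⟨y, k, rfl⟩ := hnm g (hSN hg)
    have hc : ∀ z, B.v y * hE k * B.v z * (B.v y * hE k)⁻¹ = B.v (act k z) := fun z => by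
      calc B.v y * hE k * B.v z * (B.v y * hE k)⁻¹
          = B.v y * (hE k * B.v z * (hE k)⁻¹) * (B.v y)⁻¹ := by group
        _ = B.v (act k z) := by
          rw [hconj, ← B.v_add, add_comm, B.v_add, mul_inv_cancel_right]
    have hfix : act k x = x := by
      obtain ⟨⟨w, hw⟩, -, rfl⟩ := hg
      refine B.v_inj ?_
      rw [← hc, mul_inv_eq_iff_eq_mul]
      exact mem_centralizer_singleton_iff.1 hw
    have hcube : ∀ z, act k (act k (act k z)) = z := fun z => B.v_inj (by
      obtain ⟨w, hw⟩ := (B.mem_J _).1 hg3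
      have h3 := hiter _ (act k) hc 3 z
      change _ = B.v (act k (act k (act k z))) at h3
      rw [← h3, ← hw, ← B.v_add, add_comm, B.v_add, mul_inv_cancel_right])
    by_cases hk : k = ((0, 0), 0, 0)
    · subst hk
      exact hgJ (mul_mem (hvm y) (by simp [hE]))
    rcases four_small k ⟨hcube _, hcube _, hcube _⟩ hk x hfix with h | ⟨h1, h2, h3⟩
    · exact hx0 h
    · rcases hx with h | h | h
      exacts [h1 h, h2 h, h3 h]
  exact ⟨{
    v := B.v
    v_add := B.v_add
    v_inj := B.v_inj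
    Q := B.J
    mem_Q := B.mem_J
    a := d
    β := B.β
    σ := B.σ
    conj_a := hd
    conj_β := B.conj_β
    conj_σ := B.conj_σ
    a_sq := hdd
    σ_sq := B.σ_sq
    β_cube := B.β_cube
    σ_a := hdσ.symm
    normalizer_mem := fun g hg => hnm g hg
    card_normalizer := hcardN
    card_cent_z := B.card_cent_z
    small_sylow := hsmall
    sig := B.sig
    sl := B.sl
    sl_inj := B.sl_inj
    sl_cent := B.sl_cent
    sl_neg := B.sl_neg
    sl_z' := B.sl_z'
    card_cent_z_σ := B.card_cent_z_σ }, rfl, rfl, rfl, rfl⟩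

/-- With the even signs there is no subgroup of index two. -/
theorem four_index (B : Base G) (h4 : Four B) : ∀ K : Subgroup G, K.index ≠ 2 := by
  classical
  intro K hK
  obtain ⟨⟨d, -, hd, -⟩, hno⟩ := h4
  haveI : Fact (Nat.Prime 3) := ⟨Nat.prime_three⟩
  haveI := normal_of_index_eq_two hK
  have hodd : ∀ (g : G) (n : ℕ), g ^ (2 * n + 1) ∈ K → g ∈ K := by
    intro g n hg
    have h2 : g ^ (2 * n) ∈ K := by
      rw [pow_mul]; exact pow_mem (sq_mem_of_index_two hK g) n
    rwa [pow_succ, mul_mem_cancel_left h2] at hg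
  have hv0 : B.v 0 = 1 := by
    have h := B.v_add 0 0
    rw [add_zero] at h
    exact left_eq_mul.1 h
  have hv3 : ∀ x, B.v x ^ 3 = 1 := fun x => by
    rw [pow_succ, pow_two, ← B.v_add, ← B.v_add, CfsgLib.PSpAmalgam.three_smul_v3, hv0]
  have hvK : ∀ x, B.v x ∈ K := fun x =>
    hodd _ 1 (by rw [show 2 * 1 + 1 = 3 from rfl, hv3]; exact K.one_mem)
  have hβ3 : B.β ^ 3 = 1 := by rw [pow_succ, pow_two]; exact B.β_cube
  have hβK : B.β ∈ K := hodd _ 1 (by rw [show 2 * 1 + 1 = 3 from rfl, hβ3]; exact K.one_mem)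
  have hslK : ∀ w, B.sl w ∈ K := fun w => by
    obtain ⟨x, y, hx, rfl⟩ := CfsgLib.PSpAmalgam.FrameExists.sl_gen w
    rw [map_mul, map_mul]
    exact mul_mem (hodd _ 1 (by rw [show 2 * 1 + 1 = 3 from rfl, ← map_pow, hx, map_one]
                                exact K.one_mem))
      (mul_self_mem_of_index_two hK _)
  have hCK : ∀ c : G, c * B.v zV = B.v zV * c → c ∈ K := fun c hc => by
    refine (closure_le K).2 ?_ (B.cent_z_gen c hc)
    obtain ⟨w, hw⟩ := B.sl_q
    rintro s (rfl | rfl | rfl | rfl | rfl)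
    · exact hvK _
    · exact hvK _
    · exact hβK
    · exact hw ▸ hslK w
    · exact hvK _
  have hJK : ∀ j ∈ B.J, j ∈ K := fun j hj => by
    obtain ⟨x, rfl⟩ := (B.mem_J j).1 hj
    exact hvK x
  have hdK : d ∈ K := by
    have hbK : B.β * d * B.β⁻¹ ∈ K ↔ d ∈ K := by
      rw [mul_mem_cancel_right (inv_mem hβK), mul_mem_cancel_left hβK]
    have hab : d * (B.β * d * B.β⁻¹) ∈ K := (mul_mem_iff_of_index_two hK).2 hbK.symm
    have hc : (B.β⁻¹ * d * B.β)⁻¹ * (d * (B.β * d * B.β⁻¹)) ∈ centralizer (B.J : Set G) := by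
      refine mem_centralizer_iff.2 fun j hj => ?_
      obtain ⟨x, rfl⟩ := (B.mem_J j).1 hj
      have hb : d * (B.β * d * B.β⁻¹) * B.v x * (d * (B.β * d * B.β⁻¹))⁻¹ =
          B.v (actA (actB x)) := by
        obtain ⟨y, rfl⟩ : ∃ y, actR y = x := ⟨(x.2.1, x.2.2, x.1), rfl⟩
        have e : B.v (actA (actB (actR y))) = d * (B.β * (d * B.v y * d⁻¹) * B.β⁻¹) * d⁻¹ := by
          rw [hd, B.conj_β, hd]; rfl
        rw [e, ← B.conj_β y]; group
      have hc3 : B.β⁻¹ * d * B.β * B.v x * (B.β⁻¹ * d * B.β)⁻¹ = B.v (-x.1, -x.2.1, x.2.2) := by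
        have e : B.β * B.v ((-x.1, -x.2.1, x.2.2) : V3) * B.β⁻¹ =
            d * (B.β * B.v x * B.β⁻¹) * d⁻¹ := by
          rw [B.conj_β, B.conj_β, hd, ← four_third' x]; rfl
        calc B.β⁻¹ * d * B.β * B.v x * (B.β⁻¹ * d * B.β)⁻¹
            = B.β⁻¹ * (d * (B.β * B.v x * B.β⁻¹) * d⁻¹) * B.β := by group
          _ = B.v (-x.1, -x.2.1, x.2.2) := by rw [← e]; group
      rw [four_third x, ← hc3] at hb
      calc B.v x * ((B.β⁻¹ * d * B.β)⁻¹ * (d * (B.β * d * B.β⁻¹)))
          = (B.β⁻¹ * d * B.β)⁻¹ * (B.β⁻¹ * d * B.β * B.v x * (B.β⁻¹ * d * B.β)⁻¹) *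
              (d * (B.β * d * B.β⁻¹)) := by group
        _ = _ := by rw [← hb]; group
    rw [B.cent_J] at hc
    have h3 := mul_mem hab (inv_mem (hJK _ hc))
    rw [mul_inv_rev, inv_inv, mul_inv_cancel_left] at h3
    rwa [mul_mem_cancel_right hβK, mul_mem_cancel_left (inv_mem hβK)] at h3
  -- the Sylow subgroup generated by `J` and `β`
  have hvm : ∀ x, B.v x ∈ B.J := fun x => (B.mem_J _).2 ⟨x, rfl⟩
  have hβN : B.β ∈ normalizer (B.J : Set G) := by
    refine mem_normalizer_iff.2 fun g => ⟨fun hg => ?_, fun hg => ?_⟩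
    · obtain ⟨x, rfl⟩ := (B.mem_J g).1 hg
      rw [B.conj_β]; exact hvm _
    · obtain ⟨y, hy⟩ := (B.mem_J _).1 hg
      obtain ⟨x, rfl⟩ : ∃ x, actR x = y := ⟨(y.2.1, y.2.2, y.1), rfl⟩
      rw [← B.conj_β] at hy
      rw [← mul_left_cancel (mul_right_cancel hy)]
      exact hvm x
  let S : Subgroup G := B.J ⊔ zpowers B.β
  have hJp : IsPGroup 3 B.J := fun j => ⟨1, by
    obtain ⟨x, hx⟩ := (B.mem_J _).1 j.2
    exact Subtype.ext (by rw [pow_one, Subgroup.coe_pow, ← hx, hv3]; rfl)⟩
  have hβp : IsPGroup 3 (zpowers B.β) := by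
    rintro ⟨z, hz⟩
    obtain ⟨i, rfl⟩ := mem_zpowers_iff.1 hz
    exact ⟨1, Subtype.ext (by
      simp only [pow_one, Subgroup.coe_pow, Subgroup.coe_one]
      rw [← zpow_natCast, ← zpow_mul, mul_comm, zpow_mul, zpow_natCast, hβ3, one_zpow])⟩
  have hSp : IsPGroup 3 S := IsPGroup.to_sup_of_normal_left' hJp hβp (zpowers_le.2 hβN)
  obtain ⟨P, hSP⟩ := hSp.exists_le_sylow
  have hPeq : (P : Subgroup G) = S := by
    obtain ⟨m, hm⟩ := IsPGroup.iff_card.1 P.isPGroup'
    obtain ⟨n, hn⟩ := IsPGroup.iff_card.1 hSp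
    have hm4 : m ≤ 4 := by
      by_contra h
      exact B.sylow ((pow_dvd_pow 3 (show 5 ≤ m by omega)).trans (hm ▸ card_subgroup_dvd_card _))
    have hn4 : 4 ≤ n := by
      by_contra h
      have hle : B.J ≤ S := le_sup_left
      have hJcard : Nat.card B.J = 27 := by
        rw [← Nat.card_congr (Equiv.ofBijective (fun x : V3 => (⟨B.v x, hvm x⟩ : B.J))
          ⟨fun x y e => B.v_inj (congrArg Subtype.val e), fun ⟨g, hg⟩ => by
            obtain ⟨x, hx⟩ := (B.mem_J g).1 hg
            exact ⟨x, Subtype.ext hx⟩⟩)]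
        simp [Nat.card_prod, Nat.card_zmod]
      have h1 : Nat.card S ≤ 3 ^ 3 := hn ▸ Nat.pow_le_pow_right (by norm_num) (by omega)
      have e : B.J = S := eq_of_le_of_card_ge hle (by rw [hJcard]; exact h1)
      have hβJ : B.β ∈ B.J := e ▸ (le_sup_right : zpowers B.β ≤ S) (mem_zpowers _)
      obtain ⟨x, hx⟩ := (B.mem_J _).1 hβJ
      have h2 := B.conj_β eV
      rw [← hx, ← B.v_add, add_comm, B.v_add, mul_inv_cancel_right] at h2
      exact absurd (B.v_inj h2) (by decide +kernel)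
    refine (eq_of_le_of_card_ge hSP ?_).symm
    rw [hm, hn]
    exact Nat.pow_le_pow_right (by norm_num) (hm4.trans hn4)
  have haS : ∀ s ∈ S, s * B.v zV = B.v zV * s := by
    have hle : S ≤ centralizer ({B.v zV} : Set G) := by
      refine sup_le (fun j hj => ?_) (zpowers_le.2 ?_)
      · obtain ⟨x, rfl⟩ := (B.mem_J j).1 hj
        exact mem_centralizer_singleton_iff.2 (by rw [← B.v_add, add_comm, B.v_add])
      · exact mem_centralizer_singleton_iff.2 (B.R_comm _ B.β_mem)
    exact fun s hs => mem_centralizer_singleton_iff.1 (hle hs)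
  have hPK : (P : Subgroup G) ≤ K := by
    rw [hPeq]
    exact sup_le (fun j hj => hJK j hj) (zpowers_le.2 hβK)
  have hNK : normalizer ((P : Subgroup G) : Set G) ≤ K := by
    intro g hg
    rw [hPeq] at hg
    -- `g a g⁻¹` is central in the Sylow subgroup
    have hcen : ∀ s ∈ S, s * (g * B.v zV * g⁻¹) = g * B.v zV * g⁻¹ * s := by
      intro s hs
      have h1 : g⁻¹ * s * g ∈ S := by
        have := (mem_normalizer_iff.1 (inv_mem hg) s).1 hs
        simpa using this
      calc s * (g * B.v zV * g⁻¹) = g * (g⁻¹ * s * g * B.v zV) * g⁻¹ := by group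
        _ = g * (B.v zV * (g⁻¹ * s * g)) * g⁻¹ := by rw [haS _ h1]
        _ = _ := by group
    have hJ : g * B.v zV * g⁻¹ ∈ B.J := by
      rw [← B.cent_J]
      exact mem_centralizer_iff.2 fun j hj => hcen j (mem_sup_left hj)
    obtain ⟨y, hy⟩ := (B.mem_J _).1 hJ
    have hR : actR y = y := B.v_inj (by
      rw [← B.conj_β, mul_inv_eq_iff_eq_mul, hy]
      exact hcen _ (mem_sup_right (mem_zpowers _)))
    rcases four_fix_R y hR with rfl | rfl | rfl
    · exfalso
      rw [hv0] at hy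
      exact four_zV_ne (B.v_inj ((conj_eq_one_iff.1 hy.symm).trans hv0.symm))
    · exact hCK g (mul_inv_eq_iff_eq_mul.1 hy.symm)
    · exfalso
      obtain ⟨n, hn, hnz⟩ := B.fusion zV (-zV) (isConj_iff.2 ⟨g, hy.symm⟩)
      exact hno n hn hnz
  have htop := P.normalizer_sup_eq_top' hPK
  have : K = ⊤ := top_le_iff.1 (htop ▸ sup_le hNK le_rfl)
  rw [this, index_top] at hK
  norm_num at hK

/-- With the even signs the group is `PSp₄(3)`. -/
theorem four : StmtFour.{u, v} := by
  intro G _ _ B h4 F _ _ hF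
  obtain ⟨Fr, -, -, -, -⟩ := four_frame B h4
  obtain ⟨D⟩ := Fr.exists_cen
  haveI : NeZero (2 : F) := ⟨fun h => by
    have e := ZMod.ringEquivOfPrime F Nat.prime_three hF
    have : e.symm (2 : F) = e.symm 0 := by rw [h]
    rw [map_ofNat, map_zero] at this
    exact absurd this (by decide)⟩
  haveI : IsSimpleGroup (Cfsg.PSp 2 F) := CfsgLib.Classical.isSimpleGroup_psp (by simp)
    (CfsgLib.Classical.sp_commutator_eq_top' (Or.inr (Or.inl ⟨by simp, by
      rw [Nat.card_eq_fintype_card, hF]⟩)))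
  have E := CfsgLib.U42.cenP hF
  refine CfsgLib.U42.unique (four_index B h4) (fun K hK => ?_) D E
  haveI := Subgroup.normal_of_index_eq_two hK
  rcases IsSimpleGroup.eq_bot_or_eq_top_of_normal K inferInstance with h | h
  · rw [h, Subgroup.index_bot] at hK
    have hU := Subgroup.card_le_card_group
      (Subgroup.centralizer ({CfsgLib.Involutions.PSpFour.zG F} : Set (Cfsg.PSp 2 F)))
    rw [E.card_cent, hK] at hU
    norm_num at hU
  · rw [h, Subgroup.index_top] at hK
    norm_num at hK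

end CfsgLib.SpSixThree
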