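import Cfsg.Agent.Lib.SpSixThree.AutHalf
import Cfsg.Agent.Lib.SpSixThree.Four
import Cfsg.Agent.Lib.U62Cent.Tops.AutPSp

/-!
# Statement S3342, all signs: the group is the automorphism group of `PSp₄(3)`
-/

set_option autoImplicit false
set_option maxRecDepth 100000
set_option maxHeartbeats 400000
set_option linter.unusedSectionVars false
set_option linter.style.haveILetI false
set_option synthInstance.maxSize 4096
set_option synthInstance.maxHeartbeats 200000

namespace CfsgLib.SpSixThree.AutX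

open Subgroup
open CfsgLib.PSpAmalgam (V3 zV zV' eV fV gV actR actS SL3)

theorem full_rep : ∀ x : V3, x.1 ≠ 0 → x.2.1 ≠ 0 → x.2.2 ≠ 0 → ∃ k : K8, act8 k zV = x := by
  decide +kernel

theorem sign_cases : ∀ x : V3, (x.1 ≠ 0 ∧ x.2.1 ≠ 0 ∧ x.2.2 ≠ 0) ∨ (-x.1, x.2.1, x.2.2) = x ∨
    (x.1, -x.2.1, x.2.2) = x ∨ (x.1, x.2.1, -x.2.2) = x := by decide +kernel

universe u v

variable {G : Type u} [Group G] [Finite G] {B : Base G} (E : Eight B)

/-- the group has a subgroup of index two of type `PSp₄(3)` -/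
theorem stmtAut : StmtAut.{u, v} := by
  intro G _ _ B E hL hCE hW F _ _ hF
  classical
  have hc := wc_of E hW
  obtain ⟨M, hMn, hM2, hεM⟩ := exists_half E hc hL hCE
  haveI := hMn
  -- what lies in the subgroup
  have hcube : ∀ g : G, g ^ 3 = 1 → g ∈ M := fun g hg => by
    have e : g = (g ^ 2) ^ 2 := by rw [← pow_mul, pow_succ, hg, one_mul]
    rw [e]; exact pow_mem (sq_mem_of_index_two hM2 g) _
  have hvM : ∀ x, B.v x ∈ M := fun x => hcube _ (v_cube B x)
  have hβM : B.β ∈ M := hcube _ (by rw [pow_succ, pow_two]; exact B.β_cube)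
  have hqM : B.q ∈ M := by
    have h := hcube (B.q * (B.v eV)⁻¹) (by rw [pow_succ, pow_two]; exact B.q_e)
    exact (mul_mem_cancel_right (inv_mem (hvM eV))).1 h
  have hσM : B.σ ∈ M := B.q_sq ▸ mul_mem hqM hqM
  have hC : centralizer ({B.v zV} : Set G) ≤ M := by
    intro c hc
    refine (closure_le M).2 ?_ (B.cent_z_gen c (mem_centralizer_singleton_iff.1 hc))
    intro g hg
    simp only [Set.mem_insert_iff, Set.mem_singleton_iff] at hg
    rcases hg with rfl | rfl | rfl | rfl | rfl
    exacts [hvM _, hvM _, hβM, hqM, hvM _]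
  have hε2M : E.ε2 ∉ M := fun h => hεM (by
    have := hMn.conj_mem _ h B.β⁻¹
    rwa [Eight.ε2, show B.β⁻¹ * (B.β * E.ε * B.β⁻¹) * B.β⁻¹⁻¹ = E.ε by group] at this)
  have hε3M : E.ε3 ∉ M := fun h => hεM (by
    have := hMn.conj_mem _ h B.β
    rwa [conj_β_ε3] at this)
  have hε'M : ε' E ∈ M := (mul_mem_iff_of_index_two hM2).2 (iff_of_false hε2M hε3M)
  have hδM : E.δ ∉ M := fun h => hεM (by
    rw [δ_eq] at h
    exact (mul_mem_cancel_right hε'M).1 h)
  have hsl : ∀ t, B.sl t ∈ M := fun t => hC (mem_centralizer_singleton_iff.2 (B.sl_cent t).1)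
  have hR : B.R ≤ M := fun r hr => hcube r (B.R_cube r hr)
  have hJ : B.J ≤ M := by
    intro g hg
    obtain ⟨x, rfl⟩ := (B.mem_J g).1 hg
    exact hvM x
  -- normalisers
  have hdown : ∀ {H : Subgroup G}, H ≤ M → ∀ n : M, (n : G) ∈ normalizer (H : Set G) →
      n ∈ normalizer ((H.subgroupOf M : Subgroup M) : Set M) := by
    intro H _ n hn
    refine mem_normalizer_iff.2 fun x => ?_
    simpa [mem_subgroupOf] using mem_normalizer_iff.1 hn (x : G)
  have hup : ∀ n : M, n ∈ normalizer ((B.J.subgroupOf M : Subgroup M) : Set M) →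
      (n : G) ∈ normalizer (B.J : Set G) := by
    intro n hn
    refine conj_mem_normalizer fun y => ?_
    have h := (mem_normalizer_iff.1 hn ⟨B.v y, hvM y⟩).1 (mem_subgroupOf.2 (v_mem B y))
    simpa [mem_subgroupOf] using h
  -- centralisers of the long vectors
  have hfull : ∀ x : V3, x.1 ≠ 0 → x.2.1 ≠ 0 → x.2.2 ≠ 0 → ∀ c : G, c * B.v x = B.v x * c → c ∈ M := by
    intro x h1 h2 h3 c hcx
    obtain ⟨k, hk⟩ := full_rep x h1 h2 h3
    have e : B.v x = cd8 E k * B.v zV * (cd8 E k)⁻¹ := by rw [conj_cd8, hk]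
    have h : (cd8 E k)⁻¹ * c * cd8 E k ∈ M := hC (mem_centralizer_singleton_iff.2 (by
      rw [e] at hcx
      calc (cd8 E k)⁻¹ * c * cd8 E k * B.v zV
          = (cd8 E k)⁻¹ * (c * (cd8 E k * B.v zV * (cd8 E k)⁻¹)) * cd8 E k := by group
        _ = (cd8 E k)⁻¹ * (cd8 E k * B.v zV * (cd8 E k)⁻¹ * c) * cd8 E k := by rw [hcx]
        _ = _ := by group))
    have := hMn.conj_mem _ h (cd8 E k)
    simpa [mul_assoc] using this
  have hswap : ∀ (g s : G), g ∉ M → s ∉ M → g * s ∈ M := fun g s hg hs =>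
    (mul_mem_iff_of_index_two hM2).2 (iff_of_false hg hs)
  have hsN : ∀ (g : G) (f : V3 → V3), (∀ y, g * B.v y * g⁻¹ = B.v (f y)) →
      g ∈ normalizer (B.J : Set G) := fun g f hf =>
    conj_mem_normalizer fun y => by rw [hf]; exact v_mem B _
  let B' : Base M :=
    { v := fun x => ⟨B.v x, hvM x⟩
      v_add := fun x y => Subtype.ext (B.v_add x y)
      v_inj := fun x y e => B.v_inj (congrArg Subtype.val e)
      J := B.J.subgroupOf M
      mem_J := fun g => by
        rw [mem_subgroupOf, B.mem_J]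
        exact ⟨fun ⟨x, hx⟩ => ⟨x, Subtype.ext hx⟩, fun ⟨x, hx⟩ => ⟨x, congrArg Subtype.val hx⟩⟩
      R := B.R.subgroupOf M
      card_R := by rw [Nat.card_congr (subgroupOfEquivOfLe hR).toEquiv, B.card_R]
      R_cube := fun r hr => Subtype.ext (B.R_cube _ (mem_subgroupOf.1 hr))
      R_comm := fun r hr => Subtype.ext (B.R_comm _ (mem_subgroupOf.1 hr))
      R_normal := fun c hc => hdown hR c (B.R_normal (mem_centralizer_singleton_iff.2
        (congrArg Subtype.val (mem_centralizer_singleton_iff.1 hc))))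
      v_mem_R := fun x => by rw [mem_subgroupOf]; exact B.v_mem_R x
      β := ⟨B.β, hβM⟩
      β_mem := mem_subgroupOf.2 B.β_mem
      β_cube := Subtype.ext B.β_cube
      σ := ⟨B.σ, hσM⟩
      σ_sq := Subtype.ext B.σ_sq
      σ_β := Subtype.ext B.σ_β
      conj_β := fun x => Subtype.ext (B.conj_β x)
      conj_σ := fun x => Subtype.ext (B.conj_σ x)
      q := ⟨B.q, hqM⟩
      q_sq := Subtype.ext B.q_sq
      q_a := Subtype.ext B.q_a
      q_gV := Subtype.ext B.q_gV
      q_β := Subtype.ext B.q_β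
      q_e := Subtype.ext B.q_e
      sl := B.sl.codRestrict M hsl
      sl_inj := fun x y e => B.sl_inj (congrArg Subtype.val e)
      sl_cent := fun t => ⟨Subtype.ext (B.sl_cent t).1, Subtype.ext (B.sl_cent t).2⟩
      sl_neg := Subtype.ext B.sl_neg
      sl_z' := by obtain ⟨t, ht⟩ := B.sl_z'; exact ⟨t, Subtype.ext ht⟩
      sl_q := by obtain ⟨t, ht⟩ := B.sl_q; exact ⟨t, Subtype.ext ht⟩
      card_cent_z := by
        have e : centralizer ({⟨B.v zV, hvM zV⟩} : Set M) =
            (centralizer ({B.v zV} : Set G)).subgroupOf M := by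
          ext c
          rw [mem_subgroupOf, mem_centralizer_singleton_iff, mem_centralizer_singleton_iff]
          exact ⟨fun h => congrArg Subtype.val h, fun h => Subtype.ext h⟩
        rw [e, Nat.card_congr (subgroupOfEquivOfLe hC).toEquiv, B.card_cent_z]
      card_cent_z_σ := by
        have e : centralizer ({⟨B.v zV, hvM zV⟩} : Set M) ⊓ centralizer ({⟨B.σ, hσM⟩} : Set M) =
            (centralizer ({B.v zV} : Set G) ⊓ centralizer ({B.σ} : Set G)).subgroupOf M := by
          ext c
          simp only [mem_subgroupOf, mem_inf, mem_centralizer_singleton_iff]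
          exact ⟨fun h => ⟨congrArg Subtype.val h.1, congrArg Subtype.val h.2⟩,
            fun h => ⟨Subtype.ext h.1, Subtype.ext h.2⟩⟩
        rw [e, Nat.card_congr (subgroupOfEquivOfLe (inf_le_left.trans hC)).toEquiv, B.card_cent_z_σ]
      cent_z_gen := fun c h => by
        have h' := B.cent_z_gen (c : G) (congrArg Subtype.val h)
        refine (mem_map_iff_mem M.subtype_injective).1 ?_
        rw [MonoidHom.map_closure]
        simpa [Set.image_insert_eq] using h'
      cent_J := by
        ext g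
        constructor
        · intro hg
          rw [mem_subgroupOf, ← B.cent_J]
          refine mem_centralizer_iff.2 fun j hj => ?_
          exact congrArg Subtype.val (mem_centralizer_iff.1 hg ⟨j, hJ hj⟩ (mem_subgroupOf.2 hj))
        · intro hg
          refine mem_centralizer_iff.2 fun j hj => Subtype.ext ?_
          have h := mem_subgroupOf.1 hg
          rw [← B.cent_J] at h
          exact mem_centralizer_iff.1 h _ (mem_subgroupOf.1 hj)
      sylow := fun h => B.sylow (h.trans (card_subgroup_dvd_card M))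
      monomial := fun n hn => by
        obtain ⟨k, hk⟩ := B.monomial _ (hup n hn)
        exact ⟨k, fun x => Subtype.ext (hk x)⟩
      fusion := by
        intro x y hxy
        obtain ⟨g, hg⟩ := isConj_iff.1 hxy
        have hg' : (g : G) * B.v x * (g : G)⁻¹ = B.v y := congrArg Subtype.val hg
        obtain ⟨n, hn, hny⟩ := B.fusion x y (isConj_iff.2 ⟨_, hg'⟩)
        by_cases hnM : n ∈ M
        · exact ⟨⟨n, hnM⟩, hdown hJ _ hn, Subtype.ext hny⟩
        have hfix : ∀ (s : G) (f : V3 → V3), s ∉ M → (∀ z, s * B.v z * s⁻¹ = B.v (f z)) → f x = x →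
            ∃ m ∈ normalizer ((B.J.subgroupOf M : Subgroup M) : Set M),
              m * ⟨B.v x, hvM x⟩ * m⁻¹ = ⟨B.v y, hvM y⟩ := by
          intro s f hs hf hfx
          refine ⟨⟨n * s, hswap n s hnM hs⟩, hdown hJ _ (mul_mem hn (hsN s f hf)), Subtype.ext ?_⟩
          show n * s * B.v x * (n * s)⁻¹ = B.v y
          rw [show n * s * B.v x * (n * s)⁻¹ = n * (s * B.v x * s⁻¹) * n⁻¹ by group, hf, hfx, hny]
        rcases sign_cases x with h | h | h | h
        · refine absurd ?_ hnM
          have hc' : n⁻¹ * g ∈ M := hfull x h.1 h.2.1 h.2.2 _ (by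
            calc n⁻¹ * g * B.v x = n⁻¹ * ((g : G) * B.v x * (g : G)⁻¹) * g := by group
              _ = n⁻¹ * (n * B.v x * n⁻¹) * g := by rw [hg', hny]
              _ = _ := by group)
          exact inv_mem_iff.1 ((mul_mem_cancel_right g.2).1 hc')
        · exact hfix E.ε _ hεM E.conj_ε h
        · exact hfix E.ε2 _ hε2M (conj_ε2 E) h
        · exact hfix E.ε3 _ hε3M (conj_ε3 E) h
      three := by
        intro g hg
        obtain ⟨x, hx⟩ := B.three (g : G) (by rwa [Subgroup.orderOf_coe])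
        obtain ⟨h, hh⟩ := isConj_iff.1 hx
        by_cases hM : h ∈ M
        · exact ⟨x, isConj_iff.2 ⟨⟨h, hM⟩, Subtype.ext hh⟩⟩
        · refine ⟨(-x.1, x.2.1, x.2.2), isConj_iff.2 ⟨⟨h * E.ε, hswap h _ hM hεM⟩, Subtype.ext ?_⟩⟩
          show h * E.ε * B.v (-x.1, x.2.1, x.2.2) * (h * E.ε)⁻¹ = g
          rw [show h * E.ε * B.v (-x.1, x.2.1, x.2.2) * (h * E.ε)⁻¹ =
            h * (E.ε * B.v (-x.1, x.2.1, x.2.2) * E.ε⁻¹) * h⁻¹ by group, E.conj_ε, neg_neg]
          exact hh
      sig := by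
        intro K hK hN
        have h := B.sig (K.map M.subtype)
          (by rwa [card_map_of_injective M.subtype_injective]) (fun j hj => by
            refine mem_normalizer_iff.2 fun a => ?_
            have hn := mem_normalizer_iff.1 (hN (mem_subgroupOf.2 hj : (⟨j, hJ hj⟩ : M) ∈ B.J.subgroupOf M))
            constructor
            · rintro ⟨k, hk, rfl⟩
              exact ⟨_, (hn k).1 hk, rfl⟩
            · rintro ⟨k, hk, e⟩
              refine ⟨⟨j, hJ hj⟩⁻¹ * k * ⟨j, hJ hj⟩, (hn _).2 (by simpa [mul_assoc] using hk), ?_⟩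
              have e' : (k : G) = j * a * j⁻¹ := e
              show j⁻¹ * (k : G) * j = a
              rw [e']; group)
        exact (map_eq_bot_iff_of_injective _ M.subtype_injective).1 h }
  have h4 : Four B' := by
    refine ⟨⟨⟨ε' E, hε'M⟩, Subtype.ext (ε'_sq E), fun x => Subtype.ext (conj_ε' E x),
      Subtype.ext (ε'_σ E).eq⟩, fun n hn h => hδM ?_⟩
    have h' : (n : G) * B.v zV * (n : G)⁻¹ = B.v (-zV) := congrArg Subtype.val h
    have hδn : E.δ * n ∈ M := hC (mem_centralizer_singleton_iff.2 (mul_inv_eq_iff_eq_mul.1 (by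
      rw [show E.δ * n * B.v zV * (E.δ * n)⁻¹ = E.δ * ((n : G) * B.v zV * (n : G)⁻¹) * E.δ⁻¹ by group, h',
        conj_δ, neg_neg])))
    exact (mul_mem_cancel_right n.2).1 hδn
  obtain ⟨e⟩ := four B' h4 F hF
  haveI : IsSimpleGroup (Cfsg.PSp 2 F) := CfsgLib.Classical.isSimpleGroup_psp (by simp)
    (CfsgLib.Classical.sp_commutator_eq_top' (Or.inr (Or.inl ⟨by simp, by
      rw [Nat.card_eq_fintype_card, hF]⟩)))
  have hcen : Subgroup.center (Cfsg.PSp 2 F) = ⊥ :=
    CfsgLib.KnownB.PSpAut.center_eq_bot le_rfl inferInstance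
  let φ : G →* MulAut (Cfsg.PSp 2 F) :=
    (MulAut.congr e).toMonoidHom.comp (MulAut.conjNormal : G →* MulAut M)
  have hφ : Function.Injective φ := by
    refine (MulAut.congr e).injective.comp ((injective_iff_map_eq_one _).2 fun g hg => ?_)
    have hcomm : ∀ m ∈ M, g * m = m * g := fun m hm => mul_inv_eq_iff_eq_mul.1 (by
      have := congrArg (fun a : MulAut M => ((a ⟨m, hm⟩ : M) : G)) hg
      simpa [MulAut.conjNormal_apply] using this)
    have hgJ : g ∈ B.J := by
      rw [← B.cent_J]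
      exact mem_centralizer_iff.2 fun j hj => (hcomm j (hJ hj)).symm
    have hz : e ⟨g, hJ hgJ⟩ ∈ Subgroup.center (Cfsg.PSp 2 F) := by
      refine mem_center_iff.2 fun p => ?_
      obtain ⟨m, rfl⟩ := e.surjective p
      rw [← map_mul, ← map_mul]
      exact congrArg e (Subtype.ext (hcomm m m.2).symm)
    rw [hcen, mem_bot, ← map_one e] at hz
    exact congrArg Subtype.val (e.injective hz)
  haveI : Finite (Cfsg.PSp 2 F) := Finite.of_equiv M e.toEquiv
  haveI : Finite (MulAut (Cfsg.PSp 2 F)) :=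
    Finite.of_injective (fun a : MulAut (Cfsg.PSp 2 F) => a.toEquiv) MulEquiv.toEquiv_injective
  have hker : Function.Injective (MulAut.conj : Cfsg.PSp 2 F →* MulAut (Cfsg.PSp 2 F)) := by
    refine (injective_iff_map_eq_one _).2 fun p hp => ?_
    rw [← mem_bot, ← hcen, mem_center_iff]
    intro t
    have := congrArg (fun a : MulAut (Cfsg.PSp 2 F) => a t) hp
    exact (mul_inv_eq_iff_eq_mul.1 (by simpa using this)).symm
  have hcard : Nat.card (MulAut (Cfsg.PSp 2 F)) ≤ Nat.card G := by
    rw [← M.card_mul_index, hM2, ← (MulAut.conj : Cfsg.PSp 2 F →* MulAut (Cfsg.PSp 2 F)).range.card_mul_index,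
      CfsgLib.U62Cent.index_inn_psp_four_three hF,
      ← Nat.card_congr (MonoidHom.ofInjective hker).toEquiv, Nat.card_congr e.toEquiv]
  exact ⟨MulEquiv.ofBijective φ (Function.Injective.bijective_of_nat_card_le hφ hcard)⟩

end CfsgLib.SpSixThree.AutX
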