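import Cfsg.Agent.Lib.SpSixThree.AutBase
import Cfsg.Agent.Lib.Coprime.Action2
import Cfsg.Agent.Lib.Transfer.Fusion

/-!
# Statement S3342, all signs: the two quaternion groups commute
-/

set_option autoImplicit false
set_option maxRecDepth 100000
set_option linter.unusedSectionVars false
set_option linter.style.haveILetI false

namespace CfsgLib.SpSixThree.AutX

open Subgroup
open CfsgLib.PSpAmalgam (V3 zV zV' eV fV gV actR actS SL3)

theorem zV_ne : zV ≠ (0 : V3) := by decide +kernel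

theorem plane_add' : ∀ y z : V3, actS y = y → actS z = z → actS (y + z) = y + z := by decide +kernel

theorem plane_neg' : ∀ y : V3, actS y = y → actS (-y) = -y := by decide +kernel

theorem comb_inj : ∀ p q : Fin 2 × Fin 2,
    p.1.val • zV + p.2.val • zV' = q.1.val • zV + q.2.val • zV' → p = q := by decide +kernel

theorem comb_plane : ∀ p : Fin 2 × Fin 2, actS (p.1.val • zV + p.2.val • zV') = p.1.val • zV + p.2.val • zV' := by
  decide +kernel

universe u

variable {G : Type u} [Group G]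

/-- a `p`-subgroup in which `T` is self-normalising is `T` -/
theorem sylow_eq [Finite G] {p : ℕ} [Fact p.Prime] {T P : Subgroup G} (hP : IsPGroup p P) (hTP : T ≤ P)
    (h : ∀ n ∈ P, (∀ t ∈ T, n * t * n⁻¹ ∈ T) → n ∈ T) : P = T := by
  refine le_antisymm ?_ hTP
  by_contra hne
  haveI : Group.IsNilpotent P := hP.isNilpotent
  have hn := Group.normalizerCondition_of_isNilpotent (T.subgroupOf P)
    (lt_top_iff_ne_top.2 fun e => hne fun x hx => by
      have : (⟨x, hx⟩ : P) ∈ T.subgroupOf P := e ▸ Subgroup.mem_top _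
      exact this)
  obtain ⟨x, hxn, hxT⟩ := SetLike.exists_of_lt hn
  exact hxT (h _ x.2 fun t ht => (Subgroup.mem_normalizer_iff.1 hxn ⟨t, hTP ht⟩).1 ht)

/-- the criterion for a Sylow subgroup of a subgroup -/
theorem not_dvd_relIndex [Finite G] {p : ℕ} [Fact p.Prime] {T X : Subgroup G} (hT : IsPGroup p T)
    (hTX : T ≤ X) (h : ∀ P : Subgroup G, IsPGroup p P → T ≤ P → P ≤ X →
      ∀ n ∈ P, (∀ t ∈ T, n * t * n⁻¹ ∈ T) → n ∈ T) : ¬ p ∣ T.relIndex X := by
  obtain ⟨P, hP⟩ := (hT.comap_subtype (K := X)).exists_le_sylow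
  let P' : Subgroup G := (P : Subgroup X).map X.subtype
  have hTP : T ≤ P' := fun t ht => ⟨⟨t, hTX ht⟩, hP ht, rfl⟩
  have hPX : P' ≤ X := by
    rintro _ ⟨a, -, rfl⟩
    exact a.2
  have e := sylow_eq (P.2.map X.subtype) hTP (h P' (P.2.map _) hTP hPX)
  have e' : T.subgroupOf X = P := by
    refine le_antisymm hP fun a ha => ?_
    have ha' : (a : G) ∈ (P : Subgroup X).map X.subtype := ⟨a, ha, rfl⟩
    rwa [e] at ha'
  rw [relIndex, e']
  exact P.not_dvd_index

variable (B : Base G)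

/-- the centraliser of the quaternion group -/
def CQ : Subgroup G := centralizer ((QQ B : Subgroup G) : Set G)

theorem mem_CQ {c : G} : c ∈ CQ B ↔ ∀ x : SL3, x ^ 4 = 1 → c * B.sl x = B.sl x * c := by
  constructor
  · intro h x hx
    exact (mem_centralizer_iff.1 h _ ((mem_QQ B).2 ⟨x, hx, rfl⟩)).symm
  · intro h
    refine mem_centralizer_iff.2 fun g hg => ?_
    obtain ⟨x, hx, rfl⟩ := (mem_QQ B).1 hg
    exact (h x hx).symm

theorem CQ_σ {c : G} (hc : c ∈ CQ B) : c * B.σ = B.σ * c := by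
  rw [← B.sl_neg]
  exact (mem_CQ B).1 hc _ CfsgLib.PSpAmalgam.SL3.neg_one_pow_four

theorem zV_mem_CQ : B.v zV ∈ CQ B := (mem_CQ B).2 fun x _ => (B.sl_cent x).1.symm

theorem σ_mem_CQ : B.σ ∈ CQ B := (mem_CQ B).2 fun x _ => (B.sl_cent x).2.symm

theorem uw_quat {x w : SL3} (U : UW B x w) : x ^ 4 = 1 ∧ (w * x * w⁻¹) ^ 4 = 1 := by
  have h := (q_pow x U.sq w U.cube U.ne 1).1
  have h' := (q_pow x U.sq w U.cube U.ne 2).1
  simp [qe] at h h'
  exact ⟨h, by simpa using h'⟩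

theorem zpowers_zV [Finite G] {g : G} (hg : g ∈ zpowers (B.v zV)) : ∃ i : Fin 3, g = B.v zV ^ i.val := by
  obtain ⟨n, rfl⟩ := (isOfFinOrder_of_finite (B.v zV)).mem_powers_iff_mem_zpowers.2 hg
  refine ⟨⟨n % 3, Nat.mod_lt _ (by norm_num)⟩, ?_⟩
  show B.v zV ^ n = B.v zV ^ (n % 3)
  rw [← pow_mod_orderOf, orderOf_v B zV_ne]

/-- what centralises `Q` and `a` -/
theorem cent_zCQ [Finite G] {c : G} (hc : c ∈ CQ B) (hz : c * B.v zV = B.v zV * c) :
    ∃ i : Fin 3, c = B.v zV ^ i.val ∨ c = B.σ * B.v zV ^ i.val := by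
  obtain ⟨x, w, U⟩ := exists_uw B
  obtain ⟨s, i, rfl⟩ := cent_zσ B hz (CQ_σ B hc)
  refine ⟨i, ?_⟩
  have hcomm : ∀ y : SL3, y ^ 4 = 1 → s * y = y * s := fun y hy => B.sl_inj (by
    rw [map_mul, map_mul]
    have h1 := (mem_CQ B).1 hc y hy
    have h2 : B.v zV ^ i.val * B.sl y = B.sl y * B.v zV ^ i.val :=
      ((show Commute (B.sl y) (B.v zV) from (B.sl_cent y).1).pow_right _).eq.symm
    rw [mul_assoc, h2, ← mul_assoc, ← mul_assoc] at h1
    exact mul_right_cancel h1)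
  rcases q_commutant x U.sq w U.cube U.ne s (hcomm _ (uw_quat B U).1) (hcomm _ (uw_quat B U).2) with h | h
  · left; rw [h, map_one, one_mul]
  · right; rw [h, B.sl_neg]

variable {B} (E : Eight B)

theorem δ_norm_QQ {g : G} (hg : g ∈ QQ B) : E.δ * g * E.δ⁻¹ ∈ QQ B := by
  obtain ⟨x, w, U⟩ := exists_uw B
  obtain ⟨t, ht, rfl⟩ := (mem_QQ B).1 hg
  obtain ⟨i, ⟨-, h⟩ | ⟨-, h⟩⟩ := δ_form E U ht <;> rw [h, mem_QQ]
  · exact ⟨_, (q_pow x U.sq w U.cube U.ne i).2.2.1, rfl⟩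
  · exact ⟨_, (q_pow x U.sq w U.cube U.ne i).2.2.2.1, rfl⟩

variable [Finite G]

include E in
/-- nothing centralising `Q` inverts `a` -/
theorem no_inv {c : G} (hc : c ∈ CQ B) : c * B.v zV * c⁻¹ ≠ (B.v zV)⁻¹ := by
  intro hinv
  obtain ⟨x, w, U⟩ := exists_uw B
  have hz : E.δ * c * B.v zV = B.v zV * (E.δ * c) := by
    have h : E.δ * c * B.v zV * (E.δ * c)⁻¹ = B.v zV := by
      calc E.δ * c * B.v zV * (E.δ * c)⁻¹ = E.δ * (c * B.v zV * c⁻¹) * E.δ⁻¹ := by group
        _ = _ := by rw [hinv, ← v_neg B, conj_δ, neg_neg]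
    exact mul_inv_eq_iff_eq_mul.1 h
  have hσ : E.δ * c * B.σ = B.σ * (E.δ * c) := by
    rw [mul_assoc, CQ_σ B hc, ← mul_assoc, (δ_σ E).eq, mul_assoc]
  obtain ⟨s, i, hs⟩ := cent_zσ B hz hσ
  have key : ∀ y : SL3, y ^ 4 = 1 → E.δ * B.sl y * E.δ⁻¹ = B.sl (s * y * s⁻¹) := by
    intro y hy
    have h1 := (mem_CQ B).1 hc y hy
    have h2 : B.v zV ^ i.val * B.sl y = B.sl y * B.v zV ^ i.val :=
      ((show Commute (B.sl y) (B.v zV) from (B.sl_cent y).1).pow_right _).eq.symm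
    calc E.δ * B.sl y * E.δ⁻¹ = E.δ * (B.sl y * c) * c⁻¹ * E.δ⁻¹ := by group
      _ = (E.δ * c) * B.sl y * (E.δ * c)⁻¹ := by rw [← h1]; group
      _ = B.sl s * (B.v zV ^ i.val * B.sl y) * (B.v zV ^ i.val)⁻¹ * (B.sl s)⁻¹ := by rw [hs]; group
      _ = _ := by rw [h2, map_mul, map_mul, map_inv]; group
  have h0 := key x (uw_quat B U).1
  have h1 := key _ (uw_quat B U).2
  have d0 := δ_quat E U 0
  have d1 := δ_quat E U 1
  simp only [pow_zero, one_mul, inv_one, mul_one, pow_one] at d0 d1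
  exact q_outer x U.sq w U.cube U.ne s (B.sl_inj (h0.symm.trans d0)) (B.sl_inj (h1.symm.trans d1))

include E in
/-- the elements of `C(Q)` normalising `J` centralise `a` -/
theorem cq_norm {c : G} (hc : c ∈ CQ B) (hn : c ∈ normalizer (B.J : Set G)) :
    c * B.v zV = B.v zV * c := by
  obtain ⟨x, w, U⟩ := exists_uw B
  obtain ⟨-, k, -, hact⟩ := norm_act E hn
  have hy : B.v (act8 k zV) ∈ CQ B :=
    hact zV ▸ mul_mem (mul_mem hc (zV_mem_CQ B)) (inv_mem hc)
  obtain ⟨i, j, hij, hv⟩ := plane_form B U ((v_plane B).1 (CQ_σ B hy))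
  obtain rfl : j = 0 := by
    refine q_line x U.sq w U.cube U.ne j (B.sl_inj ?_)
    have h1 := (mem_CQ B).1 hy x (uw_quat B U).1
    have h2 : B.v zV ^ i.val * B.sl x = B.sl x * B.v zV ^ i.val :=
      ((show Commute (B.sl x) (B.v zV) from (B.sl_cent x).1).pow_right _).eq.symm
    rw [hv, mul_assoc, h2, ← mul_assoc, ← mul_assoc] at h1
    rw [map_mul, map_mul]
    exact mul_right_cancel h1
  have e : c * B.v zV * c⁻¹ = B.v zV ^ i.val := by
    rw [hact, hij, Fin.val_zero, zero_smul, add_zero, v_nsmul B]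
  refine mul_inv_eq_iff_eq_mul.1 ?_
  fin_cases i
  · exfalso
    simp at e
    exact absurd ((v_eq_one B).1 e) (by decide +kernel)
  · simpa using e
  · exfalso
    refine no_inv E hc ?_
    rw [e]
    exact eq_inv_of_mul_eq_one_left (by rw [← pow_succ]; exact v_cube B _)

theorem δσ_pow {n : ℕ} (i : Fin 3) : (B.σ * B.v zV ^ i.val) ^ (3 ^ n) ≠ 1 := by
  intro h
  have hc : Commute B.σ (B.v zV ^ i.val) :=
    ((v_plane B).2 (by decide +kernel : actS zV = zV) |> fun e => (Commute.symm (show Commute (B.v zV) B.σ from e))).pow_right _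
  rw [hc.mul_pow] at h
  have h2 : B.σ ^ (3 ^ n) = B.σ := by
    obtain ⟨m, hm⟩ := Odd.pow (show Odd 3 by decide) (n := n)
    rw [hm, pow_succ, pow_mul, pow_two, B.σ_sq, one_pow, one_mul]
  rw [h2] at h
  refine σ_ne_one B ?_
  have h3 : ((B.v zV ^ i.val) ^ (3 ^ n)) ^ 3 = 1 := by
    rw [← pow_mul, ← pow_mul, show i.val * (3 ^ n * 3) = 3 * (i.val * 3 ^ n) by ring, pow_mul, v_cube B,
      one_pow]
  calc B.σ = (B.σ * B.σ) * B.σ * ((B.v zV ^ i.val) ^ (3 ^ n)) ^ 3 := by rw [h3, B.σ_sq, one_mul, mul_one]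
    _ = (B.σ * (B.v zV ^ i.val) ^ (3 ^ n)) ^ 3 := by
      rw [(hc.pow_right _).mul_pow, pow_succ B.σ, pow_two]
    _ = 1 := by rw [h, one_pow]

include E in
/-- the normal `3`-complement of `C(Q)` -/
theorem exists_K : ∃ K : Subgroup G, K ≤ CQ B ∧ (Nat.card K).Coprime 3 ∧
    (∀ c ∈ CQ B, ∃ k ∈ K, ∃ i : Fin 3, c = k * B.v zV ^ i.val) ∧
    (∀ c ∈ CQ B, (orderOf c).Coprime 3 → c ∈ K) ∧
    ∀ k ∈ K, (orderOf k).Coprime 3 := by
  classical
  haveI := Fact.mk Nat.prime_three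
  let a : CQ B := ⟨B.v zV, zV_mem_CQ B⟩
  have ha : orderOf a = 3 := by
    rw [Subgroup.orderOf_mk, orderOf_v B zV_ne]
  have hpg : IsPGroup 3 (zpowers a) := IsPGroup.of_card (n := 1) (by rw [Nat.card_zpowers, ha, pow_one])
  have hzp : ∀ g : CQ B, g ∈ zpowers a ↔ (g : G) ∈ zpowers (B.v zV) := by
    intro g
    constructor
    · rintro ⟨n, rfl⟩
      exact ⟨n, by simp [a]⟩
    · rintro ⟨n, hn⟩
      exact ⟨n, Subtype.ext (by simpa [a] using hn)⟩
  have hnorm : ∀ n : CQ B, n * a * n⁻¹ ∈ zpowers a → (n : G) * B.v zV = B.v zV * n := by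
    intro n hn
    obtain ⟨i, hi⟩ := zpowers_zV B ((hzp _).1 hn)
    have hi' : (n : G) * B.v zV * (n : G)⁻¹ = B.v zV ^ i.val := hi
    refine mul_inv_eq_iff_eq_mul.1 ?_
    fin_cases i
    · exfalso
      simp at hi'
      exact absurd ((v_eq_one B).1 hi') (by decide +kernel)
    · simpa using hi'
    · exfalso
      refine no_inv E n.2 ?_
      rw [hi']
      exact eq_inv_of_mul_eq_one_left (by rw [← pow_succ]; exact v_cube B _)
  let P : Sylow 3 (CQ B) :=
    { toSubgroup := zpowers a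
      isPGroup' := hpg
      is_maximal' := fun {Q} hQ hle => sylow_eq hQ hle fun n hn hnn => by
        obtain ⟨i, h | h⟩ := cent_zCQ B n.2 (hnorm n (hnn a (mem_zpowers a)))
        · exact (hzp n).2 ⟨(i.val : ℤ), by simp [h]⟩
        · exfalso
          obtain ⟨k, hk⟩ := hQ ⟨n, hn⟩
          have hk' : (n : G) ^ 3 ^ k = 1 := congrArg (fun t : Q => ((t : CQ B) : G)) hk
          rw [h] at hk'
          exact δσ_pow i hk' }
  have hP : normalizer ((P : Subgroup (CQ B)) : Set (CQ B)) ≤ centralizer ((P : Subgroup (CQ B)) : Set (CQ B)) := by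
    intro n hn
    refine mem_centralizer_iff.2 fun g hg => ?_
    obtain ⟨m, rfl⟩ := hg
    have : Commute (n : CQ B) a :=
      Subtype.ext (hnorm n ((mem_normalizer_iff.1 hn a).1 (mem_zpowers a)))
    exact ((this.zpow_right m).eq).symm
  have hcomp := MonoidHom.ker_transferSylow_isComplement' P hP
  set φ := MonoidHom.transferSylow P hP
  have hcardP : Nat.card (P : Subgroup (CQ B)) = 3 := (Nat.card_zpowers a).trans ha
  have hK3 : (Nat.card φ.ker).Coprime 3 := by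
    refine (Nat.prime_three.coprime_iff_not_dvd.2 fun h3 => P.not_dvd_index ?_).symm
    have h1 := hcomp.card_mul
    have h2 := (P : Subgroup (CQ B)).card_mul_index
    rw [hcardP] at h1 h2
    rw [← h1] at h2
    have : (P : Subgroup (CQ B)).index = Nat.card φ.ker := by omega
    rwa [this]
  refine ⟨φ.ker.map (CQ B).subtype, ?_, ?_, ?_, ?_, ?_⟩
  · rintro _ ⟨k, -, rfl⟩; exact k.2
  · rwa [card_map_of_injective (CQ B).subtype_injective]
  · intro c hc
    obtain ⟨⟨k, p⟩, hkp⟩ := hcomp.2 ⟨c, hc⟩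
    obtain ⟨i, hi⟩ := zpowers_zV B ((hzp _).1 p.2)
    refine ⟨_, ⟨k, k.2, rfl⟩, i, ?_⟩
    rw [← hi]
    exact (congrArg Subtype.val hkp).symm
  · intro c hc ho
    refine ⟨⟨c, hc⟩, MonoidHom.mem_ker.2 (orderOf_eq_one_iff.1 ?_), rfl⟩
    have h1 : orderOf (φ ⟨c, hc⟩) ∣ orderOf c :=
      (orderOf_map_dvd φ _).trans (by rw [Subgroup.orderOf_mk])
    have h2 : orderOf (φ ⟨c, hc⟩) ∣ 3 := (_root_.orderOf_dvd_natCard _).trans hcardP.dvd
    exact Nat.eq_one_of_dvd_coprimes ho h1 h2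
  · rintro _ ⟨k, hk, rfl⟩
    refine Nat.Coprime.coprime_dvd_left ?_ hK3
    have := orderOf_dvd_natCard (⟨k, hk⟩ : φ.ker)
    rwa [Subgroup.orderOf_mk, ← Subgroup.orderOf_coe] at this

theorem plane_conj_CQ {y : V3} (hy : actS y = y) {c : G} (hc : c ∈ CQ B) :
    B.v y * c * (B.v y)⁻¹ ∈ CQ B := by
  obtain ⟨x, w, U⟩ := exists_uw B
  obtain ⟨i, j, -, hv⟩ := plane_form B U hy
  refine (mem_CQ B).2 fun t ht => ?_
  have h2 : ∀ s : SL3, B.v zV ^ i.val * B.sl s = B.sl s * B.v zV ^ i.val := fun s =>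
    ((show Commute (B.sl s) (B.v zV) from (B.sl_cent s).1).pow_right _).eq.symm
  have hp : ((w ^ j.val)⁻¹ * t * w ^ j.val) ^ 4 = 1 := by
    have h := conj_pow (a := (w ^ j.val)⁻¹) (b := t) (i := 4)
    rw [inv_inv] at h
    rw [h, ht, mul_one, inv_mul_cancel]
  have e : (B.v y)⁻¹ * B.sl t * B.v y = B.sl ((w ^ j.val)⁻¹ * t * w ^ j.val) := by
    rw [hv, map_mul, map_mul, map_inv]
    calc (B.sl (w ^ j.val) * B.v zV ^ i.val)⁻¹ * B.sl t * (B.sl (w ^ j.val) * B.v zV ^ i.val)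
        = (B.v zV ^ i.val)⁻¹ * ((B.sl (w ^ j.val))⁻¹ * B.sl t * B.sl (w ^ j.val)) * B.v zV ^ i.val := by
          group
      _ = _ := by
        rw [← map_inv, ← map_mul, ← map_mul, mul_assoc _ (B.sl _), ← h2, ← mul_assoc, inv_mul_cancel,
          one_mul]
  have h1 := (mem_CQ B).1 hc _ hp
  rw [← e] at h1
  calc B.v y * c * (B.v y)⁻¹ * B.sl t = B.v y * (c * ((B.v y)⁻¹ * B.sl t * B.v y)) * (B.v y)⁻¹ := by group
    _ = B.v y * (((B.v y)⁻¹ * B.sl t * B.v y) * c) * (B.v y)⁻¹ := by rw [h1]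
    _ = _ := by group

variable (hL : Loc8 B) (hCE : centralizer ({B.v eV} : Set G) ≤ normalizer (B.J : Set G))
  {K : Subgroup G} (hK : K ≤ CQ B) (hK3 : (Nat.card K).Coprime 3)
  (hKc : ∀ c ∈ CQ B, (orderOf c).Coprime 3 → c ∈ K) (hKo : ∀ k ∈ K, (orderOf k).Coprime 3)

include hK hKc hKo in
theorem plane_conj_K {y : V3} (hy : actS y = y) {k : G} (hk : k ∈ K) :
    B.v y * k * (B.v y)⁻¹ ∈ K := by
  refine hKc _ (plane_conj_CQ hy (hK hk)) ?_
  rw [show B.v y * k * (B.v y)⁻¹ = MulAut.conj (B.v y) k from rfl, MulEquiv.orderOf_eq]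
  exact hKo k hk

include E hL hCE hK hK3 hKc hKo in
/-- the complement lies in the conjugate quaternion group -/
theorem K_le : ∀ k ∈ K, E.ε * k * E.ε⁻¹ ∈ QQ B := by
  classical
  let A : Subgroup G :=
    { carrier := {g | ∃ y, actS y = y ∧ B.v y = g}
      one_mem' := ⟨0, rfl, v_zero B⟩
      mul_mem' := by
        rintro _ _ ⟨y, hy, rfl⟩ ⟨z, hz, rfl⟩
        exact ⟨y + z, plane_add' y z hy hz, B.v_add y z⟩
      inv_mem' := by
        rintro _ ⟨y, hy, rfl⟩
        exact ⟨-y, plane_neg' y hy, v_neg B y⟩ }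
  haveI : IsMulCommutative A := ⟨⟨fun a b => by
    obtain ⟨y, -, ey⟩ := a.2
    obtain ⟨z, -, ez⟩ := b.2
    exact Subtype.ext (by rw [Subgroup.coe_mul, Subgroup.coe_mul, ← ey, ← ez, v_comm B])⟩⟩
  have hAJ : A ≤ B.J := by
    rintro _ ⟨y, -, rfl⟩
    exact v_mem B y
  have hcyc : ¬ IsCyclic A := by
    intro hc
    obtain ⟨g, hg⟩ := IsCyclic.exists_generator (α := A)
    have h1 : orderOf g ∣ 3 := orderOf_dvd_of_pow_eq_one (Subtype.ext (by
      obtain ⟨y, -, ey⟩ := g.2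
      rw [Subgroup.coe_pow, ← ey]; exact v_cube B y))
    rw [orderOf_eq_card_of_forall_mem_zpowers hg] at h1
    have h2 := Nat.le_of_dvd (by norm_num) h1
    let f : Fin 2 × Fin 2 → A := fun p => ⟨B.v (p.1.val • zV + p.2.val • zV'), _, comb_plane p, rfl⟩
    have h4 := Nat.card_le_card_of_injective f fun p q e => comb_inj p q (B.v_inj (congrArg Subtype.val e))
    rw [Nat.card_prod, Nat.card_fin] at h4
    omega
  let R : Subgroup G := (QQ B).comap (MulAut.conj E.ε).toMonoidHom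
  suffices hKR : K ≤ R from fun k hk => hKR hk
  refine CfsgLib.Coprime.le_of_centralizer_le_of_not_isCyclic hcyc ?_ ?_ ?_
  · rintro a ⟨y, hy, rfl⟩
    rw [Subgroup.mem_normalizer_iff]
    intro k
    refine ⟨plane_conj_K hK hKc hKo hy, fun h => ?_⟩
    have hy' : actS (-y) = -y := plane_neg' y hy
    have h' := plane_conj_K hK hKc hKo hy' h
    rw [v_neg B] at h'
    simpa [mul_assoc] using h'
  · have h27 : Nat.Coprime 27 (Nat.card K) := (Nat.Coprime.pow_left 3 hK3.symm)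
    exact Nat.Coprime.coprime_dvd_left (card_J B ▸ card_dvd_of_le hAJ) h27
  rintro a ⟨y, hy, rfl⟩ hne c ⟨hcK, hcy⟩
  show E.ε * c * E.ε⁻¹ ∈ QQ B
  have hcy' : c * B.v y = B.v y * c := mem_centralizer_singleton_iff.1 hcy
  have central : c * B.v zV = B.v zV * c → E.ε * c * E.ε⁻¹ ∈ QQ B := by
    intro hz
    obtain ⟨i, h | h⟩ := cent_zCQ B (hK hcK) hz
    · obtain ⟨-, h'⟩ := coprime_form B (x := 1) (i := i) (hKo c hcK) (by
        rw [map_one, one_mul, ← h, pow_orderOf_eq_one])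
      rw [map_one, one_mul] at h'
      rw [h, h', mul_one, mul_inv_cancel]
      exact one_mem _
    · obtain ⟨-, h'⟩ := coprime_form B (x := -1) (i := i) (hKo c hcK) (by
        rw [B.sl_neg, ← h, pow_orderOf_eq_one])
      rw [B.sl_neg] at h'
      rw [h, h', show E.ε * B.σ = B.σ * E.ε from E.ε_σ, mul_inv_cancel_right, mem_QQ]
      exact ⟨-1, CfsgLib.PSpAmalgam.SL3.neg_one_pow_four, B.sl_neg⟩
  have hcases := plane_split y hy fun e => hne ((v_eq_one B).2 e)
  rcases hcases with h | h | h | h | h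
  · exact central (h ▸ hcy')
  · subst h
    rw [v_neg B] at hcy'
    refine central ?_
    simpa using (Commute.inv_right (show Commute c (B.v zV)⁻¹ from hcy')).eq
  · have hz : c * B.v zV' = B.v zV' * c := h ▸ hcy'
    exact twisted hK hKo hcK hz
  · subst h
    rw [v_neg B] at hcy'
    refine twisted hK hKo hcK ?_
    simpa using (Commute.inv_right (show Commute c (B.v zV')⁻¹ from hcy')).eq
  · exact central (cq_norm E (hK hcK) (small_cent E hL hCE (fun e => hne ((v_eq_one B).2 e)) h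
      (mem_centralizer_singleton_iff.2 hcy')))
where
  twisted (hK : K ≤ CQ B) (hKo : ∀ k ∈ K, (orderOf k).Coprime 3) {c : G} (hcK : c ∈ K)
      (hz : c * B.v zV' = B.v zV' * c) : E.ε * c * E.ε⁻¹ ∈ QQ B := by
    have hz' : E.ε * c * E.ε⁻¹ * B.v zV = B.v zV * (E.ε * c * E.ε⁻¹) := by
      have e : B.v zV = (E.ε * B.v zV' * E.ε⁻¹)⁻¹ := by
        rw [E.conj_ε, ← v_neg B]; exact congrArg B.v (by decide +kernel)
      rw [e]
      refine (Commute.inv_right (show Commute (E.ε * c * E.ε⁻¹) (E.ε * B.v zV' * E.ε⁻¹) from ?_)).eq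
      exact (show Commute c (B.v zV') from hz).map (MulAut.conj E.ε)
    have hσ : E.ε * c * E.ε⁻¹ * B.σ = B.σ * (E.ε * c * E.ε⁻¹) := by
      have h1 : Commute E.ε B.σ := E.ε_σ
      exact ((h1.mul_left (show Commute c B.σ from CQ_σ B (hK hcK))).mul_left h1.inv_left).eq
    obtain ⟨s, i, hs⟩ := cent_zσ B hz' hσ
    have ho : (orderOf (E.ε * c * E.ε⁻¹)).Coprime 3 := by
      rw [show E.ε * c * E.ε⁻¹ = MulAut.conj E.ε c from rfl, MulEquiv.orderOf_eq]
      exact hKo c hcK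
    obtain ⟨h4, he⟩ := coprime_form B (x := s) (i := i) ho (by rw [← hs, pow_orderOf_eq_one])
    rw [hs, he]
    exact (mem_QQ B).2 ⟨s, h4, rfl⟩

/-- the subgroup `Q⟨δ⟩` -/
def T0 : Subgroup G where
  carrier := {g | g ∈ QQ B ∨ g * E.δ ∈ QQ B}
  one_mem' := Or.inl (one_mem _)
  mul_mem' := by
    rintro g h (hg | hg) (hh | hh)
    · exact Or.inl (mul_mem hg hh)
    · exact Or.inr (by rw [mul_assoc]; exact mul_mem hg hh)
    · refine Or.inr ?_
      rw [show g * h * E.δ = (g * E.δ) * (E.δ⁻¹ * h * E.δ) by group, δ_inv E]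
      refine mul_mem hg ?_
      have := δ_norm_QQ E hh
      rwa [δ_inv E] at this
    · refine Or.inl ?_
      rw [show g * h = (g * E.δ) * (E.δ⁻¹ * (h * E.δ) * E.δ⁻¹) by group]
      refine mul_mem hg ?_
      have := δ_norm_QQ E hh
      rwa [δ_inv E] at this ⊢
  inv_mem' := by
    rintro g (hg | hg)
    · exact Or.inl (inv_mem hg)
    · refine Or.inr ?_
      have := δ_norm_QQ E (inv_mem hg)
      rw [δ_inv E] at this
      rw [show g⁻¹ * E.δ = E.δ * (g * E.δ)⁻¹ * E.δ by rw [mul_inv_rev, δ_inv E, ← mul_assoc, δ_sq, one_mul]]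
      exact this

theorem mem_T0 {g : G} : g ∈ T0 E ↔ g ∈ QQ B ∨ g * E.δ ∈ QQ B := Iff.rfl

theorem δ_mem_T0 : E.δ ∈ T0 E := Or.inr (by rw [δ_sq]; exact one_mem _)

/-- squares in the outer coset -/
theorem outer_sq {g : G} (hg : g * E.δ ∈ QQ B) :
    ∃ s : SL3, s ≠ -1 ∧ s ^ 4 = 1 ∧ g * g = B.sl s := by
  obtain ⟨x, w, U⟩ := exists_uw B
  obtain ⟨t, ht, et⟩ := (mem_QQ B).1 hg
  have eg : g = B.sl t * E.δ := by rw [et, mul_assoc, δ_sq, mul_one]
  obtain ⟨i, h⟩ := δ_form E U ht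
  obtain ⟨p1, p2, p3, p4, -, hne⟩ := q_pow x U.sq w U.cube U.ne i
  rcases h with ⟨e1, e2⟩ | ⟨e1, e2⟩
  · refine ⟨qe x w i * qd x w i, hne, CfsgLib.PSpAmalgam.SL3.quat_mul _ _ p1 p3, ?_⟩
    rw [map_mul, ← e2, eg, ← e1, δ_inv E]
    simp only [mul_assoc]
  · refine ⟨qe x w i * qd x w i, hne, CfsgLib.PSpAmalgam.SL3.quat_mul _ _ p1 p3, ?_⟩
    rw [← neg_mul_neg (qe x w i) (qd x w i), map_mul, ← e2, eg, ← e1, δ_inv E]
    simp only [mul_assoc]

theorem QQ_pow_four {g : G} (hg : g ∈ QQ B) : g ^ 4 = 1 := by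
  obtain ⟨t, ht, rfl⟩ := (mem_QQ B).1 hg
  rw [← map_pow, ht, map_one]

theorem isPGroup_T0 : IsPGroup 2 (T0 E) := by
  intro g
  refine ⟨3, Subtype.ext ?_⟩
  rw [Subgroup.coe_pow, Subgroup.coe_one]
  rcases g.2 with h | h
  · rw [show 2 ^ 3 = 4 * 2 by norm_num, pow_mul, QQ_pow_four h, one_pow]
  · obtain ⟨s, -, hs, e⟩ := outer_sq E h
    rw [show 2 ^ 3 = 2 * 4 by norm_num, pow_mul, pow_two, e, ← map_pow, hs, map_one]

include E hK in
/-- if `C(Q)` has no further part, `Q⟨δ⟩` is a Sylow subgroup of `C(σ)`, which is impossible -/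
theorem small_false (hdec : ∀ c ∈ CQ B, ∃ k ∈ K, ∃ i : Fin 3, c = k * B.v zV ^ i.val)
    (hsmall : ∀ k ∈ K, k = 1 ∨ k = B.σ) : False := by
  classical
  haveI := Fact.mk Nat.prime_two
  let X := centralizer ({B.σ} : Set G)
  have hTX : T0 E ≤ X := by
    intro g hg
    rw [mem_centralizer_singleton_iff]
    rcases hg with h | h
    · obtain ⟨t, -, rfl⟩ := (mem_QQ B).1 h
      exact (B.sl_cent t).2
    · obtain ⟨t, -, et⟩ := (mem_QQ B).1 h
      rw [show g = B.sl t * E.δ by rw [et, mul_assoc, δ_sq, mul_one]]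
      exact ((show Commute (B.sl t) B.σ from (B.sl_cent t).2).mul_left (δ_σ E)).eq
  have hsyl : ¬ 2 ∣ (T0 E).relIndex X := by
    refine not_dvd_relIndex (isPGroup_T0 E) hTX fun P hP hTP hPX n hnP hn => ?_
    have hnσ : n * B.σ = B.σ * n := mem_centralizer_singleton_iff.1 (hPX hnP)
    have hnQ : ∀ y ∈ QQ B, n * y * n⁻¹ ∈ QQ B := by
      intro y hy
      rcases hn y (Or.inl hy) with h | h
      · exact h
      obtain ⟨t, ht, rfl⟩ := (mem_QQ B).1 hy
      obtain ⟨s, hs, -, es⟩ := outer_sq E h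
      by_cases h2 : t * t = 1
      · rcases CfsgLib.PSpAmalgam.SL3.quat_cases t ht h2 with e | e
        · rw [e, map_one, mul_one, mul_inv_cancel]; exact one_mem _
        · rw [e, B.sl_neg, hnσ, mul_inv_cancel_right, ← B.sl_neg]
          exact (mem_QQ B).2 ⟨-1, CfsgLib.PSpAmalgam.SL3.neg_one_pow_four, rfl⟩
      · exfalso
        have h1 : t * t = -1 := (CfsgLib.PSpAmalgam.SL3.quat_cases (t * t)
          (by rw [← pow_two, ← pow_mul, mul_comm, pow_mul, ht, one_pow])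
          (by rw [← pow_two, ← pow_two, ← pow_mul]; exact ht)).resolve_left h2
        refine hs (B.sl_inj ?_)
        rw [← es, B.sl_neg]
        calc n * B.sl t * n⁻¹ * (n * B.sl t * n⁻¹) = n * B.sl (t * t) * n⁻¹ := by rw [map_mul]; group
          _ = B.σ := by rw [h1, B.sl_neg, hnσ, mul_inv_cancel_right]
    have hnCQ : n * B.v zV * n⁻¹ ∈ CQ B := by
      refine (mem_CQ B).2 fun y hy => ?_
      obtain ⟨k, hk⟩ : ∃ k : ℕ, n⁻¹ = n ^ k :=
        ⟨orderOf n - 1, inv_eq_of_mul_eq_one_right (by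
          rw [← pow_succ', Nat.sub_add_cancel (orderOf_pos n), pow_orderOf_eq_one])⟩
      have hback : n⁻¹ * B.sl y * n ∈ QQ B := by
        have : ∀ m : ℕ, ∀ g ∈ QQ B, n ^ m * g * (n ^ m)⁻¹ ∈ QQ B := by
          intro m
          induction m with
          | zero => intro g hg; simpa using hg
          | succ m ih =>
            intro g hg
            rw [pow_succ']
            simpa [mul_assoc] using hnQ _ (ih g hg)
        have := this k _ ((mem_QQ B).2 ⟨y, hy, rfl⟩)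
        rwa [← hk, inv_inv] at this
      obtain ⟨s, -, es⟩ := (mem_QQ B).1 hback
      calc n * B.v zV * n⁻¹ * B.sl y = n * (B.v zV * (n⁻¹ * B.sl y * n)) * n⁻¹ := by group
        _ = n * ((n⁻¹ * B.sl y * n) * B.v zV) * n⁻¹ := by rw [← es, (B.sl_cent s).1]
        _ = _ := by group
    obtain ⟨k, hk, i, hi⟩ := hdec _ hnCQ
    have h3 : (n * B.v zV * n⁻¹) ^ 3 = 1 := by rw [conj_pow, v_cube B, mul_one, mul_inv_cancel]
    have hk1 : k = 1 := by
      rcases hsmall k hk with e | e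
      · exact e
      · exfalso
        refine δσ_pow (B := B) (n := 1) i ?_
        rw [pow_one, ← e, ← hi, h3]
    rw [hk1, one_mul] at hi
    have fin : ∀ m ∈ P, m * B.v zV = B.v zV * m → m ∈ QQ B := by
      intro m hm hz
      obtain ⟨s, j, rfl⟩ := cent_zσ B hz (mem_centralizer_singleton_iff.1 (hPX hm))
      obtain ⟨l, hl⟩ := hP ⟨_, hm⟩
      have hl' : (B.sl s * B.v zV ^ j.val) ^ 2 ^ l = 1 := congrArg Subtype.val hl
      obtain ⟨h4, he⟩ := coprime_form B (Nat.Coprime.pow_left l (by norm_num)) hl'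
      rw [he]
      exact (mem_QQ B).2 ⟨s, h4, rfl⟩
    fin_cases i
    · exfalso
      simp at hi
      exact absurd ((v_eq_one B).1 hi) zV_ne
    · exact Or.inl (fin n hnP (mul_inv_eq_iff_eq_mul.1 (by simpa using hi)))
    · have h : E.δ * n ∈ QQ B := fin _ (mul_mem (hTP (δ_mem_T0 E)) hnP) (by
        refine mul_inv_eq_iff_eq_mul.1 ?_
        calc E.δ * n * B.v zV * (E.δ * n)⁻¹ = E.δ * (n * B.v zV * n⁻¹) * E.δ⁻¹ := by group
          _ = E.δ * (B.v zV)⁻¹ * E.δ⁻¹ := by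
            rw [hi]; congr 2
            exact eq_inv_of_mul_eq_one_left (by rw [← pow_succ]; exact v_cube B _)
          _ = _ := by rw [← v_neg B, conj_δ, neg_neg])
      rw [show n = E.δ * (E.δ * n) by rw [← mul_assoc, δ_sq, one_mul]]
      exact mul_mem (δ_mem_T0 E) (Or.inl h)
  -- the four-group of signs
  let V := closure ({E.ε, E.δ} : Set G)
  have hVc : ∀ g ∈ V, Commute g E.ε ∧ Commute g E.δ ∧ g * g = 1 ∧ g ∈ X := by
    intro g hg
    induction hg using closure_induction with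
    | mem g hg =>
      rcases hg with rfl | rfl
      · exact ⟨Commute.refl _, (δ_ε E).symm, E.ε_sq, mem_centralizer_singleton_iff.2 E.ε_σ⟩
      · exact ⟨δ_ε E, Commute.refl _, δ_sq E, mem_centralizer_singleton_iff.2 (δ_σ E).eq⟩
    | one => exact ⟨Commute.one_left _, Commute.one_left _, one_mul 1, one_mem _⟩
    | mul g h _ hh hgc hhc =>
      refine ⟨hgc.1.mul_left hhc.1, hgc.2.1.mul_left hhc.2.1, ?_, mul_mem hgc.2.2.2 hhc.2.2.2⟩
      have hgh : Commute g h := by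
        refine (mem_centralizer_iff.1 (show g ∈ centralizer (V : Set G) from ?_) h hh).symm
        rw [centralizer_closure]
        exact mem_centralizer_iff.2 fun y hy => by
          rcases hy with rfl | rfl
          · exact hgc.1.eq.symm
          · exact hgc.2.1.eq.symm
      calc g * h * (g * h) = g * (h * g) * h := by group
        _ = (g * g) * (h * h) := by rw [← hgh.eq]; group
        _ = 1 := by rw [hgc.2.2.1, hhc.2.2.1, one_mul]
    | inv g _ h =>
      exact ⟨h.1.inv_left, h.2.1.inv_left, by rw [← mul_inv_rev, h.2.2.1, inv_one], inv_mem h.2.2.2⟩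
  have hV : IsPGroup 2 V := fun g => ⟨1, Subtype.ext (by
    rw [pow_one, pow_two, Subgroup.coe_mul, Subgroup.coe_one]; exact (hVc g g.2).2.2.1)⟩
  obtain ⟨h, hhX, hh⟩ := CfsgLib.Transfer.exists_conj_le_of_isPGroup (isPGroup_T0 E) hTX hsyl hV
    fun g hg => (hVc g hg).2.2.2
  have hhσ : h * B.σ = B.σ * h := mem_centralizer_singleton_iff.1 hhX
  have outer : ∀ g ∈ V, g ≠ 1 → g ≠ B.σ → h⁻¹ * g * h * E.δ ∈ QQ B := by
    intro g hg h1 hσ'
    refine (hh g hg).resolve_left fun hq => ?_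
    obtain ⟨t, ht, et⟩ := (mem_QQ B).1 hq
    have e : g = h * B.sl t * h⁻¹ := by rw [et]; group
    have h2 : t * t = 1 := B.sl_inj (by
      rw [map_mul, map_one, et]
      calc h⁻¹ * g * h * (h⁻¹ * g * h) = h⁻¹ * (g * g) * h := by group
        _ = 1 := by rw [(hVc g hg).2.2.1]; group)
    rcases CfsgLib.PSpAmalgam.SL3.quat_cases t ht h2 with k | k
    · exact h1 (by rw [e, k, map_one, mul_one, mul_inv_cancel])
    · exact hσ' (by rw [e, k, B.sl_neg, hhσ, mul_inv_cancel_right])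
  have hne : ∀ (g : G) (f : V3 → V3) (p : V3), (∀ y, g * B.v y * g⁻¹ = B.v (f y)) → f p ≠ p →
      f p ≠ actS p → g ≠ 1 ∧ g ≠ B.σ := by
    intro g f p hf h1 h2
    constructor
    · rintro rfl
      exact h1 (B.v_inj (by rw [← hf]; group))
    · rintro rfl
      exact h2 (B.v_inj (by rw [← hf, B.conj_σ]))
  have hm1 : E.ε ∈ V := subset_closure (Or.inl rfl)
  have hm2 : E.δ ∈ V := subset_closure (Or.inr rfl)
  have h12 := hne E.ε _ (1, 1, 2) E.conj_ε (by decide +kernel) (by decide +kernel)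
  have h23 := hne E.δ _ (1, 1, 2) (conj_δ E) (by decide +kernel) (by decide +kernel)
  have h34 := hne (E.ε * E.δ) _ (0, 1, 1) (fun y => by
    rw [← ε'_eq]; exact conj_ε' E y) (by decide +kernel) (by decide +kernel)
  have a1 := outer _ hm1 h12.1 h12.2
  have a2 := outer _ hm2 h23.1 h23.2
  have a3 := outer _ (mul_mem hm1 hm2) h34.1 h34.2
  have hδQ : E.δ ∉ QQ B := fun hd => by
    obtain ⟨t, -, et⟩ := (mem_QQ B).1 hd
    have := conj_δ E zV
    rw [← et, (B.sl_cent t).1, mul_inv_cancel_right] at this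
    exact absurd (B.v_inj this) (by decide +kernel)
  refine hδQ ?_
  have hprod : h⁻¹ * (E.ε * E.δ) * h ∈ QQ B := by
    rw [show h⁻¹ * (E.ε * E.δ) * h = (h⁻¹ * E.ε * h * E.δ) * (E.δ⁻¹ * ((h⁻¹ * E.δ * h * E.δ)) * E.δ⁻¹) by group]
    refine mul_mem a1 ?_
    have := δ_norm_QQ E a2
    rwa [δ_inv E] at this ⊢
  rw [show E.δ = (h⁻¹ * (E.ε * E.δ) * h)⁻¹ * (h⁻¹ * (E.ε * E.δ) * h * E.δ) by group]
  exact mul_mem (inv_mem hprod) a3

/-- StmtAutW -/
theorem stmtAutW : StmtAutW.{u} := by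
  intro G _ _ B E hL hCE
  classical
  obtain ⟨K, hK, hK3, hdec, hKc, hKo⟩ := exists_K E
  obtain ⟨x, w, U⟩ := exists_uw B
  have hKR := K_le E hL hCE hK hK3 hKc hKo
  have hεQ : ∀ t : SL3, t ^ 4 = 1 → E.ε * B.sl t * E.ε⁻¹ ∈ K := by
    by_cases hex : ∃ k ∈ K, k ≠ 1 ∧ k ≠ B.σ
    · obtain ⟨k, hk, h1, h2⟩ := hex
      obtain ⟨t, ht, et⟩ := (mem_QQ B).1 (hKR k hk)
      have ek : k = E.ε * B.sl t * E.ε⁻¹ := by
        rw [et, ε_inv E]
        calc k = (E.ε * E.ε) * k * (E.ε * E.ε) := by rw [E.ε_sq, one_mul, mul_one]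
          _ = _ := by group
      let K' : Subgroup SL3 := K.comap ((MulAut.conj E.ε).toMonoidHom.comp B.sl)
      have hm : ∀ s, s ∈ K' ↔ E.ε * B.sl s * E.ε⁻¹ ∈ K := fun s => Iff.rfl
      have htK : t ∈ K' := (hm t).2 (ek ▸ hk)
      have hwK : ∀ s ∈ K', w⁻¹ * s * w ∈ K' := by
        intro s hs
        have h := plane_conj_K hK hKc hKo (y := zV) (by decide +kernel) ((hm s).1 hs)
        refine (hm _).2 ?_
        have e : B.v zV = E.ε * (B.sl w)⁻¹ * E.ε⁻¹ := by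
          rw [U.hw, ← v_neg B, E.conj_ε]; exact congrArg B.v (by decide +kernel)
        rw [e] at h
        simpa [mul_assoc, map_mul, map_inv] using h
      have hwK' : ∀ (n : ℕ), ∀ s ∈ K', w ^ n * s * (w ^ n)⁻¹ ∈ K' := by
        intro n s hs
        induction n with
        | zero => simpa using hs
        | succ n ih =>
          have h := hwK _ (hwK _ ih)
          rw [pow_succ']
          have ew : w⁻¹ * w⁻¹ = w := by
            rw [← mul_inv_rev]; exact inv_eq_of_mul_eq_one_left (by rw [← mul_assoc, ← pow_three', U.cube])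
          rw [show ∀ X : SL3, w⁻¹ * (w⁻¹ * X * w) * w = w⁻¹ * w⁻¹ * X * (w⁻¹ * w⁻¹)⁻¹ from fun X => by rw [_root_.mul_inv_rev, inv_inv]; simp only [mul_assoc],
            ew] at h
          rwa [show w * w ^ n * s * (w * w ^ n)⁻¹ = w * (w ^ n * s * (w ^ n)⁻¹) * w⁻¹ by group]
      have h4 : t * t ≠ 1 := by
        intro h
        rcases CfsgLib.PSpAmalgam.SL3.quat_cases t ht h with e | e
        · exact h1 (by rw [ek, e, map_one, mul_one, mul_inv_cancel])
        · exact h2 (by rw [ek, e, B.sl_neg, E.ε_σ, mul_inv_cancel_right])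
      have hm1 : (-1 : SL3) ∈ K' := by
        have e : t * t = -1 := (CfsgLib.PSpAmalgam.SL3.quat_cases (t * t)
          (by rw [← pow_two, ← pow_mul, mul_comm, pow_mul, ht, one_pow])
          (by rw [← pow_two, ← pow_two, ← pow_mul]; exact ht)).resolve_left h4
        exact e ▸ mul_mem htK htK
      intro s hs
      refine (hm s).1 ?_
      rcases CfsgLib.PSpAmalgam.SL3.quat_orbit w U.cube U.ne t s ⟨ht, hs, h4⟩ with e | e | ⟨i, e | e⟩
      · exact e ▸ one_mem _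
      · exact e ▸ hm1
      · exact e ▸ hwK' _ _ htK
      · rw [e, ← neg_one_mul]
        exact mul_mem hm1 (hwK' _ _ htK)
    · push Not at hex
      exact (small_false E hK hdec fun k hk => or_iff_not_imp_left.2 (hex k hk)).elim
  intro a ha b hb
  have hgen : closure ({B.q, B.v eV * B.q * (B.v eV)⁻¹} : Set G) ≤ QQ B := by
    rw [closure_le]
    rintro g (rfl | rfl)
    · exact (mem_QQ B).2 ⟨x, (uw_quat B U).1, U.hu⟩
    · obtain ⟨i, j, -, hv⟩ := plane_form B U (by decide +kernel : actS eV = eV)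
      refine (mem_QQ B).2 ⟨w ^ j.val * x * (w ^ j.val)⁻¹, ?_, ?_⟩
      · rw [conj_pow, (uw_quat B U).1, mul_one, mul_inv_cancel]
      · rw [hv, map_mul, map_mul, map_inv, U.hu]
        have hq : B.v zV ^ i.val * B.q = B.q * B.v zV ^ i.val :=
          ((show Commute B.q (B.v zV) from B.q_a).pow_right _).eq.symm
        calc B.sl (w ^ j.val) * B.q * (B.sl (w ^ j.val))⁻¹
            = B.sl (w ^ j.val) * (B.q * B.v zV ^ i.val) * (B.v zV ^ i.val)⁻¹ * (B.sl (w ^ j.val))⁻¹ := by group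
          _ = _ := by rw [← hq]; group
  obtain ⟨s, hs, rfl⟩ := (mem_QQ B).1 (hgen ha)
  obtain ⟨t, ht, rfl⟩ := (mem_QQ B).1 (hgen hb)
  exact ((mem_CQ B).1 (hK (hεQ t ht)) s hs).symm

end CfsgLib.SpSixThree.AutX
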