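import Cfsg.Agent.Lib.SpSixThree.Defs
import Cfsg.Agent.Lib.SpSixThree.Setup.SL

/-!
The four possibilities for the signs induced by the normalizer of `J`.
-/

set_option autoImplicit false
set_option maxRecDepth 100000
set_option linter.unusedSectionVars false

namespace CfsgLib.SpSixThree

open Subgroup
open CfsgLib.PSpAmalgam (SL3 V3 zV eV gV actR actS)

universe u

namespace Cases

/-- signs -/
abbrev Sgn : Type := Fin 2 × Fin 2 × Fin 2

/-- the action of signs -/
def sact (s : Sgn) (x : V3) : V3 := (sg s.1 x.1, sg s.2.1 x.2.1, sg s.2.2 x.2.2)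

theorem sg_sg : ∀ (i j : Fin 2) (t : ZMod 3), sg i (sg j t) = sg (i + j) t := by decide +kernel

theorem sact_sact (s t : Sgn) (x : V3) : sact s (sact t x) = sact (s + t) x := by
  simp only [sact, sg_sg]; rfl

theorem sact_add : ∀ (s : Sgn) (x y : V3), sact s (x + y) = sact s x + sact s y := by
  intro s x y
  have hs : ∀ (i : Fin 2) (a b : ZMod 3), sg i (a + b) = sg i a + sg i b := by decide
  simp [sact, hs]

theorem sg_neg : ∀ (i : Fin 2) (t : ZMod 3), sg i (-t) = -(sg i t) := by decide +kernel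

theorem sact_neg : ∀ (s : Sgn) (x : V3), sact s (-x) = -(sact s x) := by decide +kernel

theorem sact_self : ∀ (s : Sgn) (x : V3), sact s (sact s x) = x := by decide +kernel

theorem act8_split (k : K8) (x : V3) :
    act8 k x = sact k.1 (actR^[k.2.1.val] (actS^[k.2.2.val] x)) := rfl

theorem undo : ∀ (l : Fin 3) (m : Fin 2) (x : V3),
    actR^[l.val] (actS^[m.val] (actS^[m.val] (actR^[(3 - l.val) % 3] x))) = x := by decide +kernel

theorem rot_sact : ∀ (s : Sgn) (x : V3),
    actR (sact s (actR (actR x))) = sact (s.2.2, s.1, s.2.1) x := by decide +kernel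

theorem sum_zero_image : ∀ z : V3, vsum z = 0 → ∃ w : V3, -w + actR w + z = 0 := by
  unfold vsum; decide +kernel

theorem fix_R : ∀ y : V3, actR y = y → actS y = -y → y = 0 := by decide +kernel

theorem neg_self : ∀ y : V3, -y = y → y = 0 := by decide +kernel

theorem neg_double : ∀ y : V3, y - -y = -y := by decide +kernel

variable {G : Type u} [Group G] [Finite G] (B : Base G)

theorem v_zero : B.v 0 = 1 := by
  have h := B.v_add 0 0
  rw [add_zero] at h
  exact left_eq_mul.1 h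

theorem v_neg (x : V3) : B.v (-x) = (B.v x)⁻¹ := by
  refine eq_inv_of_mul_eq_one_left ?_
  rw [← B.v_add, neg_add_cancel, v_zero]

theorem v_comm (x y : V3) : B.v x * B.v y = B.v y * B.v x := by
  rw [← B.v_add, add_comm, B.v_add]

theorem v_mem (x : V3) : B.v x ∈ B.J := (B.mem_J _).2 ⟨x, rfl⟩

/-- The element acts on `J` by the map. -/
def Act (n : G) (f : V3 → V3) : Prop := ∀ x, n * B.v x * n⁻¹ = B.v (f x)

theorem act_mul {n m : G} {f g : V3 → V3} (hn : Act B n f) (hm : Act B m g) :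
    Act B (n * m) (f ∘ g) := fun x => by
  rw [Function.comp_apply, ← hn, ← hm]; group

theorem act_congr {n : G} {f g : V3 → V3} (hn : Act B n f) (h : ∀ x, f x = g x) : Act B n g :=
  fun x => by rw [← h]; exact hn x

theorem act_v (y : V3) : Act B (B.v y) id := fun x => by
  rw [v_comm B y x, mul_inv_cancel_right]; rfl

theorem act_one : Act B 1 id := fun x => by simp

theorem act_inv {n : G} {f g : V3 → V3} (hn : Act B n f) (h : ∀ x, f (g x) = x) : Act B n⁻¹ g :=
  fun x => by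
    have := hn (g x)
    rw [h] at this
    rw [inv_inv, ← this]; group

theorem act_mem {n : G} {f g : V3 → V3} (hn : Act B n f) (hg : ∀ x, f (g x) = x) :
    n ∈ normalizer (B.J : Set G) := by
  refine mem_normalizer_iff.2 fun y => ⟨fun hy => ?_, fun hy => ?_⟩
  · obtain ⟨x, rfl⟩ := (B.mem_J y).1 hy
    rw [hn]; exact v_mem B _
  · obtain ⟨x, hx⟩ := (B.mem_J _).1 hy
    have h := act_inv B hn hg x
    rw [hx, inv_inv, show n⁻¹ * (n * y * n⁻¹) * n = y by group] at h
    rw [h]; exact v_mem B _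

theorem of_act_id {n : G} {f : V3 → V3} (hn : Act B n f) (h : ∀ x, f x = x) :
    ∃ y, n = B.v y := by
  have hc : n ∈ centralizer (B.J : Set G) := by
    refine mem_centralizer_iff.2 fun j hj => ?_
    obtain ⟨x, rfl⟩ := (B.mem_J j).1 hj
    exact (mul_inv_eq_iff_eq_mul.1 ((hn x).trans (congrArg B.v (h x)))).symm
  rw [B.cent_J] at hc
  obtain ⟨y, hy⟩ := (B.mem_J n).1 hc
  exact ⟨y, hy.symm⟩

theorem act_β : Act B B.β actR := B.conj_β
theorem act_σ : Act B B.σ actS := B.conj_σ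

theorem σ_inv : B.σ⁻¹ = B.σ := inv_eq_of_mul_eq_one_right B.σ_sq
theorem β_inv : B.β⁻¹ = B.β * B.β :=
  inv_eq_of_mul_eq_one_right (by rw [← mul_assoc, B.β_cube])

theorem act_pow {n : G} {f : V3 → V3} (hn : Act B n f) : ∀ k : ℕ, Act B (n ^ k) (f^[k])
  | 0 => fun x => by simp
  | k + 1 => by
    rw [pow_succ, Function.iterate_succ]
    exact act_mul B (act_pow hn k) hn

/-- The signs occurring in the normalizer. -/
def Real (s : Sgn) : Prop := ∃ n ∈ normalizer (B.J : Set G), Act B n (sact s)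

theorem real_of (n : G) (hn : n ∈ normalizer (B.J : Set G)) :
    ∃ s : Sgn, ∃ l : Fin 3, ∃ m : Fin 2,
      Real B s ∧ Act B n (fun x => sact s (actR^[l.val] (actS^[m.val] x))) := by
  obtain ⟨k, hk⟩ := B.monomial n hn
  refine ⟨k.1, k.2.1, k.2.2, ?_, hk⟩
  have h1 : Act B n (fun x => sact k.1 (actR^[k.2.1.val] (actS^[k.2.2.val] x))) := hk
  have h2 := act_mul B h1 (act_mul B (act_pow B (act_σ B) k.2.2.val)
    (act_pow B (act_β B) ((3 - k.2.1.val) % 3)))
  have h3 : Act B _ (sact k.1) := act_congr B h2 fun x => by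
    simp only [Function.comp_apply]; rw [undo]
  exact ⟨_, act_mem B h3 (g := sact k.1) fun x => by
    rw [sact_sact, show k.1 + k.1 = (0 : Sgn) by generalize k.1 = t; revert t; decide +kernel]
    simp [sact, sg], h3⟩

theorem real_add {s t : Sgn} : Real B s → Real B t → Real B (s + t) := by
  rintro ⟨n, hn, hns⟩ ⟨m, hm, hmt⟩
  exact ⟨n * m, mul_mem hn hm, act_congr B (act_mul B hns hmt) fun x => sact_sact s t x⟩

theorem β_mem_N : B.β ∈ normalizer (B.J : Set G) :=
  act_mem B (act_β B) (g := fun x => (x.2.1, x.2.2, x.1)) fun _ => rfl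

theorem σ_mem_N : B.σ ∈ normalizer (B.J : Set G) :=
  act_mem B (act_σ B) (g := actS) fun _ => rfl

theorem real_rot {s : Sgn} : Real B s → Real B (s.2.2, s.1, s.2.1) := by
  rintro ⟨n, hn, hns⟩
  exact ⟨B.β * (n * (B.β * B.β)),
    mul_mem (β_mem_N B) (mul_mem hn (mul_mem (β_mem_N B) (β_mem_N B))),
    act_congr B (act_mul B (act_β B) (act_mul B hns (act_mul B (act_β B) (act_β B)))) fun x =>
      rot_sact s x⟩

theorem inv_a {n : G} (hn : Act B n fun x => -x) : n * B.v zV * n⁻¹ = (B.v zV)⁻¹ := by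
  rw [hn, v_neg]

/-- An element commuting with `R` is `a`-central. -/
theorem cent_R {x : G} (hxa : x * B.v zV = B.v zV * x) (hxs : x * B.σ = B.σ * x)
    (hxm : x * B.v gV = B.v gV * x) (hxb : x * B.β = B.β * x) :
    ∃ i : ℕ, x = B.v zV ^ i := by
  have ha3 : B.v zV ^ 3 = 1 := by
    rw [pow_succ, pow_two, ← B.v_add, ← B.v_add, ← v_zero B]
    exact congrArg B.v (by decide +kernel)
  have hane : B.v zV ≠ 1 := fun h => absurd (B.v_inj (h.trans (v_zero B).symm)) (by decide +kernel)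
  let C0 := centralizer ({B.v zV} : Set G) ⊓ centralizer ({B.σ} : Set G)
  have hsl : ∀ u, B.sl u ∈ C0 := fun u =>
    ⟨mem_centralizer_singleton_iff.2 (B.sl_cent u).1, mem_centralizer_singleton_iff.2 (B.sl_cent u).2⟩
  have haC : B.v zV ∈ C0 := ⟨mem_centralizer_singleton_iff.2 rfl,
    mem_centralizer_singleton_iff.2 (mul_inv_eq_iff_eq_mul.1 (B.conj_σ zV)).symm⟩
  let f : Fin 3 × SL3 → C0 := fun p =>
    ⟨B.v zV ^ p.1.val * B.sl p.2, mul_mem (pow_mem haC _) (hsl _)⟩
  have hac : ∀ (i : ℕ) u, B.sl u * B.v zV ^ i = B.v zV ^ i * B.sl u := fun i u =>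
    ((show Commute (B.sl u) (B.v zV) from (B.sl_cent u).1).pow_right i).eq
  have hf : Function.Bijective f := by
    refine (Nat.bijective_iff_injective_and_card f).2 ⟨?_, ?_⟩
    · rintro ⟨i, u⟩ ⟨j, w⟩ h
      have h1 : B.v zV ^ i.val * B.sl u = B.v zV ^ j.val * B.sl w := congrArg Subtype.val h
      have hkey : B.sl (u * w⁻¹) = (B.v zV ^ i.val)⁻¹ * B.v zV ^ j.val := by
        rw [map_mul, map_inv, eq_inv_mul_iff_mul_eq, ← mul_assoc, h1]; group
      have hcen : ∀ y, u * w⁻¹ * y = y * (u * w⁻¹) := fun y => B.sl_inj (by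
        rw [map_mul B.sl (u * w⁻¹) y, map_mul B.sl y, hkey]
        exact ((show Commute (B.sl y) (B.v zV ^ i.val) from hac _ y).inv_right.mul_right
          (hac _ y)).eq.symm)
      have h3 : (u * w⁻¹) ^ 3 = 1 := B.sl_inj (by
        rw [map_pow, map_one, hkey,
          ((show Commute (B.v zV) (B.v zV) from Commute.refl _).pow_pow i.val j.val).inv_left.mul_pow,
          inv_pow, ← pow_mul, ← pow_mul, mul_comm i.val, mul_comm j.val, pow_mul, pow_mul, ha3,
          one_pow, one_pow, inv_one, one_mul])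
      have h4 : u * w⁻¹ = 1 := by
        rcases CfsgLib.PSpAmalgam.SL3.center_cases _ hcen with e | e
        · exact e
        · rw [e] at h3
          exact absurd h3 (by decide +kernel)
      have huw : u = w := mul_inv_eq_one.1 h4
      subst huw
      have hij : B.v zV ^ i.val = B.v zV ^ j.val := mul_right_cancel h1
      rw [pow_inj_mod, orderOf_eq_prime (hp := ⟨Nat.prime_three⟩) ha3 hane,
        Nat.mod_eq_of_lt i.2, Nat.mod_eq_of_lt j.2] at hij
      exact Prod.ext (Fin.ext hij) rfl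
    · rw [B.card_cent_z_σ, Nat.card_prod, Nat.card_fin, CfsgLib.PSpAmalgam.SL3.card_eq]
  obtain ⟨⟨i, u⟩, hu⟩ := hf.2 ⟨x, mem_centralizer_singleton_iff.2 hxa,
    mem_centralizer_singleton_iff.2 hxs⟩
  have hx : B.v zV ^ i.val * B.sl u = x := congrArg Subtype.val hu
  refine ⟨i.val, ?_⟩
  by_contra hne
  have hu1 : u ≠ 1 := fun h => hne (by rw [← hx, h, map_one, mul_one])
  -- the set of elements of `SL₂(3)` centralizing `R` is normal
  have hRc : ∀ r ∈ B.R, x * r = r * x := by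
    intro r hr
    have hsub : B.R ≤ centralizer ({x} : Set G) := by
      let f' : {y : V3 // vsum y = 0} × Fin 3 → B.R := fun p =>
        ⟨B.v p.1.1 * B.β ^ p.2.val, mul_mem ((B.v_mem_R _).2 p.1.2) (pow_mem B.β_mem _)⟩
      have hf' : Function.Bijective f' := by
        refine (Nat.bijective_iff_injective_and_card f').2 ⟨?_, ?_⟩
        · rintro ⟨⟨y, hy⟩, j⟩ ⟨⟨z, hz⟩, l⟩ h
          have h1 : B.v y * B.β ^ j.val = B.v z * B.β ^ l.val := congrArg Subtype.val h
          have h2 : ∀ t, actR^[j.val] t = actR^[l.val] t := fun t => B.v_inj (by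
            have q1 : B.v y * B.β ^ j.val * B.v t * (B.v y * B.β ^ j.val)⁻¹ =
                B.v (actR^[j.val] t) := act_mul B (act_v B y) (act_pow B (act_β B) j.val) t
            rw [← q1, h1]
            exact act_mul B (act_v B z) (act_pow B (act_β B) l.val) t)
          have hjl : j = l := (show ∀ j l : Fin 3, (∀ t, actR^[j.val] t = actR^[l.val] t) → j = l by
            decide +kernel) j l h2
          subst hjl
          exact Prod.ext (Subtype.ext (B.v_inj (mul_right_cancel h1))) rfl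
        · rw [B.card_R, Nat.card_prod, Nat.card_eq_fintype_card, Nat.card_eq_fintype_card]
          unfold vsum
          decide +kernel
      intro r hr
      obtain ⟨⟨⟨y, hy⟩, j⟩, hj⟩ := hf'.2 ⟨r, hr⟩
      have hr' : B.v y * B.β ^ j.val = r := congrArg Subtype.val hj
      obtain ⟨k, l, rfl⟩ := (show ∀ y : V3, vsum y = 0 → ∃ k l : Fin 3,
        y = k.val • gV + l.val • zV by unfold vsum; decide +kernel) y hy
      rw [← hr', B.v_add]
      have hn : ∀ (n : ℕ) (t : V3), B.v (n • t) = B.v t ^ n := by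
        intro n t
        induction n with
        | zero => rw [zero_nsmul, pow_zero, v_zero]
        | succ n ih => rw [succ_nsmul, B.v_add, ih, pow_succ]
      rw [hn, hn]
      refine mem_centralizer_singleton_iff.2 ?_
      exact ((((show Commute x (B.v gV) from hxm).pow_right _).mul_right
        ((show Commute x (B.v zV) from hxa).pow_right _)).mul_right
          ((show Commute x B.β from hxb).pow_right _)).eq.symm
    exact (mem_centralizer_singleton_iff.1 (hsub hr)).symm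
  let N : Subgroup SL3 :=
    { carrier := {w | ∀ r ∈ B.R, B.sl w * r = r * B.sl w}
      one_mem' := fun r _ => by simp
      mul_mem' := fun {p q} hp hq r hr => by
        rw [map_mul]
        exact ((show Commute (B.sl p) r from hp r hr).mul_left (hq r hr)).eq
      inv_mem' := fun {p} hp r hr => by
        rw [map_inv]; exact (show Commute (B.sl p) r from hp r hr).inv_left.eq }
  have huN : u ∈ N := fun r hr => by
    have e : B.sl u = (B.v zV ^ i.val)⁻¹ * x := by rw [← hx, inv_mul_cancel_left]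
    rw [e]
    exact (((show Commute (B.v zV) r from (B.R_comm r hr).symm).pow_left _).inv_left.mul_left
      (hRc r hr)).eq
  have hconj : ∀ p y, p ∈ N → y * p * y⁻¹ ∈ N := by
    intro p y hp r hr
    have hy : B.sl y ∈ centralizer ({B.v zV} : Set G) :=
      mem_centralizer_singleton_iff.2 (B.sl_cent y).1
    have h1 := hp _ (by
      have := (mem_normalizer_iff.1 (B.R_normal (inv_mem hy)) r).1 hr
      rwa [inv_inv] at this : (B.sl y)⁻¹ * r * B.sl y ∈ B.R)
    rw [map_mul, map_mul, map_inv]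
    calc B.sl y * B.sl p * (B.sl y)⁻¹ * r
        = B.sl y * (B.sl p * ((B.sl y)⁻¹ * r * B.sl y)) * (B.sl y)⁻¹ := by group
      _ = B.sl y * ((B.sl y)⁻¹ * r * B.sl y * B.sl p) * (B.sl y)⁻¹ := by rw [h1]
      _ = r * (B.sl y * B.sl p * (B.sl y)⁻¹) := by group
  have hneg : (-1 : SL3) ∈ N := by
    rcases Setup.sl_to_neg u hu1 with e | ⟨y, e⟩
    · exact e ▸ huN
    have hc : u * y * u⁻¹ * y⁻¹ ∈ N := by
      have := mul_mem huN (hconj _ y (inv_mem huN))
      rwa [show u * (y * u⁻¹ * y⁻¹) = u * y * u⁻¹ * y⁻¹ by group] at this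
    rcases e with e | e
    · exact e ▸ hc
    · exact e ▸ mul_mem hc hc
  have h := hneg B.β B.β_mem
  rw [B.sl_neg] at h
  have h1 := B.σ_β
  rw [h, mul_assoc, B.σ_sq, mul_one] at h1
  have h2 : B.β = 1 := by
    have h3 : B.β * B.β = 1 := by
      conv_lhs => arg 1; rw [h1]
      exact inv_mul_cancel _
    have h4 := B.β_cube
    rwa [h3, one_mul] at h4
  have h5 := B.conj_β eV
  rw [h2, one_mul, inv_one, mul_one] at h5
  exact absurd (B.v_inj h5) (by decide +kernel)

/-- The central sign lifts to an involution commuting with `β` and `σ`. -/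
theorem exists_neg {n : G} (hn : Act B n fun x => -x) :
    ∃ d, d * d = 1 ∧ Act B d (fun x => -x) ∧ d * B.σ = B.σ * d ∧ d * B.β = B.β * d := by
  have hsq : ∀ {m : G}, Act B m (fun x => -x) → m * m = 1 := by
    intro m hm
    obtain ⟨y, hy⟩ := of_act_id B (act_mul B hm hm) fun x => neg_neg x
    have h := hm y
    rw [← hy, show m * (m * m) * m⁻¹ = m * m by group, hy] at h
    rw [hy, neg_self y (B.v_inj h).symm, v_zero]
  have hN := act_mem B hn (g := fun x => -x) fun x => neg_neg x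
  obtain ⟨z, hz⟩ := of_act_id B (act_mul B (act_mul B (act_mul B hn (act_β B))
    (act_inv B hn (g := fun x => -x) fun x => neg_neg x)) (act_inv B (act_β B)
      (g := fun x => (x.2.1, x.2.2, x.1)) fun x => rfl)) fun x => by
        simp [actR]
  have hzR : B.v z ∈ B.R := by
    rw [← hz]
    refine mul_mem ?_ (inv_mem B.β_mem)
    -- `n` normalizes `C(a)` and the normal subgroup generated by the elements of order three
    obtain ⟨w, hw⟩ : ∃ w, w = B.v z * B.β := ⟨_, rfl⟩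
    have e : n * B.β * n⁻¹ = w := by rw [hw, ← hz]; group
    rw [e]
    by_cases hsum : vsum z = 0
    · exact hw ▸ mul_mem ((B.v_mem_R z).2 hsum) B.β_mem
    exfalso
    have h3 : (n * B.β * n⁻¹) * (n * B.β * n⁻¹) * (n * B.β * n⁻¹) = 1 := by
      rw [show n * B.β * n⁻¹ * (n * B.β * n⁻¹) * (n * B.β * n⁻¹) =
        n * (B.β * B.β * B.β) * n⁻¹ by group, B.β_cube, mul_one, mul_inv_cancel]
    rw [e, hw] at h3
    have h4 : B.v (z + actR z + actR (actR z)) = 1 := by
      rw [B.v_add, B.v_add, ← B.conj_β (actR z), ← B.conj_β z]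
      calc B.v z * (B.β * B.v z * B.β⁻¹) * (B.β * (B.β * B.v z * B.β⁻¹) * B.β⁻¹)
          = B.v z * B.β * (B.v z * B.β) * (B.v z * B.β) * (B.β * B.β * B.β)⁻¹ := by group
        _ = 1 := by rw [h3, B.β_cube, inv_one, mul_one]
    have h5 := B.v_inj (h4.trans (v_zero B).symm)
    exact hsum ((show ∀ z : V3, z + actR z + actR (actR z) = 0 → vsum z = 0 by
      unfold vsum; decide +kernel) z h5)
  obtain ⟨w, hw⟩ := sum_zero_image z ((B.v_mem_R z).1 hzR)
  have hd : Act B (n * B.v w) fun x => -x := act_mul B hn (act_v B w)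
  have hdb : n * B.v w * B.β = B.β * (n * B.v w) := by
    have e : n * B.v w * B.β * (n * B.v w)⁻¹ * B.β⁻¹ = 1 := by
      rw [show n * B.v w * B.β * (n * B.v w)⁻¹ * B.β⁻¹ =
        n * (B.v w * (B.β * (B.v w)⁻¹ * B.β⁻¹)) * n⁻¹ * (n * B.β * n⁻¹ * B.β⁻¹) by group,
        ← v_neg, B.conj_β, ← B.v_add, hn, hz, ← B.v_add, ← v_zero B]
      congr 1
      refine Eq.trans ?_ hw
      rw [show actR (-w) = -actR w from rfl]
      ring
    exact mul_inv_eq_iff_eq_mul.1 (mul_inv_eq_one.1 e)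
  obtain ⟨d, hd'⟩ : ∃ d, d = n * B.v w := ⟨_, rfl⟩
  rw [← hd'] at hd hdb
  refine ⟨d, hsq hd, hd, ?_, hdb⟩
  have hdd := hsq hd
  have hi : d⁻¹ = d := inv_eq_of_mul_eq_one_right hdd
  obtain ⟨y, hy⟩ := of_act_id B (act_mul B (act_mul B (act_mul B (act_σ B) hd) (act_σ B)) hd)
    fun x => by simp [actS]
  have hS : actS y = -y := by
    have h1 := B.conj_σ y
    rw [← hy, σ_inv, show B.σ * (B.σ * d * B.σ * d) * B.σ = (B.σ * B.σ) * d * B.σ * d * B.σ by group,
      B.σ_sq, one_mul] at h1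
    have h2 : B.σ * d * B.σ * d * (d * B.σ * d * B.σ) = 1 := by
      rw [show B.σ * d * B.σ * d * (d * B.σ * d * B.σ) =
        B.σ * d * B.σ * (d * d) * B.σ * d * B.σ by group, hdd, mul_one,
        show B.σ * d * B.σ * B.σ * d * B.σ = B.σ * d * (B.σ * B.σ) * d * B.σ by group, B.σ_sq,
        mul_one, mul_assoc B.σ, hdd, mul_one, B.σ_sq]
    rw [hy, h1, ← B.v_add, ← v_zero B] at h2
    exact eq_neg_of_add_eq_zero_right (B.v_inj h2)
  have hR : actR y = y := by
    refine B.v_inj ?_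
    rw [← B.conj_β, ← hy]
    have c2 : Commute d B.β⁻¹ := (show Commute d B.β from hdb).inv_right
    have e1 : B.σ * B.β⁻¹ = B.β * B.σ := by
      rw [← B.σ_β, ← mul_assoc, ← mul_assoc, B.σ_sq, one_mul]
    have e2 : B.σ * B.β = B.β⁻¹ * B.σ := by
      rw [← B.σ_β, mul_assoc (B.σ * B.β), B.σ_sq, mul_one]
    calc B.β * (B.σ * d * B.σ * d) * B.β⁻¹ = B.β * B.σ * d * B.σ * (d * B.β⁻¹) := by group
      _ = B.β * B.σ * d * (B.σ * B.β⁻¹) * d := by rw [c2.eq]; group
      _ = B.β * B.σ * (d * B.β) * B.σ * d := by rw [e1]; group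
      _ = B.β * (B.σ * B.β) * d * B.σ * d := by rw [hdb]; group
      _ = B.σ * d * B.σ * d := by rw [e2]; group
  have hy0 := fix_R y hR hS
  rw [hy0, v_zero] at hy
  calc d * B.σ = B.σ * (B.σ * d * B.σ * d) * d⁻¹ := by
        rw [← mul_assoc, ← mul_assoc, ← mul_assoc, B.σ_sq, one_mul, mul_inv_cancel_right]
    _ = B.σ * d := by rw [hy, mul_one, hi]

/-- Lifts commuting with the central sign. -/
theorem exists_lift {d n : G} (hd : Act B d fun x => -x) (hdd : d * d = 1) {f : V3 → V3}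
    (hn : Act B n f) (hf : ∀ x, f (-x) = -(f x)) {g : V3 → V3} (hg : ∀ x, f (g x) = x) :
    ∃ m, Act B m f ∧ m * d = d * m := by
  have hi : d⁻¹ = d := inv_eq_of_mul_eq_one_right hdd
  obtain ⟨y, hy⟩ := of_act_id B (act_mul B (act_mul B (act_mul B (act_inv B hn hg) hd) hn) hd)
    fun x => by
      simp only [Function.comp_apply]
      rw [hf, neg_neg]
      have hinj : Function.Injective f := fun p q h => by
        obtain ⟨p', rfl⟩ := (Finite.surjective_of_injective (show Function.Injective g from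
          fun p q h => by rw [← hg p, ← hg q, h])) p
        obtain ⟨q', rfl⟩ := (Finite.surjective_of_injective (show Function.Injective g from
          fun p q h => by rw [← hg p, ← hg q, h])) q
        rw [hg, hg] at h; rw [h]
      exact hinj (hg _)
  refine ⟨n * B.v (-y), act_congr B (act_mul B hn (act_v B _)) fun _ => rfl, ?_⟩
  have hc : d * B.v (-y) = B.v y * d := by
    have h : d * B.v (-y) * d⁻¹ = B.v (- -y) := hd (-y)
    rw [neg_neg, mul_inv_eq_iff_eq_mul] at h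
    exact h
  have hdn : d * n = n * B.v y * d := by
    rw [← hy]
    calc d * n = d * n * (d * d) := by rw [hdd, mul_one]
      _ = n * (n⁻¹ * d * n * d) * d := by group
  symm
  calc d * (n * B.v (-y)) = d * n * B.v (-y) := (mul_assoc _ _ _).symm
    _ = n * B.v y * (d * B.v (-y)) := by rw [hdn, mul_assoc]
    _ = n * (B.v y * B.v y) * d := by rw [hc]; simp only [mul_assoc]
    _ = n * B.v (-y) * d := by
      rw [← B.v_add, show y + y = -y from (by decide +kernel : ∀ t : V3, t + t = -t) y]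

theorem lift_unique {d m m' : G} (hd : Act B d fun x => -x) {f g : V3 → V3} (hm : Act B m f)
    (hm' : Act B m' f) (hg : ∀ x, f (g x) = x) (hgf : ∀ x, g (f x) = x) (h : m * d = d * m)
    (h' : m' * d = d * m') : m = m' := by
  obtain ⟨y, hy⟩ := of_act_id B (act_mul B (act_inv B hm hg) hm') hgf
  have hc : d * B.v y * d⁻¹ = B.v y := by
    rw [← hy, ← ((show Commute m d from h).inv_left.mul_left h').eq, mul_inv_cancel_right]
  rw [hd] at hc
  rw [neg_self y (B.v_inj hc), v_zero, inv_mul_eq_one] at hy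
  exact hy

theorem code_eq : ∀ (k : K8) (x : V3),
    ((((sact (1, 0, 0))^[k.1.1.val] ∘ (sact (0, 1, 0))^[k.1.2.1.val]) ∘
      (sact (0, 0, 1))^[k.1.2.2.val]) ∘ actR^[k.2.1.val] ∘ id) (actS^[k.2.2.val] x) = act8 k x := by
  decide +kernel

theorem fix_z : ∀ (s : Sgn) (l : Fin 3) (m : Fin 2),
    sact s (actR^[l.val] (actS^[m.val] zV)) = sact s zV := by decide +kernel

theorem two_cases : ∀ s : Sgn, (sact s zV = zV ∨ sact s zV = -zV) ∨
    (s = (1, 0, 0) ∨ s = (0, 1, 0) ∨ s = (0, 0, 1)) ∨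
    ((1, 1, 1) + s = ((1, 0, 0) : Sgn) ∨ (1, 1, 1) + s = ((0, 1, 0) : Sgn) ∨
      (1, 1, 1) + s = ((0, 0, 1) : Sgn)) := by decide +kernel

theorem four_cases : ∀ s : Sgn, s ≠ (1, 0, 0) ∧ s ≠ (0, 1, 0) ∧ s ≠ (0, 0, 1) → s ≠ (0, 0, 0) →
    s ≠ (1, 1, 1) → s = (0, 1, 1) ∨ s = (1, 0, 1) ∨ s = (1, 1, 0) := by decide +kernel

theorem all_minus : ∀ t : Sgn, sact t zV = -zV → t = (1, 1, 1) := by decide +kernel

/-- The even sign lifts to an involution commuting with `σ`. -/
theorem four_lift {n : G} (hn : Act B n (sact (0, 1, 1))) :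
    ∃ d : G, d * d = 1 ∧ (∀ x, d * B.v x * d⁻¹ = B.v (x.1, -x.2.1, -x.2.2)) ∧
      d * B.σ = B.σ * d := by
  obtain ⟨y, hy⟩ := of_act_id B (act_mul B hn hn) (sact_self _)
  have hfix : sact (0, 1, 1) y = y := by
    refine B.v_inj ?_
    rw [← hn, ← hy]; group
  obtain ⟨u, hu⟩ : ∃ u, u = n * B.v y := ⟨_, rfl⟩
  have hua : Act B u (sact (0, 1, 1)) := hu ▸ act_mul B hn (act_v B y)
  have hnc : n * B.v y = B.v y * n := by
    refine mul_inv_eq_iff_eq_mul.1 ?_
    rw [hn, hfix]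
  have huu : u * u = 1 := by
    rw [hu, show n * B.v y * (n * B.v y) = (n * B.v y) * n * B.v y by group, hnc,
      show B.v y * n * n * B.v y = B.v y * (n * n) * B.v y by group, hy, ← B.v_add, ← B.v_add,
      ← v_zero B]
    exact congrArg B.v ((by decide +kernel : ∀ t : V3, t + t + t = 0) y)
  have hσu : Act B (B.σ * u * B.σ * u) id := act_congr B
    (act_mul B (act_mul B (act_mul B (act_σ B) hua) (act_σ B)) hua) (by decide +kernel)
  obtain ⟨t, ht⟩ := of_act_id B hσu fun _ => rfl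
  have e1 : u * B.v t * u⁻¹ = B.v (-t) := by
    rw [v_neg, ← ht]
    refine eq_inv_of_mul_eq_one_left ?_
    rw [inv_eq_of_mul_eq_one_right huu,
      show u * (B.σ * u * B.σ * u) * u * (B.σ * u * B.σ * u) =
        u * B.σ * u * B.σ * (u * u) * B.σ * u * B.σ * u by group, huu, mul_one,
      show u * B.σ * u * B.σ * B.σ * u * B.σ * u = u * B.σ * u * (B.σ * B.σ) * u * B.σ * u by group,
      B.σ_sq, mul_one, mul_assoc (u * B.σ), huu, mul_one, mul_assoc u, B.σ_sq, mul_one, huu]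
  have e2 : B.σ * B.v t * B.σ⁻¹ = B.v (-t) := by
    rw [v_neg, ← ht, σ_inv]
    refine eq_inv_of_mul_eq_one_left ?_
    rw [show B.σ * (B.σ * u * B.σ * u) * B.σ * (B.σ * u * B.σ * u) =
        (B.σ * B.σ) * u * B.σ * u * (B.σ * B.σ) * u * B.σ * u by group, B.σ_sq, one_mul, mul_one,
      mul_assoc (u * B.σ), huu, mul_one, mul_assoc u, B.σ_sq, mul_one, huu]
  have k1 : sact (0, 1, 1) t = -t := B.v_inj ((hua t).symm.trans e1)
  have k2 : actS t = -t := B.v_inj ((B.conj_σ t).symm.trans e2)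
  obtain ⟨d, hd⟩ : ∃ d, d = u * B.v t := ⟨_, rfl⟩
  have hut : u * B.v t = B.v (-t) * u := mul_inv_eq_iff_eq_mul.1 e1
  refine ⟨d, ?_, fun x => ?_, ?_⟩
  · rw [hd, show u * B.v t * (u * B.v t) = (u * B.v t) * u * B.v t by group, hut,
      show B.v (-t) * u * u * B.v t = B.v (-t) * (u * u) * B.v t by group, huu, mul_one, ← B.v_add,
      neg_add_cancel, v_zero]
  · rw [hd, act_mul B hua (act_v B t) x]; rfl
  · have hsu : B.σ * u * B.σ = u * B.v (-t) := by
      calc B.σ * u * B.σ = B.σ * u * B.σ * u * u := by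
            rw [mul_assoc (B.σ * u * B.σ), huu, mul_one]
        _ = B.v t * u := by rw [ht]
        _ = u * B.v (-t) := by
            have h5 := hua (-t)
            rw [sact_neg, k1, neg_neg] at h5
            rw [← h5]; group
    rw [hd]
    refine (mul_inv_eq_iff_eq_mul.1 ?_).symm
    rw [σ_inv, show B.σ * (u * B.v t) * B.σ = B.σ * u * B.σ * (B.σ⁻¹ * B.v t * B.σ) by group, hsu,
      show B.σ⁻¹ * B.v t * B.σ = B.σ * B.v t * B.σ⁻¹ by rw [σ_inv], e2, mul_assoc, ← B.v_add]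
    congr 2
    exact (by decide +kernel : ∀ t : V3, -t + -t = t) t

/-- The central sign inverts `q`. -/
theorem q_inv_of {d : G} (hdd : d * d = 1) (hd : Act B d fun x => -x) (hdσ : d * B.σ = B.σ * d)
    (hdβ : d * B.β = B.β * d) : d * B.q * d⁻¹ = B.q⁻¹ := by
  have hi : d⁻¹ = d := inv_eq_of_mul_eq_one_right hdd
  have hz : d * B.v zV * d⁻¹ = (B.v zV)⁻¹ := inv_a B hd
  obtain ⟨x, hx⟩ : ∃ x, x = d * B.q * d⁻¹ * B.q := ⟨_, rfl⟩
  have hm : d * B.v gV * d⁻¹ = (B.v gV)⁻¹ := by rw [hd, v_neg]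
  have hm' : d * (B.v gV)⁻¹ * d⁻¹ = B.v gV := by rw [← conj_inv, hm, inv_inv]
  have hb : d * B.β * d⁻¹ = B.β := by rw [hdβ, mul_inv_cancel_right]
  have hq2 : B.q * B.σ = B.σ * B.q := by rw [← B.q_sq, mul_assoc]
  have q1 : d * B.q * d⁻¹ * B.β * (d * B.q * d⁻¹)⁻¹ = B.v gV := by
    rw [show d * B.q * d⁻¹ * B.β * (d * B.q * d⁻¹)⁻¹ =
      d * (B.q * (d⁻¹ * B.β * d) * B.q⁻¹) * d⁻¹ by group, mul_assoc d⁻¹, ← hdβ,
      inv_mul_cancel_left, B.q_β, hm']
  have q2 : d * B.q * d⁻¹ * (B.v gV)⁻¹ * (d * B.q * d⁻¹)⁻¹ = B.β := by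
    rw [show d * B.q * d⁻¹ * (B.v gV)⁻¹ * (d * B.q * d⁻¹)⁻¹ =
      d * (B.q * (d⁻¹ * (B.v gV)⁻¹ * d) * B.q⁻¹) * d⁻¹ by group,
      show d⁻¹ * (B.v gV)⁻¹ * d = B.v gV by
        rw [hi]; rw [hi] at hm'; exact hm', B.q_gV, hb]
  have hxm : x * B.v gV = B.v gV * x := by
    refine mul_inv_eq_iff_eq_mul.1 ?_
    rw [hx, show d * B.q * d⁻¹ * B.q * B.v gV * (d * B.q * d⁻¹ * B.q)⁻¹ =
      d * B.q * d⁻¹ * (B.q * B.v gV * B.q⁻¹) * (d * B.q * d⁻¹)⁻¹ by group, B.q_gV, q1]
  have hxb : x * B.β = B.β * x := by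
    refine mul_inv_eq_iff_eq_mul.1 ?_
    rw [hx, show d * B.q * d⁻¹ * B.q * B.β * (d * B.q * d⁻¹ * B.q)⁻¹ =
      d * B.q * d⁻¹ * (B.q * B.β * B.q⁻¹) * (d * B.q * d⁻¹)⁻¹ by group, B.q_β, q2]
  have hxs : x * B.σ = B.σ * x := by
    have c1 : Commute d B.σ := hdσ
    have c2 : Commute B.q B.σ := hq2
    exact hx ▸ ((((c1.mul_left c2).mul_left c1.inv_left).mul_left c2).eq)
  have hqa : d * B.q * d⁻¹ * B.v zV = B.v zV * (d * B.q * d⁻¹) := by
    refine mul_inv_eq_iff_eq_mul.1 ?_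
    rw [show d * B.q * d⁻¹ * B.v zV * (d * B.q * d⁻¹)⁻¹ =
      d * (B.q * (d⁻¹ * B.v zV * d) * B.q⁻¹) * d⁻¹ by group,
      show d⁻¹ * B.v zV * d = (B.v zV)⁻¹ by rw [hi]; rw [hi] at hz; exact hz,
      (show Commute B.q (B.v zV) from B.q_a).inv_right.eq, mul_inv_cancel_right, ← conj_inv, hz,
      inv_inv]
  have hxa : x * B.v zV = B.v zV * x :=
    hx ▸ ((show Commute (d * B.q * d⁻¹) (B.v zV) from hqa).mul_left B.q_a).eq
  obtain ⟨i, hxi⟩ := cent_R B hxa hxs hxm hxb
  have hq4 : B.q ^ 4 = 1 := by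
    rw [pow_succ, pow_succ, pow_succ, pow_one, mul_assoc, B.q_sq, B.σ_sq]
  have e : B.v zV ^ i = 1 := by
    have h1 : d * B.q * d⁻¹ = B.v zV ^ i * B.q⁻¹ := by rw [← hxi, hx, mul_inv_cancel_right]
    have h4 := congrArg (· ^ 4) h1
    rw [conj_pow, hq4, mul_one, mul_inv_cancel,
      ((show Commute B.q (B.v zV) from B.q_a).symm.pow_left i).inv_right.mul_pow, inv_pow, hq4,
      inv_one, mul_one, ← pow_mul, mul_comm, pow_mul] at h4
    have ha3 : B.v zV ^ 3 = 1 := by
      rw [pow_succ, pow_two, ← B.v_add, ← B.v_add, ← v_zero B]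
      exact congrArg B.v (by decide +kernel)
    rw [pow_succ (B.v zV) 3, ha3, one_mul] at h4
    exact h4.symm
  rw [e, hx] at hxi
  exact eq_inv_of_mul_eq_one_left hxi

theorem real_neg {n : G} {s : Sgn} (hn : Act B n (sact s)) (h : ∀ x, sact s x = -x) :
    ∃ d, d * d = 1 ∧ Act B d (fun x => -x) ∧ d * B.σ = B.σ * d ∧ d * B.β = B.β * d :=
  exists_neg B (act_congr B hn h)

theorem eight_of {d : G} (hdd : d * d = 1) (hd : Act B d fun x => -x) (hdσ : d * B.σ = B.σ * d)
    (hdβ : d * B.β = B.β * d) {n : G} (hn : Act B n (sact (1, 0, 0))) :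
    Nonempty (Eight B) := by
  obtain ⟨ε, hε, hεd⟩ := exists_lift B hd hdd hn (sact_neg _) (g := sact (1, 0, 0)) (sact_self _)
  let actR' : V3 → V3 := fun x => (x.2.1, x.2.2, x.1)
  have hbi : Act B B.β⁻¹ actR' := act_inv B (act_β B) fun _ => rfl
  obtain ⟨ε2, he2⟩ : ∃ t, t = B.β * ε * B.β⁻¹ := ⟨_, rfl⟩
  obtain ⟨ε3, he3⟩ : ∃ t, t = B.β⁻¹ * ε * B.β := ⟨_, rfl⟩
  have hdbi : Commute d B.β⁻¹ := (show Commute d B.β from hdβ).inv_right
  have hdε : Commute d ε := hεd.symm
  have h2 : Act B ε2 (sact (0, 1, 0)) := he2 ▸ act_congr B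
    (act_mul B (act_mul B (act_β B) hε) hbi) (by decide +kernel)
  have h3 : Act B ε3 (sact (0, 0, 1)) := he3 ▸ act_congr B
    (act_mul B (act_mul B hbi hε) (act_β B)) (by decide +kernel)
  have d2 : Commute d ε2 := he2 ▸ ((show Commute d B.β from hdβ).mul_right hdε).mul_right hdbi
  have d3 : Commute d ε3 := he3 ▸ (hdbi.mul_right hdε).mul_right hdβ
  have uniq : ∀ {m m' : G} {f g : V3 → V3}, Act B m f → Act B m' f → (∀ x, f (g x) = x) →
      (∀ x, g (f x) = x) → Commute d m → Commute d m' → m = m' :=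
    fun hm hm' hg hgf h h' => lift_unique B hd hm hm' hg hgf h.symm.eq h'.symm.eq
  have hsq : ε * ε = 1 := uniq (act_congr B (act_mul B hε hε) fun x => sact_self _ x)
    (act_one B) (g := id) (fun _ => rfl) (fun _ => rfl) (hdε.mul_right hdε) (Commute.one_right d)
  have hεσ : ε * B.σ = B.σ * ε := uniq (act_mul B hε (act_σ B))
    (act_congr B (act_mul B (act_σ B) hε) (by decide +kernel))
    (g := actS ∘ sact (1, 0, 0)) (by decide +kernel) (by decide +kernel)
    (hdε.mul_right hdσ) ((show Commute d B.σ from hdσ).mul_right hdε)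
  have hcomm : ε * ε2 = ε2 * ε := uniq (act_mul B hε h2)
    (act_congr B (act_mul B h2 hε) (by decide +kernel))
    (g := sact (1, 1, 0)) (by decide +kernel) (by decide +kernel) (hdε.mul_right d2)
    (d2.mul_right hdε)
  have hdelta : ε * ε2 * ε3 = d := uniq
    (act_congr B (act_mul B (act_mul B hε h2) h3) (g := fun x => -x) (by decide +kernel)) hd
    (g := fun x => -x) (fun x => neg_neg x) (fun x => neg_neg x)
    ((hdε.mul_right d2).mul_right d3) (Commute.refl d)
  refine ⟨{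
    ε := ε
    ε_sq := hsq
    conj_ε := fun x => (hε x).trans (congrArg B.v (by
      generalize x = y; revert y; decide +kernel))
    ε_σ := hεσ
    ε_comm := by rw [← he2]; exact hcomm
    q_inv := by
      rw [← he2, ← he3, hdelta]
      exact q_inv_of B hdd hd hdσ hdβ
    normalizer_mem := fun m hm => ?_ }⟩
  obtain ⟨k, hk⟩ := B.monomial m hm
  obtain ⟨w, hw⟩ : ∃ w, w = ε ^ k.1.1.val * ε2 ^ k.1.2.1.val * ε3 ^ k.1.2.2.val *
      B.β ^ k.2.1.val * B.σ ^ k.2.2.val := ⟨_, rfl⟩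
  have hw1 : Act B w (act8 k) := hw ▸ act_congr B
    (act_mul B (act_mul B (act_mul B (act_mul B (act_pow B hε _) (act_pow B h2 _))
      (act_pow B h3 _)) (act_pow B (act_β B) _)) (act_pow B (act_σ B) _))
    (fun x => code_eq k x)
  have hid : Act B (m * w⁻¹) id := fun x => by
    obtain ⟨x', rfl⟩ : ∃ x', act8 k x' = x := Finite.surjective_of_injective
      (fun p q h => B.v_inj (mul_left_cancel (mul_right_cancel
        (show w * B.v p * w⁻¹ = w * B.v q * w⁻¹ by rw [hw1, hw1, h])))) x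
    rw [← hw1, id, show m * w⁻¹ * (w * B.v x' * w⁻¹) * (m * w⁻¹)⁻¹ = m * B.v x' * m⁻¹ by group, hk]
  obtain ⟨y, hy⟩ := of_act_id B hid fun _ => rfl
  refine ⟨y, k.1.1, k.1.2.1, k.1.2.2, k.2.1, k.2.2, ?_⟩
  rw [← he2, ← he3, mul_inv_eq_iff_eq_mul.1 hy, hw]
  simp only [mul_assoc]

end Cases

open Cases in
/-- P1: the four possibilities. -/
theorem cases : StmtCases.{u} := by
  intro G _ _ B
  have hz : ∀ x, B.v zV * B.v x * (B.v zV)⁻¹ = B.v x := fun x => act_v B zV x
  by_cases h1 : Real B (1, 0, 0)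
  · obtain ⟨n, -, hn⟩ := h1
    have h2 := real_rot B ⟨n, act_mem B hn (g := sact (1, 0, 0)) (sact_self _), hn⟩
    have h3 := real_rot B h2
    obtain ⟨m, -, hm⟩ := real_add B (real_add B ⟨n, act_mem B hn (g := sact (1, 0, 0)) (sact_self _), hn⟩ h2) h3
    obtain ⟨d, hdd, hd, hdσ, hdβ⟩ := real_neg B hm (by decide +kernel)
    exact Or.inr (Or.inr (Or.inr (eight_of B hdd hd hdσ hdβ hn)))
  have hcl : ∀ {s : Sgn}, Real B s → Real B (s.2.2, s.1, s.2.1) := fun h => real_rot B h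
  have hnot : ∀ s, Real B s → s ≠ (1, 0, 0) ∧ s ≠ (0, 1, 0) ∧ s ≠ (0, 0, 1) := fun s hs =>
    ⟨fun e => h1 (e ▸ hs), fun e => h1 (hcl (hcl (e ▸ hs))), fun e => h1 (hcl (e ▸ hs))⟩
  have hfix : ∀ (s : Sgn) (l : Fin 3) (m : Fin 2),
      sact s (actR^[l.val] (actS^[m.val] zV)) = sact s zV := fix_z
  by_cases h7 : Real B (1, 1, 1)
  · obtain ⟨n, -, hn⟩ := h7
    obtain ⟨d, hdd, hd, hdσ, hdβ⟩ := real_neg B hn (by decide +kernel)
    refine Or.inr (Or.inl ⟨⟨d, hdd, hd, hdσ, hdβ⟩, fun w hw => ?_⟩)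
    obtain ⟨s, l, m, hs, hact⟩ := real_of B w hw
    have e : w * B.v zV * w⁻¹ = B.v (sact s zV) := by
      rw [← hfix s l m]; exact hact zV
    have h7' : Real B (1, 1, 1) := ⟨n, act_mem B hn (g := sact (1, 1, 1)) (sact_self _), hn⟩
    have hno := hnot s hs
    have hno' := hnot _ (real_add B h7' hs)
    rcases two_cases s with e' | e' | e'
    · rcases e' with e' | e' <;> rw [e'] at e
      · exact Or.inl e
      · exact Or.inr e
    · rcases e' with e' | e' | e'
      exacts [absurd e' hno.1, absurd e' hno.2.1, absurd e' hno.2.2]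
    · rcases e' with e' | e' | e'
      exacts [absurd e' hno'.1, absurd e' hno'.2.1, absurd e' hno'.2.2]
  by_cases h6 : ∃ s, Real B s ∧ s ≠ (0, 0, 0)
  · obtain ⟨s, hs, hne⟩ := h6
    have hs' : Real B (0, 1, 1) := by
      rcases four_cases s (hnot s hs) hne (fun e => h7 (e ▸ hs)) with e | e | e <;> rw [e] at hs
      · exact hs
      · exact hcl (hcl hs)
      · exact hcl hs
    obtain ⟨n, -, hn⟩ := hs'
    refine Or.inr (Or.inr (Or.inl ⟨four_lift B hn, fun w hw e => ?_⟩))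
    obtain ⟨t, l, m, ht, hact⟩ := real_of B w hw
    have e' : w * B.v zV * w⁻¹ = B.v (sact t zV) := by rw [← hfix t l m]; exact hact zV
    exact h7 (all_minus t (B.v_inj (e'.symm.trans e)) ▸ ht)
  · refine Or.inl fun w hw => ?_
    obtain ⟨t, l, m, ht, hact⟩ := real_of B w hw
    have ht0 : t = (0, 0, 0) := by_contra fun h => h6 ⟨t, ht, h⟩
    refine mul_inv_eq_iff_eq_mul.1 ?_
    have e' : w * B.v zV * w⁻¹ = B.v (sact t zV) := by rw [← hfix t l m]; exact hact zV
    rw [e', ht0]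
    rfl

end CfsgLib.SpSixThree
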