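import Cfsg.Agent.Lib.SpSixThree.CentSigmaLocal
import Cfsg.Agent.Lib.SNineThree.CentTauTools
import Cfsg.Agent.Lib.CharsMore.NineTI.Klein.Main
import Cfsg.Agent.Lib.Transfer.ThompsonTransfer
import Cfsg.Agent.Lib.OddOrder.PLengthOne
import Cfsg.Agent.S3347

/-!
The centralizer of `σ` lies in the image of the model (statement S3342): the normalizer of `W` by
the theorem on trivial intersection groups of order nine, a subgroup of index two by transfer, and
the three-length one theorem there.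
-/

set_option autoImplicit false
set_option maxRecDepth 100000
set_option linter.unusedSectionVars false
set_option linter.style.haveILetI false

namespace CfsgLib.SpSixThree

open Subgroup
open CfsgLib.PSpAmalgam (V3 zV eV fV)

universe u

namespace CentAux

open CfsgLib.SpSixThree.CentModel (wv Wm dw gw)

variable {G : Type u} [Group G] [Finite G] {B : Base G} {E : Eight B} {S : Six E} (X : Emb S)

/-- The centralizer of `σ`. -/
abbrev Y (B : Base G) : Subgroup G := centralizer ({B.σ} : Set G)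

theorem comm_of_Y {c : G} (hc : c ∈ Y B) : c * B.σ = B.σ * c := mem_centralizer_singleton_iff.1 hc

theorem N0_le_Y : N0 X ≤ Y B := fun _ h => (N0_le X h).2

theorem W_le_Y : W X ≤ Y B := ((W_le_A X).trans (A_le_N0 X)).trans (N0_le_Y X)

theorem A_le_Y : A X ≤ Y B := (A_le_N0 X).trans (N0_le_Y X)

theorem E2_le_Y : E2 B ≤ Y B := fun _ h => mem_centralizer_singleton_iff.2 (E2_comm_sig h)

theorem E2_isPGroup : IsPGroup 3 (E2 B) := IsPGroup.of_card (n := 2) (by rw [card_E2]; norm_num)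

theorem isPGroup_cube {c : G} (hc : c ^ 3 = 1) : IsPGroup 3 (zpowers c) := fun q => by
  obtain ⟨n, hn⟩ := mem_zpowers_iff.1 q.2
  refine ⟨1, Subtype.ext ?_⟩
  show (q : G) ^ (3 ^ 1) = 1
  rw [← hn, pow_one, ← zpow_natCast, ← zpow_mul, mul_comm, zpow_mul, zpow_natCast, hc, one_zpow]

theorem pow_eq_one_of_mem {w : G} (hw : w ∈ W X) {k : ℕ} (h : w ^ 3 ^ k = 1) : w = 1 :=
  SNineThree.CentTau.eq_one_of_pow_three_pow (n := 8) (by norm_num) (W_pow X hw) h

variable (L : Loc8 B)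

include X L in
/-- Squares of elements of `C(σ)` normalizing `E` lie in `E`. -/
theorem sq_mem {z : G} (hz : z ∈ Y B) (he : z * B.v eV * z⁻¹ ∈ E2 B)
    (hf : z * B.v fV * z⁻¹ ∈ E2 B) : z * z ∈ E2 B := by
  obtain ⟨d, hd, x, hx, s, rfl⟩ := normalizer_form X L (comm_of_Y hz) he hf
  have hdd := D4_sq X hd
  have hx' : d * x * d⁻¹ ∈ E2 B := (mem_set_normalizer_iff.1 (D4_norm_E2 X hd) x).1 hx
  have k1 : Commute d (B.σ ^ s.val) := Commute.pow_right (D4_comm_sig X hd) _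
  have k2 : Commute x (B.σ ^ s.val) := Commute.pow_right (E2_comm_sig hx) _
  have hs : B.σ ^ s.val * B.σ ^ s.val = 1 := by
    rw [← pow_add, ← two_mul, pow_mul, pow_two, B.σ_sq, one_pow]
  have e : d * (x * B.σ ^ s.val) * (d * (x * B.σ ^ s.val)) = d * x * d⁻¹ * x := by
    have hd' : d⁻¹ = d := inv_eq_of_mul_eq_one_left hdd
    calc d * (x * B.σ ^ s.val) * (d * (x * B.σ ^ s.val))
        = d * x * (B.σ ^ s.val * d) * x * B.σ ^ s.val := by group
      _ = d * x * d * ((B.σ ^ s.val * x) * B.σ ^ s.val) := by rw [← k1.eq]; group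
      _ = d * x * d * x * (B.σ ^ s.val * B.σ ^ s.val) := by rw [← k2.eq]; group
      _ = _ := by rw [hs, mul_one, hd']
  rw [e]; exact mul_mem hx' hx

include X L in
theorem three_normalizer {t : G} (ht : t ∈ Y B) (h3 : ∃ k, t ^ 3 ^ k = 1)
    (hn : t ∈ normalizer (E2 B : Set G)) : t ∈ E2 B := by
  have h2 := sq_mem X L ht ((mem_set_normalizer_iff.1 hn _).1 e_mem)
    ((mem_set_normalizer_iff.1 hn _).1 f_mem)
  obtain ⟨k, hk⟩ := h3
  obtain ⟨j, hj⟩ := Odd.pow (by decide : Odd 3) (n := k)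
  have e : (t * t) ^ (j + 1) = t := by
    rw [← pow_two, ← pow_mul, show 2 * (j + 1) = 3 ^ k + 1 by omega, pow_succ, hk, one_mul]
  rw [← e]; exact pow_mem h2 _

include L in
/-- A three-subgroup of `W E` is conjugate into `E` by an element of `W`. -/
theorem conj_back {T : Subgroup G} (hT : T ≤ A X) (hT3 : IsPGroup 3 T) :
    ∃ w ∈ W X, ∀ t ∈ T, w * t * w⁻¹ ∈ E2 B := by
  obtain ⟨g, hg, hgT⟩ := SNineThree.CentTau.sylow_conj (E2_le_A X) E2_isPGroup
    (fun t ht h3 hn => three_normalizer X L (A_le_Y X ht) h3 hn) hT hT3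
  obtain ⟨w, hw, x, hx, rfl⟩ := A_rep X hg
  refine ⟨x⁻¹ * w * x, ?_, fun t ht => ?_⟩
  · have := (mem_set_normalizer_iff''.1 (E2_norm_W X hx) w).1 hw
    exact this
  · have := mul_mem (mul_mem (inv_mem hx) (hgT t ht)) hx
    rwa [show x⁻¹ * (w * x * t * (w * x)⁻¹) * x = x⁻¹ * w * x * t * (x⁻¹ * w * x)⁻¹ by group] at this

theorem comm_W {w x : G} (hw : w ∈ W X) (hx : x ∈ E2 B) : w * x * w⁻¹ * x⁻¹ ∈ W X := by
  have h1 : x * w⁻¹ * x⁻¹ ∈ W X := (mem_set_normalizer_iff.1 (E2_norm_W X hx) _).1 (inv_mem hw)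
  have := mul_mem hw h1
  rwa [← mul_assoc, ← mul_assoc] at this

include L in
/-- An element of `C(σ)` fixing a nontrivial element of `E` modulo `W` lies in `N₀`. -/
theorem loc {c x : G} (hc : c ∈ Y B) (hx : x ∈ E2 B) (hx1 : x ≠ 1)
    (h : c * x * c⁻¹ * x⁻¹ ∈ W X) : c ∈ N0 X := by
  have hyA : c * x * c⁻¹ ∈ A X := by
    have := mul_mem (W_le_A X h) (E2_le_A X hx)
    rwa [inv_mul_cancel_right] at this
  have h3 : (c * x * c⁻¹) ^ 3 = 1 := by rw [conj_pow, E2_cube hx, mul_one, mul_inv_cancel]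
  obtain ⟨w, hw, hwT⟩ := conj_back X L (zpowers_le.2 hyA)
    (isPGroup_cube h3)
  have hy := hwT _ (mem_zpowers _)
  have hd : w * (c * x * c⁻¹) * w⁻¹ * x⁻¹ ∈ W X := by
    have h1 : x * w⁻¹ * x⁻¹ ∈ W X := (mem_set_normalizer_iff.1 (E2_norm_W X hx) _).1 (inv_mem hw)
    have := mul_mem (mul_mem hw h) h1
    rwa [show w * (c * x * c⁻¹ * x⁻¹) * (x * w⁻¹ * x⁻¹) = w * (c * x * c⁻¹) * w⁻¹ * x⁻¹ by
      group] at this
  have he : w * (c * x * c⁻¹) * w⁻¹ = x :=
    mul_inv_eq_one.1 (E2_inf_W X (mul_mem hy (inv_mem hx)) hd)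
  have hwc : w * c ∈ N0 X := centIn_E2 X L hx hx1 (comm_of_Y (mul_mem (W_le_Y X hw) hc))
    (mul_inv_eq_iff_eq_mul.1 (by
      calc w * c * x * (w * c)⁻¹ = w * (c * x * c⁻¹) * w⁻¹ := by group
        _ = x := he))
  have := mul_mem (inv_mem (A_le_N0 X (W_le_A X hw))) hwc
  rwa [inv_mul_cancel_left] at this

include L in
/-- An element normalizing `W E` is, up to `W`, one normalizing `E`. -/
theorem frattini {z : G} (he : z * B.v eV * z⁻¹ ∈ A X) (hf : z * B.v fV * z⁻¹ ∈ A X) :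
    ∃ w ∈ W X, w * z * B.v eV * (w * z)⁻¹ ∈ E2 B ∧ w * z * B.v fV * (w * z)⁻¹ ∈ E2 B := by
  obtain ⟨w, hw, hwT⟩ := conj_back X L (T := (E2 B).map (MulAut.conj z).toMonoidHom) (by
    rintro _ ⟨_, ⟨i, j, rfl⟩, rfl⟩
    rw [v_split, map_mul, map_pow, map_pow]
    exact mul_mem (pow_mem he _) (pow_mem hf _)) (E2_isPGroup.map _)
  refine ⟨w, hw, ?_, ?_⟩
  · have := hwT _ (mem_map_of_mem _ e_mem)
    rw [show w * z * B.v eV * (w * z)⁻¹ = w * (z * B.v eV * z⁻¹) * w⁻¹ by group]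
    exact this
  · have := hwT _ (mem_map_of_mem _ f_mem)
    rw [show w * z * B.v fV * (w * z)⁻¹ = w * (z * B.v fV * z⁻¹) * w⁻¹ by group]
    exact this

include L in
/-- An element centralizing `E` modulo `W` lies in `W E`. -/
theorem cent_mod {c : G} (hc : c ∈ Y B) (he : c * B.v eV * c⁻¹ * (B.v eV)⁻¹ ∈ W X)
    (hf : c * B.v fV * c⁻¹ * (B.v fV)⁻¹ ∈ W X) : c ∈ A X := by
  have hA : ∀ {x : G}, x ∈ E2 B → c * x * c⁻¹ * x⁻¹ ∈ W X → c * x * c⁻¹ ∈ A X := fun hx h => by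
    have := mul_mem (W_le_A X h) (E2_le_A X hx)
    rwa [inv_mul_cancel_right] at this
  obtain ⟨w, hw, he', hf'⟩ := frattini X L (hA e_mem he) (hA f_mem hf)
  have hfix : ∀ {x : G}, x ∈ E2 B → c * x * c⁻¹ * x⁻¹ ∈ W X → w * c * x * (w * c)⁻¹ ∈ E2 B →
      w * c * x = x * (w * c) := fun {x} hx h hy => by
    have h1 : x * w⁻¹ * x⁻¹ ∈ W X := (mem_set_normalizer_iff.1 (E2_norm_W X hx) _).1 (inv_mem hw)
    have hd := mul_mem (mul_mem hw h) h1
    rw [show w * (c * x * c⁻¹ * x⁻¹) * (x * w⁻¹ * x⁻¹) = w * c * x * (w * c)⁻¹ * x⁻¹ by group]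
      at hd
    exact mul_inv_eq_iff_eq_mul.1 (mul_inv_eq_one.1 (E2_inf_W X (mul_mem hy (inv_mem hx)) hd))
  obtain ⟨x, hx, s, hxs⟩ := cent_E2 X L (comm_of_Y (mul_mem (W_le_Y X hw) hc))
    (hfix e_mem he he') (hfix f_mem hf hf')
  have hm : w * c ∈ A X := hxs ▸ mul_mem (E2_le_A X hx) (pow_mem (W_le_A X (sig_W X)) _)
  have := mul_mem (inv_mem (W_le_A X hw)) hm
  rwa [inv_mul_cancel_left] at this

include X L in
theorem not_cyclic_E2 : ¬ IsCyclic (E2 B) := by
  intro hc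
  obtain ⟨q, hq⟩ := hc.exists_generator
  have h9 := orderOf_eq_card_of_forall_mem_zpowers hq
  rw [card_E2] at h9
  have h3 : q ^ 3 = 1 := Subtype.ext (E2_cube q.2)
  have := Nat.le_of_dvd (by norm_num) (orderOf_dvd_of_pow_eq_one h3)
  omega

include L in
/-- The normalizer of `W` in `C(σ)`. -/
theorem normalizer_W {z : G} (hzY : z ∈ Y B) (hzW : z ∈ normalizer (W X : Set G)) :
    z ∈ N0 X := by
  haveI : Fact (Nat.Prime 3) := ⟨Nat.prime_three⟩
  set Z := Y B ⊓ normalizer (W X : Set G) with hZ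
  have hWZ : W X ≤ Z := le_inf (W_le_Y X) le_normalizer
  have hEZ : E2 B ≤ Z := le_inf E2_le_Y (E2_norm_W X)
  set R := (W X).subgroupOf Z with hR
  haveI hRn : R.Normal := (normal_subgroupOf_iff_le_normalizer hWZ).2 inf_le_right
  set π := QuotientGroup.mk' R with hπ
  set M := ((E2 B).subgroupOf Z).map π with hM
  have hker : ∀ {a : Z}, π a = 1 ↔ (a : G) ∈ W X := fun {a} => QuotientGroup.eq_one_iff a
  have heq : ∀ {a b : Z}, π a = π b ↔ ((a : G)⁻¹ * b) ∈ W X := fun {a b} => QuotientGroup.eq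
  have hinM : ∀ {a : Z}, (a : G) ∈ A X → π a ∈ M := fun {a} ha => by
    obtain ⟨w, hw, x, hx, e⟩ := A_rep X ha
    refine ⟨⟨x, hEZ hx⟩, hx, heq.2 ?_⟩
    show x⁻¹ * (a : G) ∈ W X
    rw [e, ← mul_assoc]
    exact (mem_set_normalizer_iff''.1 (E2_norm_W X hx) w).1 hw
  have houtM : ∀ {a : Z}, π a ∈ M → (a : G) ∈ A X := fun {a} ⟨b, hb, e⟩ => by
    have : (b : G) * ((b : G)⁻¹ * a) ∈ A X := mul_mem (E2_le_A X hb) (W_le_A X (heq.1 e))
    rwa [mul_inv_cancel_left] at this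
  obtain ⟨P, hP⟩ := SNineThree.CentTau.sylow_exists hEZ E2_isPGroup
    (fun t ht h3 hn => three_normalizer X L ht.1 h3 hn)
  have H : CharsMore.NineTI.Nine (Z ⧸ R) M := by
    refine ⟨?_, ?_, le_antisymm (fun q hq => ?_) (fun q hq => ?_), fun q hq hq1 c hc => ?_,
      P.mapSurjective (QuotientGroup.mk'_surjective R), by rw [hM, ← hP]; rfl⟩
    · rw [← card_E2 B]
      refine (Nat.card_eq_of_bijective
        (fun x : E2 B => (⟨π ⟨x, hEZ x.2⟩, mem_map_of_mem π x.2⟩ : M)) ⟨fun x y h => ?_, ?_⟩).symm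
      · refine Subtype.ext (inv_mul_eq_one.1 (E2_inf_W X (mul_mem (inv_mem x.2) y.2) ?_))
        exact heq.1 (congrArg Subtype.val h)
      · rintro ⟨_, b, hb, rfl⟩
        exact ⟨⟨b, hb⟩, rfl⟩
    · rintro _ ⟨b, hb, rfl⟩
      rw [← map_pow, show b ^ 3 = 1 from Subtype.ext (E2_cube hb), map_one]
    · obtain ⟨c, rfl⟩ := QuotientGroup.mk'_surjective R q
      have key : ∀ {x : G} (hx : x ∈ E2 B), (c : G) * x * (c : G)⁻¹ * x⁻¹ ∈ W X := fun {x} hx => by
        have h := mem_centralizer_iff.1 hq (π ⟨x, hEZ hx⟩) (mem_map_of_mem π hx)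
        refine (hker (a := c * ⟨x, hEZ hx⟩ * c⁻¹ * (⟨x, hEZ hx⟩ : Z)⁻¹)).1 ?_
        rw [map_mul, map_mul, map_mul, map_inv, map_inv, ← h, mul_inv_cancel_right,
          mul_inv_cancel]
      exact hinM (cent_mod X L c.2.1 (key e_mem) (key f_mem))
    · obtain ⟨a, ha, rfl⟩ := hq
      refine mem_centralizer_iff.2 ?_
      rintro _ ⟨b, hb, rfl⟩
      rw [← map_mul, ← map_mul, show b * a = a * b from Subtype.ext (E2_comm hb ha)]
    · obtain ⟨x, hx, rfl⟩ := hq
      obtain ⟨c, rfl⟩ := QuotientGroup.mk'_surjective R c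
      have h := mem_centralizer_singleton_iff.1 hc
      have h' : (c : G) * x * (c : G)⁻¹ * (x : G)⁻¹ ∈ W X := (hker (a := c * x * c⁻¹ * x⁻¹)).1 (by
        rw [map_mul, map_mul, map_mul, map_inv, map_inv, h, mul_inv_cancel_right, mul_inv_cancel])
      have hc0 := loc X L c.2.1 hx (fun e => hq1 (by rw [show x = 1 from Subtype.ext e, map_one])) h'
      refine mem_normalizer_fintype ?_
      rintro _ ⟨b, hb, rfl⟩
      rw [← map_inv, ← map_mul, ← map_mul]
      exact hinM ((mem_set_normalizer_iff.1 (N0_norm_A X hc0) _).1 (E2_le_A X hb))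
  have hconj : ∀ c : Z, π c ∈ normalizer (M : Set (Z ⧸ R)) → ∀ {x : G}, x ∈ E2 B →
      (c : G) * x * (c : G)⁻¹ ∈ A X := fun c hcn {x} hx => by
    have h := (mem_set_normalizer_iff.1 hcn (π ⟨x, hEZ hx⟩)).1 (mem_map_of_mem π hx)
    rw [← map_inv, ← map_mul, ← map_mul] at h
    exact houtM (a := c * ⟨x, hEZ hx⟩ * c⁻¹) h
  have htop := CharsMore.NineTI.Klein.normalizer_eq_top _ (Z ⧸ R) M rfl H fun q hq => by
    obtain ⟨c, rfl⟩ := QuotientGroup.mk'_surjective R q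
    obtain ⟨w, hw, he, hf⟩ := frattini X L (hconj c hq e_mem) (hconj c hq f_mem)
    have hsq := sq_mem X L (mul_mem (W_le_Y X hw) c.2.1) he hf
    have h1 : π (⟨w, hWZ hw⟩ * c) = π c := by
      rw [map_mul, (hker (a := ⟨w, hWZ hw⟩)).2 hw, one_mul]
    rw [← h1, ← map_mul]
    exact hinM (E2_le_A X hsq)
  have hz : π ⟨z, hzY, hzW⟩ ∈ normalizer (M : Set (Z ⧸ R)) := htop ▸ mem_top _
  obtain ⟨w, hw, he, hf⟩ := frattini X L (hconj _ hz e_mem) (hconj _ hz f_mem)
  obtain ⟨d, hd, x, hx, s, e⟩ := normalizer_form X L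
    (comm_of_Y (mul_mem (W_le_Y X hw) hzY)) he hf
  have hm : w * z ∈ N0 X := e ▸ mul_mem (D4_le_N0 X hd)
    (mul_mem (A_le_N0 X (E2_le_A X hx)) (pow_mem (A_le_N0 X (W_le_A X (sig_W X))) _))
  have := mul_mem (inv_mem (A_le_N0 X (W_le_A X hw))) hm
  rwa [inv_mul_cancel_left] at this

/-! ### The transfer -/

theorem T_model {t : G} (ht : t ∈ T X) : ∃ x ∈ Wm, ∃ j : Fin 4, t = X.ι (x * wv (dw j)) := by
  obtain ⟨w, ⟨x, hx, rfl⟩, d, hd, rfl⟩ := T_rep X ht
  obtain ⟨j, rfl⟩ := D4_rep X hd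
  exact ⟨x, hx, j, (map_mul X.ι _ _).symm⟩

theorem T_isPGroup : IsPGroup 2 (T X) := fun t => by
  obtain ⟨x, hx, j, e⟩ := T_model X t.2
  exact ⟨3, Subtype.ext (by
    show (t : G) ^ 8 = 1
    rw [e, ← map_pow, CentModel.pow_eight hx j, map_one])⟩

theorem T_le_Y : T X ≤ Y B := (T_le_N0 X).trans (N0_le_Y X)

theorem two_ne {w : List ℕ}
    (h2 : CfsgLib.KnownB.Sp62.eq6 (CentModel.ev (w ++ w)) CfsgLib.KnownB.Sp62.one6 = true)
    (h1 : CfsgLib.KnownB.Sp62.eq6 (CentModel.ev w) CfsgLib.KnownB.Sp62.one6 = false) :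
    orderOf (wv w) = 2 := by
  refine orderOf_eq_prime ?_ fun e => ?_
  · rw [pow_two, ← CentModel.wv_append]
    exact CentModel.eq_of_code (w := []) h2
  · have e' := congrArg Subtype.val e
    rw [CentModel.wv_code, OneMemClass.coe_one, ← CfsgLib.KnownB.Sp62.dec6_one,
      ← CfsgLib.KnownB.Sp62.eq6_iff] at e'
    exact Bool.false_ne_true (h1.symm.trans e')

/-- The part of index two. -/
def Pd : Subgroup G := W X ⊔ zpowers E.δ

theorem Pd_le_T : Pd X ≤ T X := sup_le_sup_left (zpowers_le.2 (delta_mem X)) _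

theorem Pd_model {p : G} (hp : p ∈ Pd X) :
    ∃ x ∈ Wm, ∃ j : Fin 4, (j = 0 ∨ j = 2) ∧ p = X.ι (x * wv (dw j)) := by
  rw [Pd, ← SetLike.mem_coe, coe_mul_of_right_le_normalizer_left _ _
    ((zpowers_le.2 (delta_mem X)).trans (D4_norm_W X))] at hp
  obtain ⟨w, ⟨x, hx, rfl⟩, d, hd, rfl⟩ := Set.mem_mul.1 hp
  obtain ⟨n, rfl⟩ := mem_zpowers_iff.1 hd
  obtain ⟨d0, -, d2, -⟩ := dw_eq X
  have h2 : E.δ ^ 2 = 1 := by rw [pow_two]; exact RelsAux.delta_sq S
  rcases Int.even_or_odd' n with ⟨m, rfl | rfl⟩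
  · refine ⟨x, hx, 0, Or.inl rfl, ?_⟩
    rw [map_mul, d0, mul_one, zpow_mul, zpow_ofNat, h2, one_zpow, mul_one]
  · refine ⟨x, hx, 2, Or.inr rfl, ?_⟩
    rw [map_mul, d2, zpow_add, zpow_mul, zpow_ofNat, h2, one_zpow, one_mul, zpow_one]

/-- The fusion hypothesis. -/
abbrev Fusion : Prop :=
  ∀ x y : MSp, orderOf x = 2 → IsConj (X.ι x) (X.ι y) → IsConj x y

variable (hfus : Fusion X)

include hfus in
theorem not_conj_Pd {g : G} (hg : g ∈ Y B) :
    g * E.ε * g⁻¹ ∉ Pd X ∧ g * (E.ε * E.δ) * g⁻¹ ∉ Pd X := by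
  have hgs : g * B.σ * g⁻¹ = B.σ := conj_fix (comm_of_Y hg)
  constructor
  · intro h
    obtain ⟨x, hx, j, hj, e⟩ := Pd_model X h
    refine CentModel.not_low_eps hx j hj ?_ ?_
    · exact hfus _ _ (two_ne (by decide +kernel) (by decide +kernel))
        (isConj_iff.2 ⟨g, by rw [iota_eps]; exact e⟩)
    · refine hfus _ _ ?_ (isConj_iff.2 ⟨g, ?_⟩)
      · rw [← CentModel.wv_sig, ← CentModel.wv_append]
        exact two_ne (by decide +kernel) (by decide +kernel)
      · rw [map_mul, map_mul, iota_eps, X.ι_sig, ← e]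
        conv_rhs => arg 2; rw [← hgs]
        group
  · intro h
    obtain ⟨x, hx, j, hj, e⟩ := Pd_model X h
    have hed : X.ι (wv ([5] ++ CentModel.wd)) = E.ε * E.δ := by
      rw [CentModel.wv_append, map_mul, iota_eps, iota_delta]
    refine CentModel.not_low_eps_delta hx j hj ?_ ?_
    · exact hfus _ _ (two_ne (by decide +kernel) (by decide +kernel))
        (isConj_iff.2 ⟨g, by rw [hed]; exact e⟩)
    · refine hfus _ _ ?_ (isConj_iff.2 ⟨g, ?_⟩)
      · rw [← CentModel.wv_sig, ← CentModel.wv_append]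
        exact two_ne (by decide +kernel) (by decide +kernel)
      · rw [map_mul, map_mul, hed, X.ι_sig, ← e]
        conv_rhs => arg 2; rw [← hgs]
        group

include L hfus in
theorem T_sylow : ∃ P : Sylow 2 (Y B), (P : Subgroup (Y B)) = (T X).subgroupOf (Y B) := by
  haveI : Fact (Nat.Prime 2) := ⟨Nat.prime_two⟩
  obtain ⟨P, hP⟩ := (T_isPGroup X).comap_subtype (K := Y B) |>.exists_le_sylow
  refine ⟨P, le_antisymm ?_ hP⟩
  by_contra hne
  haveI := IsPGroup.isNilpotent P.2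
  set A' := ((T X).subgroupOf (Y B)).subgroupOf (P : Subgroup (Y B)) with hA
  have hlt : A' < ⊤ := lt_top_iff_ne_top.2 fun e => hne (subgroupOf_eq_top.1 e)
  obtain ⟨t, htN, htA⟩ := SetLike.exists_of_lt (Group.normalizerCondition_of_isNilpotent A' hlt)
  set n : G := ((t : Y B) : G) with hn
  have hnY : n ∈ Y B := (t : Y B).2
  have hnT : ∀ q ∈ T X, n * q * n⁻¹ ∈ T X := fun q hq =>
    (mem_set_normalizer_iff.1 htN ⟨⟨q, T_le_Y X hq⟩, hP hq⟩).1 hq
  have hnW : n ∈ normalizer (W X : Set G) := by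
    refine mem_normalizer_fintype ?_
    rintro _ ⟨x, hx, rfl⟩
    induction hx using Subgroup.closure_induction with
    | mem x hx =>
      obtain ⟨k, rfl⟩ := hx
      have hkW : X.ι (wv (gw k)) ∈ W X := mem_W X (subset_closure ⟨k, rfl⟩)
      obtain ⟨x, hx, j, e⟩ := T_model X (hnT _ (W_le_T X hkW))
      obtain ⟨p1, p2⟩ := CentModel.gw_pair k
      have ho : orderOf mSig = 2 := by
        rw [← CentModel.wv_sig]
        exact two_ne (by decide +kernel) (by decide +kernel)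
      have hj : j = 0 := by
        by_contra hj
        refine CentModel.not_pair hx j hj (hfus _ _ ho ?_) (hfus _ _ ho ?_)
        · exact (X.ι.map_isConj p1).trans (isConj_iff.2 ⟨n, e⟩)
        · refine (X.ι.map_isConj p2).trans (isConj_iff.2 ⟨n, ?_⟩)
          rw [map_mul X.ι (x * wv (dw j)) mSig, ← e, map_mul, X.ι_sig]
          conv_rhs => arg 2; rw [← conj_fix (comm_of_Y hnY)]
          group
      subst hj
      rw [show wv (dw 0) = 1 from rfl, mul_one] at e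
      rw [SetLike.mem_coe, e]
      exact mem_map_of_mem _ hx
    | one => simp [one_mem]
    | mul x y _ _ hx hy =>
      rw [map_mul, show n * (X.ι x * X.ι y) * n⁻¹ = n * X.ι x * n⁻¹ * (n * X.ι y * n⁻¹) by group]
      exact mul_mem hx hy
    | inv x _ hx =>
      rw [map_inv, show n * (X.ι x)⁻¹ * n⁻¹ = (n * X.ι x * n⁻¹)⁻¹ by group]
      exact inv_mem hx
  obtain ⟨a, ha, d, hd, e⟩ := N0_rep X (normalizer_W X L hnY hnW)
  obtain ⟨w, hw, x, hx, rfl⟩ := A_rep X ha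
  refine htA ?_
  show n ∈ T X
  suffices hx1 : x = 1 by
    rw [e, hx1, mul_one]
    exact mul_mem (W_le_T X hw) (le_sup_right (a := W X) hd)
  have hxP : (⟨x, E2_le_Y hx⟩ : Y B) ∈ (P : Subgroup (Y B)) := by
    have h1 : (⟨w, T_le_Y X (W_le_T X hw)⟩ : Y B) ∈ (P : Subgroup (Y B)) := hP (W_le_T X hw)
    have hdT : d ∈ T X := le_sup_right (a := W X) hd
    have h2 : (⟨d, T_le_Y X hdT⟩ : Y B) ∈ (P : Subgroup (Y B)) := hP hdT
    have h3 := mul_mem (mul_mem (inv_mem h1) t.2) (inv_mem h2)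
    convert h3 using 1
    refine Subtype.ext ?_
    show x = w⁻¹ * n * d⁻¹
    rw [e]; group
  obtain ⟨k, hk⟩ := P.2 ⟨_, hxP⟩
  have hk' : x ^ 2 ^ k = 1 :=
    congrArg (fun q : (P : Subgroup (Y B)) => ((q : Y B) : G)) hk
  exact orderOf_eq_one_iff.1 (Nat.eq_one_of_dvd_coprimes
    ((by norm_num : Nat.Coprime 2 3).pow_left k) (orderOf_dvd_of_pow_eq_one hk')
    (orderOf_dvd_of_pow_eq_one (E2_cube hx)))

include hfus in
theorem relIndex_Pd : ((Pd X).subgroupOf (Y B)).relIndex ((T X).subgroupOf (Y B)) = 2 := by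
  rw [relIndex_subgroupOf (T_le_Y X), relIndex, index_eq_two_iff]
  have heT : E.ε ∈ T X := le_sup_right (a := W X) (eps_mem X)
  have hne : E.ε ∉ Pd X := fun h => (not_conj_Pd X hfus (one_mem (Y B))).1 (by simpa using h)
  refine ⟨⟨E.ε, heT⟩, fun b => ?_⟩
  obtain ⟨w, hw, d, hd, e⟩ := T_rep X b.2
  obtain ⟨d0, d1, d2, d3⟩ := dw_eq X
  have hwP : w ∈ Pd X := le_sup_left (a := W X) hw
  have hdP : E.δ ∈ Pd X := le_sup_right (a := W X) (mem_zpowers _)
  simp only [mem_subgroupOf, coe_mul, e]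
  rw [xor_iff_not_iff]
  intro hiff
  have hcases : d ∈ Pd X ∨ d * E.ε ∈ Pd X := by
    obtain ⟨j, rfl⟩ := D4_rep X hd
    fin_cases j
    · left; show X.ι (wv (dw 0)) ∈ _; rw [d0]; exact one_mem _
    · right; show X.ι (wv (dw 1)) * _ ∈ _; rw [d1, E.ε_sq]; exact one_mem _
    · left; show X.ι (wv (dw 2)) ∈ _; rw [d2]; exact hdP
    · right; show X.ι (wv (dw 3)) * _ ∈ _
      rw [d3, eps_delta (S := S), mul_assoc, E.ε_sq, mul_one]; exact hdP
  have hb : w * d ∈ Pd X ∧ w * d * E.ε ∈ Pd X := by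
    rcases hcases with h | h
    · exact ⟨mul_mem hwP h, hiff.2 (mul_mem hwP h)⟩
    · have h' : w * d * E.ε ∈ Pd X := by rw [mul_assoc]; exact mul_mem hwP h
      exact ⟨hiff.1 h', h'⟩
  have := mul_mem (inv_mem hb.1) hb.2
  rw [inv_mul_cancel_left] at this
  exact hne this

include L hfus in
/-- A subgroup of index two. -/
theorem exists_sign : ∃ φ : Y B →* ℤˣ, (∀ h : E.ε ∈ Y B, φ ⟨E.ε, h⟩ = -1) ∧
    (∀ h : E.δ ∈ Y B, φ ⟨E.δ, h⟩ = 1) ∧ (∀ h : B.σ ∈ Y B, φ ⟨B.σ, h⟩ = 1) ∧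
    ∀ y : Y B, (y : G) ^ 3 = 1 → φ y = 1 := by
  classical
  obtain ⟨P, hP⟩ := T_sylow X L hfus
  let Q := (Pd X).subgroupOf (Y B)
  have hQP : Q ≤ (P : Subgroup (Y B)) := hP.ge.trans' (fun y hy => Pd_le_T X hy)
  have hQi : Q.relIndex (P : Subgroup (Y B)) = 2 := by rw [hP]; exact relIndex_Pd X hfus
  let _ : Fintype (Y B ⧸ Q) := Fintype.ofFinite _
  let φ : Y B →* ℤˣ := Equiv.Perm.sign.comp (MulAction.toPermHom (Y B) (Y B ⧸ Q))
  have hodd : ∀ u : Y B, u ^ 2 = 1 → (∀ g : Y B, g * u * g⁻¹ ∉ Q) → φ u = -1 := by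
    intro u hu2 hno
    refine Transfer.sign_eq_neg_one_of_fixedPointFree ?_ ?_
      (m := (P : Subgroup (Y B)).index) ?_ ?_
    · rw [← map_pow, hu2, map_one]
    · intro a
      induction a using Quotient.inductionOn' with | _ g =>
      intro h
      have h' : ((u * g : Y B) : Y B ⧸ Q) = (g : Y B ⧸ Q) := h
      rw [QuotientGroup.eq] at h'
      refine hno g⁻¹ ?_
      rw [inv_inv]
      have := inv_mem h'
      rwa [mul_inv_rev, inv_inv, ← mul_assoc] at this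
    · exact Nat.not_even_iff_odd.mp fun he => P.not_dvd_index (even_iff_two_dvd.mp he)
    · rw [← Nat.card_eq_fintype_card, ← index, ← relIndex_mul_index hQP, hQi]
  have heY : E.ε ∈ Y B := T_le_Y X (le_sup_right (a := W X) (eps_mem X))
  have hdY : E.δ ∈ Y B := T_le_Y X (le_sup_right (a := W X) (delta_mem X))
  have he : φ ⟨E.ε, heY⟩ = -1 := hodd _ (Subtype.ext (by rw [pow_two]; exact E.ε_sq))
    fun g h => (not_conj_Pd X hfus g.2).1 h
  have hed : φ (⟨E.ε, heY⟩ * ⟨E.δ, hdY⟩) = -1 := hodd _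
    (Subtype.ext (by
      rw [pow_two]
      exact D4_sq X (mul_mem (eps_mem X) (delta_mem X))))
    fun g h => (not_conj_Pd X hfus g.2).2 h
  refine ⟨φ, fun h => he, fun h => ?_, fun h => ?_, fun y hy => ?_⟩
  · rw [map_mul, he, neg_mul, one_mul, neg_inj] at hed
    exact hed
  · show Equiv.Perm.sign (MulAction.toPermHom (Y B) (Y B ⧸ Q) ⟨B.σ, h⟩) = 1
    have : MulAction.toPermHom (Y B) (Y B ⧸ Q) ⟨B.σ, h⟩ = 1 := by
      refine Equiv.ext fun a => ?_
      induction a using Quotient.inductionOn' with | _ g =>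
      show ((⟨B.σ, h⟩ * g : Y B) : Y B ⧸ Q) = (g : Y B ⧸ Q)
      rw [QuotientGroup.eq]
      show ((⟨B.σ, h⟩ * g : Y B)⁻¹ * g : Y B).1 ∈ Pd X
      have hs : B.σ ∈ Pd X := le_sup_left (a := W X) (sig_W X)
      have hgs := comm_of_Y g.2
      simp only [coe_mul, coe_inv, mul_inv_rev]
      rw [show (g : G)⁻¹ * B.σ⁻¹ * g = (g : G)⁻¹ * (B.σ⁻¹ * g) by group,
        show B.σ⁻¹ * (g : G) = g * B.σ⁻¹ from (Commute.inv_right hgs).eq.symm, inv_mul_cancel_left]
      exact inv_mem hs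
    rw [this, map_one]
  · have h3 : φ y ^ 3 = 1 := by
      rw [← map_pow, show y ^ 3 = 1 from Subtype.ext hy, map_one]
    rcases Int.units_eq_one_or (φ y) with h | h
    · exact h
    · rw [h] at h3; exact absurd h3 (by decide)

include L hfus in
/-- The centralizer of `σ` lies in the image. -/
theorem cent_sigma
    (hmove : ∀ (g x : G), x ∈ X.ι.range → orderOf x = 3 → g * x * g⁻¹ ∈ X.ι.range → g ∈ X.ι.range) :
    Y B ≤ X.ι.range := by
  haveI : Fact (Nat.Prime 3) := ⟨Nat.prime_three⟩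
  obtain ⟨φ, hφe, hφd, hφs, hφ3⟩ := exists_sign X L hfus
  have heY : E.ε ∈ Y B := T_le_Y X (le_sup_right (a := W X) (eps_mem X))
  have hdY : E.δ ∈ Y B := T_le_Y X (le_sup_right (a := W X) (delta_mem X))
  set K := φ.ker.map (Y B).subtype with hK
  have hmemK : ∀ {g : G}, g ∈ K ↔ ∃ h : g ∈ Y B, φ ⟨g, h⟩ = 1 := fun {g} => by
    constructor
    · rintro ⟨y, hy, rfl⟩
      exact ⟨y.2, hy⟩
    · rintro ⟨h, hg⟩
      exact ⟨⟨g, h⟩, hg, rfl⟩
  have hKY : K ≤ Y B := fun g hg => (hmemK.1 hg).1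
  have hEK : E2 B ≤ K := fun x hx => hmemK.2 ⟨E2_le_Y hx, hφ3 _ (E2_cube hx)⟩
  have hdK : E.δ ∈ K := hmemK.2 ⟨hdY, hφd _⟩
  have hsK : B.σ ∈ K := hmemK.2 ⟨W_le_Y X (sig_W X), hφs _⟩
  have heK : E.ε ∉ K := fun h => by
    obtain ⟨h1, h2⟩ := hmemK.1 h
    rw [hφe] at h2
    exact absurd h2 (by decide)
  have hinv : ∀ {x : G}, x ∈ E2 B → E.δ * x * E.δ⁻¹ = x⁻¹ := fun {x} hx => by
    obtain ⟨i, j, rfl⟩ := hx
    rw [conj_delta, RelsAux.v_neg]
  obtain ⟨P, hP⟩ := SNineThree.CentTau.sylow_exists hEK E2_isPGroup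
    (fun t ht h3 hn => three_normalizer X L (hKY ht) h3 hn)
  have hab : IsMulCommutative (P : Subgroup K) := ⟨⟨fun a b => by
    refine Subtype.ext (Subtype.ext ?_)
    have ha := a.2
    have hb := b.2
    simp only [hP, mem_subgroupOf] at ha hb
    exact E2_comm ha hb⟩⟩
  have hnc : ¬ IsCyclic (P : Subgroup K) := by
    rw [hP]
    intro hc
    exact not_cyclic_E2 X L (isCyclic_of_surjective _ (subgroupOfEquivOfLe hEK).surjective)
  have hidx : ((centralizer ((P : Subgroup K) : Set K)).subgroupOf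
      (normalizer ((P : Subgroup K) : Set K))).index = 2 := by
    rw [index_eq_two_iff]
    have hdN : (⟨E.δ, hdK⟩ : K) ∈ normalizer ((P : Subgroup K) : Set K) := by
      refine mem_normalizer_fintype fun q hq => ?_
      simp only [hP, SetLike.mem_coe, mem_subgroupOf, coe_mul, coe_inv] at hq ⊢
      rw [hinv hq]; exact inv_mem hq
    refine ⟨⟨_, hdN⟩, fun b => ?_⟩
    have hb : ∀ {x : G}, x ∈ E2 B → ((b : K) : G) * x * ((b : K) : G)⁻¹ ∈ E2 B := fun {x} hx => by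
      have := (mem_set_normalizer_iff.1 b.2 ⟨x, hEK hx⟩).1 (by simpa [hP, mem_subgroupOf] using hx)
      simpa [hP, mem_subgroupOf] using this
    obtain ⟨d, hd, x, hx, s, e⟩ := normalizer_form X L (comm_of_Y (hKY (b : K).2))
      (hb e_mem) (hb f_mem)
    have hxK : x * B.σ ^ s.val ∈ K := mul_mem (hEK hx) (pow_mem hsK _)
    have hdK' : d ∈ K := by
      have := mul_mem (b : K).2 (inv_mem hxK)
      rwa [e, mul_inv_cancel_right] at this
    have hd2 : d = 1 ∨ d = E.δ := by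
      obtain ⟨d0, d1, d2, d3⟩ := dw_eq X
      obtain ⟨j, rfl⟩ := D4_rep X hd
      fin_cases j
      · exact Or.inl d0
      · exact absurd (d1 ▸ hdK' : E.ε ∈ K) heK
      · exact Or.inr d2
      · refine absurd ?_ heK
        have : E.ε * E.δ ∈ K := d3 ▸ hdK'
        have := mul_mem this (inv_mem hdK)
        rwa [mul_inv_cancel_right] at this
    have hcent : ∀ {g : K}, g ∈ centralizer ((P : Subgroup K) : Set K) ↔
        ∀ {y : G}, y ∈ E2 B → y * (g : G) = (g : G) * y := by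
      intro g
      rw [mem_centralizer_iff]
      constructor
      · intro h y hy
        exact congrArg Subtype.val (h ⟨y, hEK hy⟩ (by simpa [hP, mem_subgroupOf] using hy))
      · intro h y hy
        exact Subtype.ext (h (by simpa [hP, mem_subgroupOf] using hy))
    have hc0 : ∀ {y : G}, y ∈ E2 B → Commute y (x * B.σ ^ s.val) := fun hy =>
      Commute.mul_right (E2_comm hy hx) (Commute.pow_right (E2_comm_sig hy) _)
    have hne : B.v eV ≠ (B.v eV)⁻¹ := by
      rw [← RelsAux.v_neg]; exact fun h => absurd (B.v_inj h) (by decide)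
    have hd0 : E.δ * E.δ = 1 := RelsAux.delta_sq S
    simp only [mem_subgroupOf, coe_mul, hcent, e]
    rcases hd2 with rfl | rfl
    · refine Or.inr ⟨fun {y} hy => by rw [one_mul]; exact hc0 hy, fun h => hne ?_⟩
      have h1 : Commute (B.v eV) (x * B.σ ^ s.val * E.δ) := by
        have := h e_mem; rwa [one_mul] at this
      have h2 := conj_fix ((((hc0 e_mem).inv_right).mul_right h1).eq.symm)
      rw [inv_mul_cancel_left] at h2
      exact h2.symm.trans (hinv e_mem)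
    · refine Or.inl ⟨fun {y} hy => ?_, fun h => hne ?_⟩
      · obtain ⟨hx', hs'⟩ : E.δ * x * E.δ⁻¹ ∈ E2 B ∧ E.δ * B.σ ^ s.val * E.δ⁻¹ = B.σ ^ s.val :=
          ⟨hinv hx ▸ inv_mem hx, conj_fix (Commute.pow_right (D4_comm_sig X (delta_mem X)) _).eq⟩
        have hdd : E.δ⁻¹ = E.δ := inv_eq_of_mul_eq_one_left hd0
        have e' : E.δ * (x * B.σ ^ s.val) * E.δ = E.δ * x * E.δ⁻¹ * (E.δ * B.σ ^ s.val * E.δ⁻¹) := by
          rw [hdd]; simp only [mul_assoc]; rw [← mul_assoc E.δ E.δ, hd0, one_mul]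
        rw [e', hs']
        exact (Commute.mul_right (E2_comm hy hx') (Commute.pow_right (E2_comm_sig hy) _)).eq
      · have h2 := conj_fix
          ((Commute.mul_right (show Commute (B.v eV) _ from h e_mem) (hc0 e_mem).inv_right).eq.symm)
        rw [mul_inv_cancel_right] at h2
        exact h2.symm.trans (hinv e_mem)
  rcases Cfsg.Agent.S3347.result 3 (by norm_num) P hab hnc hidx with hres | hlen
  · exfalso
    apply hres
    haveI := CfsgLib.Transfer.pResidual_normal (G := K) (p := 3)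
    set R := Cfsg.pResidual 3 K with hR
    have hdR : (⟨E.δ, hdK⟩ : K) ∈ R := subset_closure (by
      refine Nat.Coprime.coprime_dvd_left (orderOf_dvd_of_pow_eq_one (n := 2)
        (Subtype.ext ?_)) (by norm_num)
      show E.δ ^ 2 = 1
      rw [pow_two]; exact RelsAux.delta_sq S)
    have hPR : (P : Subgroup K) ≤ R := by
      intro q hq
      have hqE : (q : G) ∈ E2 B := by rw [hP] at hq; exact hq
      have h1 : (⟨E.δ, hdK⟩ : K) * (q * (⟨E.δ, hdK⟩ : K)⁻¹ * q⁻¹) ∈ R :=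
        mul_mem hdR ((‹R.Normal›).conj_mem _ (inv_mem hdR) q)
      have e : (⟨E.δ, hdK⟩ : K) * (q * (⟨E.δ, hdK⟩ : K)⁻¹ * q⁻¹) = (q * q)⁻¹ := by
        refine Subtype.ext ?_
        show E.δ * ((q : G) * E.δ⁻¹ * (q : G)⁻¹) = ((q : G) * q)⁻¹
        rw [← mul_assoc, ← mul_assoc, hinv hqE, mul_inv_rev]
      rw [e, inv_mem_iff] at h1
      have h3 : q * q * (q * q) = q := by
        refine Subtype.ext ?_
        show (q : G) * q * (q * q) = q
        calc (q : G) * q * (q * q) = (q : G) ^ 3 * q := by simp only [pow_succ, pow_zero, one_mul, mul_assoc]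
          _ = q := by rw [E2_cube hqE, one_mul]
      exact h3 ▸ mul_mem h1 h1
    have hco : ¬ 3 ∣ R.index := fun hd => P.not_dvd_index (hd.trans (index_dvd_of_le hPR))
    refine (eq_top_iff' R).2 fun g => ?_
    obtain ⟨m, hm⟩ := SNineThree.CentTau.three_pow_mem_residual g
    rw [← hR] at hm
    have hmi : g ^ R.index ∈ R := pow_index_mem R g
    rw [← QuotientGroup.eq_one_iff] at hm hmi ⊢
    rw [QuotientGroup.mk_pow] at hm hmi
    exact SNineThree.CentTau.eq_one_of_pow_three_pow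
      ((Nat.Prime.coprime_iff_not_dvd Nat.prime_three).2 hco).symm hmi hm
  set O := Cfsg.pPrimeCore 3 K with hO
  haveI : O.Normal := Cfsg.pPrimeCore_normal 3 K
  have hON : O.map K.subtype ≤ N0 X := by
    haveI : IsMulCommutative (E2 B) := ⟨⟨fun a b => Subtype.ext (E2_comm a.2 b.2)⟩⟩
    refine CfsgLib.Coprime.le_of_centralizer_le_of_not_isCyclic (A := E2 B) (not_cyclic_E2 X L)
      ?_ ?_ fun a ha ha1 => ?_
    · exact hEK.trans (Base.le_normalizer_map_pPrimeCore K)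
    · rw [card_E2, show 9 = 3 ^ 2 by norm_num, card_map_of_injective K.subtype_injective]
      exact (Base.pPrimeCore_coprime 3 K).symm.pow_left 2
    · rintro g ⟨hg, hga⟩
      exact centIn_E2 X L ha ha1 (comm_of_Y (hKY (map_subtype_le O hg)))
        (mem_centralizer_singleton_iff.1 hga)
  have hmap := OddOrder.map_le_pCore_quotient hlen P.2
  have hle : Cfsg.pCore 3 (K ⧸ O) ≤ (P : Subgroup K).map (QuotientGroup.mk' O) :=
    Base.pCore_le_sylow (P.mapSurjective (QuotientGroup.mk'_surjective O))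
  haveI : (Cfsg.pCore 3 (K ⧸ O)).Normal := Cfsg.pCore_normal 3 (K ⧸ O)
  have hKH : K ≤ X.ι.range := by
    intro g hg
    have hq : (⟨B.v eV, hEK e_mem⟩ : K) ∈ (P : Subgroup K) := by rw [hP]; exact e_mem
    obtain ⟨q, hq', hqe⟩ := hle ((‹(Cfsg.pCore 3 (K ⧸ O)).Normal›).conj_mem _
      (hmap (mem_map_of_mem _ hq)) (QuotientGroup.mk' O ⟨g, hg⟩))
    rw [← map_inv, ← map_mul, ← map_mul] at hqe
    have ho := QuotientGroup.eq.1 hqe
    have hqE : (q : G) ∈ E2 B := by rw [hP] at hq'; exact hq'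
    have hoN := hON (mem_map_of_mem K.subtype ho)
    have hge : g * B.v eV * g⁻¹ ∈ X.ι.range := by
      have := (N0_le X (mul_mem (A_le_N0 X (E2_le_A X hqE)) hoN)).1
      simpa [mul_assoc] using this
    refine hmove g (B.v eV) (StrongAux.v_mem X _) (orderOf_eq_prime (E2_cube e_mem) fun h => ?_) hge
    rw [← RelsAux.v_zero (B := B)] at h
    exact absurd (B.v_inj h) (by decide)
  intro y hy
  rcases Int.units_eq_one_or (φ ⟨y, hy⟩) with h | h
  · exact hKH (hmemK.2 ⟨hy, h⟩)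
  · have h1 : y * E.ε ∈ K := hmemK.2 ⟨mul_mem hy heY, by
      show φ (⟨y, hy⟩ * ⟨E.ε, heY⟩) = 1
      rw [map_mul, h, hφe]; decide⟩
    have := mul_mem (hKH h1) (StrongAux.eps_mem X)
    rwa [mul_assoc, E.ε_sq, mul_one] at this

end CentAux

/-- The centralizer of `σ`. -/
theorem centSigma : StmtCentSigma.{u} := by
  intro G _ _ B E S X L hmove hfus
  exact CentAux.cent_sigma X L hfus hmove

end CfsgLib.SpSixThree
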