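import Cfsg.Agent.Lib.SpSixThree.Defs

/-!
Data for the centralizer of `σ` in the model (statement S3342): generators of the radical `W`
as words in the named generators, the witnesses that they and their products with `σ` are
conjugate to `σ`, the elements of `W` as words in these generators, and the right regular
table.
-/

set_option autoImplicit false

namespace CfsgLib.SpSixThree.CentModel

/-- The generators of the radical. -/
def gW : List (List ℕ) := [[5,0,3,8,5,5,6,5,0,3,8,6,5,5,2,1,0,1,2],[5,6,5,0,3,8,6,5,5,5,0,3,8,5,2,1,0,1,2],[5,0,3,8,5,5,0,3,8,5,4,3,1,0,2,1,0,1,2,0,1,3,4],[5,0,3,8,5,6,5,0,3,8,6,5,5,5,0,3,8,5,0,1,3,4,2,1,0,1,2,4,3,1,0],[5,6,5,0,3,8,6,5,5,5,6,5,0,3,8,6,5,5,0,1,3,4,2,1,0,1,2,4,3,1,0],[5,0,3,8,5,5,0,3,8,5,5,5,6,5,0,3,8,6,5,5,0,1,3,4,2,1,0,1,2,4,3,1,0]]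

/-- Conjugators from `σ` to the generators. -/
def conjA : List (List ℕ) := [[1,8,2],[5,1,8,2],[7,3,8,2,0],[5,2,8,1],[6,2,8,1],[2,8,1]]

/-- Conjugators from `σ` to the products of the generators with `σ`. -/
def conjB : List (List ℕ) := [[8,1,2,7,2,1],[8,5,2,8,1],[2,7,1,2],[8,5,1,8,2],[8,7,2,7,1],[1,2,7,2,1]]

/-- The elements of the radical. -/
def wList : List (List ℕ) := [
  [],
  [0],
  [1],
  [2],
  [3],
  [4],
  [5],
  [0,1],
  [0,2],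
  [0,3],
  [0,4],
  [0,5],
  [1,2],
  [1,3],
  [1,4],
  [1,5],
  [2,0],
  [2,1],
  [2,3],
  [2,4],
  [2,5],
  [3,1],
  [3,2],
  [3,4],
  [3,5],
  [4,0],
  [4,1],
  [4,5],
  [5,0],
  [5,2],
  [0,1,2],
  [0,1,3],
  [0,1,4],
  [0,1,5],
  [0,2,0],
  [0,2,1],
  [0,2,3],
  [0,2,4],
  [0,2,5],
  [0,3,1],
  [0,3,2],
  [0,3,4],
  [0,3,5],
  [0,4,0],
  [0,4,1],
  [0,4,5],
  [0,5,0],
  [0,5,2],
  [1,2,3],
  [1,2,4],
  [1,2,5],
  [1,3,1],
  [1,3,2],
  [1,3,4],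
  [1,3,5],
  [1,4,5],
  [1,5,0],
  [1,5,2],
  [2,0,2],
  [2,0,4],
  [2,1,2],
  [2,1,4],
  [2,3,4],
  [2,3,5],
  [2,4,5],
  [3,1,4],
  [3,1,5],
  [3,2,4],
  [3,2,5],
  [3,4,0],
  [3,4,5],
  [3,5,0],
  [4,0,5],
  [4,1,5],
  [4,5,2],
  [0,1,2,3],
  [0,1,2,4],
  [0,1,2,5],
  [0,1,3,1],
  [0,1,3,2],
  [0,1,3,4],
  [0,1,3,5],
  [0,1,4,5],
  [0,1,5,0],
  [0,1,5,2],
  [0,2,0,2],
  [0,2,0,4],
  [0,2,1,2],
  [0,2,1,4],
  [0,2,3,4],
  [0,2,3,5],
  [0,2,4,5],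
  [0,3,1,4],
  [0,3,1,5],
  [0,3,2,4],
  [0,3,2,5],
  [0,3,4,0],
  [0,3,4,5],
  [0,3,5,0],
  [0,4,0,5],
  [0,4,1,5],
  [0,4,5,2],
  [1,2,3,4],
  [1,2,3,5],
  [1,2,4,5],
  [1,3,2,4],
  [1,3,2,5],
  [1,3,4,5],
  [1,4,5,2],
  [2,3,4,5],
  [3,1,4,5],
  [3,2,4,5],
  [3,4,0,5],
  [0,1,2,3,4],
  [0,1,2,3,5],
  [0,1,2,4,5],
  [0,1,3,2,4],
  [0,1,3,2,5],
  [0,1,3,4,5],
  [0,1,4,5,2],
  [0,2,3,4,5],
  [0,3,1,4,5],
  [0,3,2,4,5],
  [0,3,4,0,5],
  [1,2,3,4,5],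
  [1,3,2,4,5],
  [0,1,2,3,4,5],
  [0,1,3,2,4,5]]

/-- Right multiplication by the generators. -/
def wNext : List (List ℕ) := [
  [1,2,3,4,5,6],
  [0,7,8,9,10,11],
  [7,0,12,13,14,15],
  [16,17,0,18,19,20],
  [9,21,22,0,23,24],
  [25,26,19,23,0,27],
  [28,15,29,24,27,0],
  [2,1,30,31,32,33],
  [34,35,1,36,37,38],
  [4,39,40,1,41,42],
  [43,44,37,41,1,45],
  [46,33,47,42,45,1],
  [35,34,2,48,49,50],
  [31,51,52,2,53,54],
  [44,43,49,53,2,55],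
  [56,6,57,54,55,2],
  [3,30,58,40,59,47],
  [30,3,60,52,61,57],
  [40,48,51,3,62,63],
  [37,49,5,62,3,64],
  [38,57,46,63,64,3],
  [39,4,48,60,65,66],
  [36,52,4,34,67,68],
  [69,53,67,5,4,70],
  [71,66,63,6,70,4],
  [5,32,59,69,58,72],
  [32,5,61,65,60,73],
  [45,73,74,70,6,5],
  [6,56,38,71,72,58],
  [47,50,6,68,74,34],
  [17,16,7,75,76,77],
  [13,78,79,7,80,81],
  [26,25,76,80,7,82],
  [83,11,84,81,82,7],
  [8,12,85,22,86,29],
  [12,8,87,79,88,84],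
  [22,75,78,8,89,90],
  [19,76,10,89,8,91],
  [20,84,28,90,91,8],
  [21,9,75,87,92,93],
  [18,79,9,16,94,95],
  [96,80,94,10,9,97],
  [98,93,90,11,97,9],
  [10,14,86,96,85,99],
  [14,10,88,92,87,100],
  [27,100,101,97,11,10],
  [11,83,20,98,99,85],
  [29,77,11,95,101,16],
  [79,18,21,12,102,103],
  [76,19,14,102,12,104],
  [77,29,83,103,104,12],
  [78,13,18,85,96,98],
  [75,22,13,17,105,106],
  [92,23,105,14,13,107],
  [93,98,103,15,107,13],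
  [82,99,108,107,15,14],
  [15,28,77,93,100,87],
  [84,20,15,106,108,17],
  [85,87,16,78,25,28],
  [86,88,25,94,16,101],
  [87,85,17,21,26,83],
  [88,86,26,105,17,108],
  [89,105,96,19,18,109],
  [90,103,24,20,109,18],
  [101,104,99,109,20,19],
  [80,96,102,26,21,110],
  [81,24,106,83,110,21],
  [94,102,23,86,22,111],
  [95,106,98,29,111,22],
  [23,92,89,25,78,112],
  [97,107,109,27,24,23],
  [24,81,95,28,112,78],
  [99,82,91,112,28,25],
  [100,27,104,110,83,26],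
  [91,108,27,111,29,86],
  [52,36,39,30,113,114],
  [49,37,32,113,30,115],
  [50,47,56,114,115,30],
  [51,31,36,58,69,71],
  [48,40,31,35,116,117],
  [65,41,116,32,31,118],
  [66,71,114,33,118,31],
  [55,72,119,118,33,32],
  [33,46,50,66,73,60],
  [57,38,33,117,119,35],
  [58,60,34,51,43,46],
  [59,61,43,67,34,74],
  [60,58,35,39,44,56],
  [61,59,44,116,35,119],
  [62,116,69,37,36,120],
  [63,114,42,38,120,36],
  [74,115,72,120,38,37],
  [53,69,113,44,39,121],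
  [54,42,117,56,121,39],
  [67,113,41,59,40,122],
  [68,117,71,47,122,40],
  [41,65,62,43,51,123],
  [70,118,120,45,42,41],
  [42,54,68,46,123,51],
  [72,55,64,123,46,43],
  [73,45,115,121,56,44],
  [64,119,45,122,47,59],
  [113,67,65,49,48,124],
  [114,63,54,50,124,48],
  [119,64,73,124,50,49],
  [116,62,53,61,52,125],
  [117,68,66,57,125,52],
  [118,70,124,55,54,53],
  [115,74,55,125,57,61],
  [122,125,70,64,63,62],
  [121,123,125,73,66,65],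
  [120,124,123,74,68,67],
  [123,121,122,72,71,69],
  [102,94,92,76,75,126],
  [103,90,81,77,126,75],
  [108,91,100,126,77,76],
  [105,89,80,88,79,127],
  [106,95,93,84,127,79],
  [107,97,126,82,81,80],
  [104,101,82,127,84,88],
  [111,127,97,91,90,89],
  [110,112,127,100,93,92],
  [109,126,112,101,95,94],
  [112,110,111,99,98,96],
  [127,111,107,104,103,102],
  [126,109,110,108,106,105],
  [125,122,118,115,114,113],
  [124,120,121,119,117,116]]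

/-- The codes of the generators. -/
def gCols : List (List ℕ) := [[21,40,16,8,4,10],[21,41,16,28,4,11],[1,32,17,42,5,2],[55,40,24,8,12,10],[1,33,17,62,5,3],[55,41,25,62,13,11]]

/-- The codes of the elements of the radical. -/
def wCols : List (List ℕ) := [
  [1,2,4,8,16,32],
  [21,40,16,8,4,10],
  [21,41,16,28,4,11],
  [1,32,17,42,5,2],
  [55,40,24,8,12,10],
  [1,33,17,62,5,3],
  [55,41,25,62,13,11],
  [1,23,4,28,16,53],
  [21,10,17,42,5,40],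
  [35,2,12,8,24,32],
  [21,31,17,62,5,61],
  [35,23,25,62,13,53],
  [21,11,17,62,5,41],
  [35,23,24,28,12,53],
  [21,30,17,42,5,60],
  [35,2,13,42,25,32],
  [21,40,5,42,17,10],
  [21,41,5,62,17,11],
  [55,40,47,42,59,10],
  [1,3,4,28,16,33],
  [55,41,46,28,58,11],
  [35,53,12,28,24,23],
  [55,10,59,42,47,40],
  [55,61,59,62,47,31],
  [1,53,51,62,39,23],
  [21,61,5,62,17,31],
  [21,60,5,42,17,30],
  [55,60,58,8,46,30],
  [35,53,13,62,25,23],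
  [55,11,58,28,46,41],
  [1,53,17,62,5,23],
  [55,41,12,28,24,11],
  [1,52,17,42,5,22],
  [55,40,13,42,25,10],
  [1,2,5,42,17,32],
  [1,23,5,62,17,53],
  [35,2,47,42,59,32],
  [21,61,16,28,4,31],
  [35,23,58,28,46,53],
  [55,11,24,28,12,41],
  [35,32,59,42,47,2],
  [35,3,59,62,47,33],
  [21,11,51,62,39,41],
  [1,3,5,62,17,33],
  [1,22,5,42,17,52],
  [35,22,46,8,58,52],
  [55,11,13,62,25,41],
  [35,53,46,28,58,23],
  [35,23,59,62,47,53],
  [21,60,16,8,4,30],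
  [35,2,46,8,58,32],
  [55,10,12,8,24,40],
  [35,53,47,62,59,23],
  [35,22,47,42,59,52],
  [21,10,51,42,39,40],
  [35,3,58,28,46,33],
  [55,10,25,42,13,40],
  [35,32,58,8,46,2],
  [21,10,4,8,16,40],
  [21,31,4,28,16,61],
  [21,11,4,28,16,41],
  [21,30,4,8,16,60],
  [55,61,12,28,24,31],
  [1,23,38,28,50,53],
  [55,60,13,42,25,30],
  [35,52,59,42,47,22],
  [21,40,39,42,51,10],
  [55,31,24,28,12,61],
  [1,53,50,28,38,23],
  [35,33,47,62,59,3],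
  [1,22,38,8,50,52],
  [21,41,39,62,51,11],
  [35,52,58,8,46,22],
  [35,33,46,28,58,3],
  [55,30,25,42,13,60],
  [55,41,59,62,47,11],
  [1,22,4,8,16,52],
  [55,40,58,8,46,10],
  [35,32,24,8,12,2],
  [55,11,47,62,59,41],
  [55,60,47,42,59,30],
  [1,32,51,42,39,2],
  [55,61,46,28,58,31],
  [35,32,25,42,13,2],
  [55,10,46,8,58,40],
  [1,32,16,8,4,2],
  [1,33,16,28,4,3],
  [1,53,16,28,4,23],
  [1,52,16,8,4,22],
  [35,3,24,28,12,33],
  [21,41,50,28,38,11],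
  [35,22,13,42,25,52],
  [55,30,59,42,47,60],
  [1,2,39,42,51,32],
  [35,33,12,28,24,3],
  [21,11,38,28,50,41],
  [55,31,47,62,59,61],
  [21,60,50,8,38,30],
  [1,23,39,62,51,53],
  [55,30,46,8,58,60],
  [55,31,58,28,46,61],
  [35,52,25,42,13,22],
  [35,22,12,8,24,52],
  [21,40,50,8,38,10],
  [35,3,25,62,13,33],
  [35,52,24,8,12,22],
  [21,10,38,8,50,40],
  [21,61,50,28,38,31],
  [35,33,13,62,25,3],
  [1,52,51,42,39,22],
  [21,31,38,28,50,61],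
  [1,22,39,42,51,52],
  [21,30,38,8,50,60],
  [55,60,24,8,12,30],
  [1,2,38,8,50,32],
  [55,61,25,62,13,31],
  [55,30,12,8,24,60],
  [1,32,50,8,38,2],
  [1,3,38,28,50,33],
  [55,31,13,62,25,61],
  [21,30,51,42,39,60],
  [1,33,50,28,38,3],
  [21,60,39,42,51,30],
  [1,52,50,8,38,22],
  [21,31,51,62,39,61],
  [21,61,39,62,51,31],
  [1,33,51,62,39,3],
  [1,3,39,62,51,33]]

end CfsgLib.SpSixThree.CentModel
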