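import Cfsg.Agent.Lib.SpSixThree.Rels

/-!
# The image of the model controls elements of order three and the fusion of involutions
(statement S3342)
-/

set_option autoImplicit false
set_option maxRecDepth 100000

namespace CfsgLib.SpSixThree

open Subgroup
open CfsgLib.PSpAmalgam (V3 zV eV fV gV actR actS)

universe u

namespace StrongAux

open RelsAux

variable {G : Type u} [Group G] {B : Base G} {E : Eight B} {S : Six E} (X : Emb S)

theorem gen_mem (i : ℕ) (hi : i < 9) : gen S i ∈ X.ι.range := ⟨named i, X.ι_named i hi⟩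

theorem phi_mem (π : Equiv.Perm (Fin 6)) : S.φ π ∈ X.ι.range := by
  have h : π ∈ Submonoid.closure
      (Set.range fun i : Fin 5 => Equiv.swap i.castSucc i.succ) := by
    rw [Equiv.Perm.mclosure_swap_castSucc_succ]; trivial
  induction h using Submonoid.closure_induction with
  | mem x hx =>
    obtain ⟨i, rfl⟩ := hx
    have := gen_mem X i.val (by omega)
    fin_cases i <;> exact this
  | one => rw [map_one]; exact one_mem _
  | mul x y _ _ hx hy => rw [map_mul]; exact mul_mem hx hy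

theorem eps_mem : E.ε ∈ X.ι.range := gen_mem X 5 (by norm_num)

theorem sig_mem : B.σ ∈ X.ι.range := S.φ_σ ▸ phi_mem X _

theorem v_nsmul (n : ℕ) (x : V3) : B.v (n • x) = B.v x ^ n := by
  induction n with
  | zero => rw [zero_smul, pow_zero, v_zero]
  | succ n ih => rw [succ_nsmul, pow_succ, B.v_add, ih]

theorem v_mem (x : V3) : B.v x ∈ X.ι.range := by
  have he : B.v eV ∈ X.ι.range := by
    have h := wp_e S
    rw [wp_two] at h
    exact h ▸ mul_mem (gen_mem X 5 (by norm_num)) (gen_mem X 6 (by norm_num))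
  have h1 : B.v (0, 1, 0) ∈ X.ι.range := gen01 S ▸
    mul_mem (gen_mem X 0 (by norm_num)) (gen_mem X 1 (by norm_num))
  have h2 : B.v (0, 0, 1) ∈ X.ι.range := gen34 S ▸
    mul_mem (gen_mem X 3 (by norm_num)) (gen_mem X 4 (by norm_num))
  have e : ∀ y : V3, y = y.1.val • eV + y.2.1.val • ((0, 1, 0) : V3) +
      y.2.2.val • ((0, 0, 1) : V3) := by decide +kernel
  rw [e x, B.v_add, B.v_add, v_nsmul, v_nsmul, v_nsmul]
  exact mul_mem (mul_mem (pow_mem he _) (pow_mem h1 _)) (pow_mem h2 _)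

theorem beta_mem : B.β ∈ X.ι.range := by
  have h : B.β = gen S 7 * B.σ := by rw [gen_eq7, mul_assoc, B.σ_sq, mul_one]
  rw [h]; exact mul_mem (gen_mem X 7 (by norm_num)) (sig_mem X)

theorem eps2_mem : E.ε2 ∈ X.ι.range := S.φ_ε2 ▸ phi_mem X _

theorem eps3_mem : E.ε3 ∈ X.ι.range := S.φ_ε3 ▸ phi_mem X _

theorem q_mem : B.q ∈ X.ι.range := by
  have h := wp_q S
  simp only [wp, List.map_cons, List.map_nil, List.prod_cons, List.prod_nil, mul_one] at h
  exact h ▸ mul_mem (gen_mem X 5 (by norm_num)) (mul_mem (gen_mem X 0 (by norm_num))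
    (mul_mem (gen_mem X 3 (by norm_num)) (gen_mem X 8 (by norm_num))))

include X in
theorem normalizer_le : normalizer (B.J : Set G) ≤ X.ι.range := by
  intro n hn
  obtain ⟨x, i, j, l, r, s, rfl⟩ := E.normalizer_mem n hn
  exact mul_mem (mul_mem (mul_mem (mul_mem (mul_mem (v_mem X x) (pow_mem (eps_mem X) _))
    (pow_mem (eps2_mem X) _)) (pow_mem (eps3_mem X) _)) (pow_mem (beta_mem X) _))
    (pow_mem (sig_mem X) _)

/-- The centralizer of the element with the given coordinates lies in the image. -/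
def CentIn (y : V3) : Prop := centralizer ({B.v y} : Set G) ≤ X.ι.range

theorem centIn_step {n : G} (hn : n ∈ X.ι.range) {f : V3 → V3}
    (hf : ∀ x, n * B.v x * n⁻¹ = B.v (f x)) (y : V3) (h : CentIn X (f y)) : CentIn X y := by
  intro c hc
  rw [mem_centralizer_singleton_iff] at hc
  have h1 : n * c * n⁻¹ ∈ X.ι.range := h (by
    rw [mem_centralizer_singleton_iff, ← hf]
    calc n * c * n⁻¹ * (n * B.v y * n⁻¹) = n * (c * B.v y) * n⁻¹ := by group
      _ = n * (B.v y * c) * n⁻¹ := by rw [hc]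
      _ = n * B.v y * n⁻¹ * (n * c * n⁻¹) := by group)
  have := mul_mem (mul_mem (inv_mem hn) h1) hn
  simpa [mul_assoc] using this

theorem centIn_iter {n : G} (hn : n ∈ X.ι.range) {f : V3 → V3}
    (hf : ∀ x, n * B.v x * n⁻¹ = B.v (f x)) (k : ℕ) (y : V3) (h : CentIn X (f^[k] y)) :
    CentIn X y := by
  induction k generalizing y with
  | zero => exact h
  | succ k ih => exact centIn_step X hn hf y (ih (f y) h)

theorem conj_eps2 (x : V3) : E.ε2 * B.v x * E.ε2⁻¹ = B.v (x.1, -x.2.1, x.2.2) := by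
  obtain ⟨y, rfl⟩ : ∃ y, actR y = x := ⟨(x.2.1, x.2.2, x.1), rfl⟩
  have e : B.v ((actR y).1, -(actR y).2.1, (actR y).2.2) =
      B.β * (E.ε * B.v y * E.ε⁻¹) * B.β⁻¹ := by rw [E.conj_ε, B.conj_β]; rfl
  rw [e, ← B.conj_β y, Eight.ε2]; group

theorem conj_eps3 (x : V3) : E.ε3 * B.v x * E.ε3⁻¹ = B.v (x.1, x.2.1, -x.2.2) := by
  have e : B.v x = B.β⁻¹ * B.v (actR x) * B.β := by rw [← B.conj_β]; group
  have e' : B.v (x.1, x.2.1, -x.2.2) = B.β⁻¹ * B.v (actR (x.1, x.2.1, -x.2.2)) * B.β := by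
    rw [← B.conj_β]; group
  rw [e, e', show actR (x.1, x.2.1, -x.2.2) = (-(actR x).1, (actR x).2.1, (actR x).2.2) from rfl,
    ← E.conj_ε, Eight.ε3]; group

/-- Change of the first sign. -/
def nA (x : V3) : V3 := (-x.1, x.2.1, x.2.2)
/-- Change of the second sign. -/
def nB (x : V3) : V3 := (x.1, -x.2.1, x.2.2)
/-- Change of the third sign. -/
def nC (x : V3) : V3 := (x.1, x.2.1, -x.2.2)

theorem centIn_all (L : Loc8 B) (y : V3) (hy : y ≠ 0) : CentIn X y := by
  have hz : CentIn X zV := fun c hc => by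
    refine (closure_le _).2 ?_ (B.cent_z_gen c (mem_centralizer_singleton_iff.1 hc))
    intro x hx
    simp only [Set.mem_insert_iff, Set.mem_singleton_iff] at hx
    rcases hx with rfl | rfl | rfl | rfl | rfl
    · exact v_mem X _
    · exact v_mem X _
    · exact beta_mem X
    · exact q_mem X
    · exact v_mem X _
  have he : CentIn X eV := fun c hc => by
    obtain ⟨i, π, rfl⟩ := S.φ_cov c (mem_centralizer_singleton_iff.1 hc)
    exact mul_mem (pow_mem (v_mem X _) _) (phi_mem X π)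
  have hf : CentIn X fV := L.cent_f.trans (normalizer_le X)
  have key : ∀ y : V3, y ≠ 0 → ∃ (i j l : Fin 2) (r : Fin 3),
      let z := nA^[i.val] (nB^[j.val] (nC^[l.val] (actR^[r.val] y)))
      z = zV ∨ z = eV ∨ z = fV := by decide +kernel
  obtain ⟨i, j, l, r, h⟩ := key y hy
  refine centIn_iter X (beta_mem X) B.conj_β r.val y ?_
  refine centIn_iter X (eps3_mem X) conj_eps3 l.val _ ?_
  refine centIn_iter X (eps2_mem X) conj_eps2 j.val _ ?_
  refine centIn_iter X (eps_mem X) E.conj_ε i.val _ ?_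
  change CentIn X (nA^[i.val] (nB^[j.val] (nC^[l.val] (actR^[r.val] y))))
  rcases h with h | h | h <;> rw [h] <;> assumption

theorem beta_pow_v (k : ℕ) (y : V3) : B.β ^ k * B.v y = B.v (actR^[k] y) * B.β ^ k := by
  induction k generalizing y with
  | zero => simp
  | succ k ih =>
    rw [Function.iterate_succ_apply', pow_succ', mul_assoc, ih, ← mul_assoc, ← B.conj_β]
    group

/-- The Sylow subgroup `J⟨β⟩`. -/
def sylS (B : Base G) : Subgroup G where
  carrier := {g | ∃ (x : V3) (k : Fin 3), g = B.v x * B.β ^ k.val}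
  one_mem' := ⟨0, 0, by simp [v_zero (B := B)]⟩
  mul_mem' := by
    rintro _ _ ⟨x, k, rfl⟩ ⟨y, l, rfl⟩
    refine ⟨x + actR^[k.val] y, k + l, ?_⟩
    have h3 : B.β ^ 3 = 1 := by rw [pow_succ, pow_two]; exact B.β_cube
    rw [B.v_add, Fin.val_add, ← pow_eq_pow_mod _ h3, pow_add]
    calc B.v x * B.β ^ k.val * (B.v y * B.β ^ l.val)
        = B.v x * (B.β ^ k.val * B.v y) * B.β ^ l.val := by group
      _ = _ := by rw [beta_pow_v]; group
  inv_mem' := by
    rintro _ ⟨x, k, rfl⟩
    refine ⟨actR^[(-k : Fin 3).val] (-x), -k, ?_⟩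
    have h3 : B.β ^ 3 = 1 := by rw [pow_succ, pow_two]; exact B.β_cube
    rw [← beta_pow_v, mul_inv_rev, v_neg]
    congr 1
    refine inv_eq_of_mul_eq_one_left ?_
    rw [← pow_add, pow_eq_pow_mod _ h3, ← Fin.val_add, neg_add_cancel]
    simp

theorem beta_not_J (B : Base G) : B.β ∉ B.J := fun h => by
  obtain ⟨x, hx⟩ := (B.mem_J _).1 h
  have := B.conj_β eV
  rw [← hx, ← B.v_add, add_comm, B.v_add, mul_inv_cancel_right] at this
  exact absurd (B.v_inj this) (by decide)

theorem card_sylS (B : Base G) : Nat.card (sylS B) = 81 := by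
  let f : V3 × Fin 3 → sylS B := fun p => ⟨B.v p.1 * B.β ^ p.2.val, p.1, p.2, rfl⟩
  have hf : Function.Bijective f := by
    constructor
    · rintro ⟨x, k⟩ ⟨y, l⟩ h
      have h : B.v x * B.β ^ k.val = B.v y * B.β ^ l.val := congrArg Subtype.val h
      have hkl : k = l := by
        by_contra hne
        have h3 : B.β ^ 3 = 1 := by rw [pow_succ, pow_two]; exact B.β_cube
        have hm : B.β ^ (k - l : Fin 3).val ∈ B.J := by
          rw [B.mem_J]
          refine ⟨-x + y, ?_⟩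
          have e : B.β ^ k.val = B.β ^ (k - l : Fin 3).val * B.β ^ l.val := by
            rw [← pow_add, pow_eq_pow_mod _ h3, pow_eq_pow_mod ((k - l).val + l.val) h3,
              ← Fin.val_add, sub_add_cancel, Nat.mod_eq_of_lt k.isLt]
          rw [e, ← mul_assoc] at h
          rw [B.v_add, v_neg, ← mul_right_cancel h, inv_mul_cancel_left]
        have hz : k - l ≠ 0 := sub_ne_zero.2 hne
        have : B.β ∈ B.J := by
          have hd : ∀ d : Fin 3, d ≠ 0 → d = 1 ∨ d = 2 := by decide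
          rcases hd _ hz with h1 | h1 <;> rw [h1] at hm
          · simpa using hm
          · have := mul_mem hm hm
            rw [← pow_add, pow_eq_pow_mod _ h3] at this
            simpa using this
        exact beta_not_J B this
      subst hkl
      exact Prod.ext (B.v_inj (mul_right_cancel h)) rfl
    · rintro ⟨g, x, k, rfl⟩
      exact ⟨(x, k), rfl⟩
  rw [← Nat.card_congr (Equiv.ofBijective f hf), Nat.card_eq_fintype_card]
  rfl

theorem sylS_le : sylS B ≤ X.ι.range := by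
  rintro _ ⟨x, k, rfl⟩
  exact mul_mem (v_mem X x) (pow_mem (beta_mem X) _)

theorem conj_pow_e (m : ℕ) (x : V3) (k : Fin 3) :
    B.v eV ^ m * (B.v x * B.β ^ k.val) * (B.v eV ^ m)⁻¹ =
      B.v (x + m • (eV - actR^[k.val] eV)) * B.β ^ k.val := by
  have hk : B.β ^ k.val * B.v (-(m • eV)) = B.v (actR^[k.val] (-(m • eV))) * B.β ^ k.val :=
    beta_pow_v _ _
  have e : actR^[k.val] (-(m • eV)) = -(m • actR^[k.val] eV) := by
    fin_cases k <;> rfl
  rw [← v_nsmul, ← v_neg]
  calc B.v (m • eV) * (B.v x * B.β ^ k.val) * B.v (-(m • eV))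
      = B.v (m • eV) * B.v x * (B.β ^ k.val * B.v (-(m • eV))) := by group
    _ = _ := by
      rw [hk, e, ← mul_assoc, ← B.v_add, ← B.v_add]
      congr 2
      rw [smul_sub]; abel

/-- An element of order three of `J⟨β⟩` is conjugate within the image into `J`. -/
theorem sylS_three (g : G) (hg : g ∈ sylS B) (h3 : g * g * g = 1) :
    ∃ h ∈ X.ι.range, ∃ y, h * g * h⁻¹ = B.v y := by
  obtain ⟨x, k, rfl⟩ := hg
  by_cases hk : k = 0
  · subst hk
    exact ⟨1, one_mem _, x, by simp⟩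
  have hs : vsum x = 0 := by
    have e : B.v x * B.β ^ k.val * (B.v x * B.β ^ k.val) * (B.v x * B.β ^ k.val) =
        B.v (x + actR^[k.val] x + actR^[k.val] (actR^[k.val] x)) *
          (B.β ^ k.val * B.β ^ k.val * B.β ^ k.val) := by
      rw [B.v_add, B.v_add]
      calc B.v x * B.β ^ k.val * (B.v x * B.β ^ k.val) * (B.v x * B.β ^ k.val)
          = B.v x * (B.β ^ k.val * B.v x) * (B.β ^ k.val * B.v x) * B.β ^ k.val := by group
        _ = B.v x * B.v (actR^[k.val] x) * (B.β ^ k.val * B.v (actR^[k.val] x)) *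
              (B.β ^ k.val * B.β ^ k.val) := by rw [beta_pow_v]; group
        _ = _ := by rw [beta_pow_v]; group
    have hb : B.β ^ k.val * B.β ^ k.val * B.β ^ k.val = 1 := by
      rw [← pow_add, ← pow_add, show k.val + k.val + k.val = 3 * k.val by ring, pow_mul,
        show B.β ^ 3 = 1 by rw [pow_succ, pow_two]; exact B.β_cube, one_pow]
    rw [e, hb, mul_one] at h3
    have := B.v_inj (h3.trans (v_zero (B := B)).symm)
    have key : ∀ (x : V3) (k : Fin 3), k ≠ 0 →
        x + actR^[k.val] x + actR^[k.val] (actR^[k.val] x) = 0 → vsum x = 0 := by decide +kernel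
    exact key x k hk this
  have key2 : ∀ (x : V3) (k : Fin 3), k ≠ 0 → vsum x = 0 →
      ∃ m i : Fin 3, x + m.val • (eV - actR^[k.val] eV) = i.val • zV := by decide +kernel
  obtain ⟨m, i, hmi⟩ := key2 x k hk hs
  refine ⟨B.q * B.v eV ^ m.val, mul_mem (q_mem X) (pow_mem (v_mem X _) _),
    i.val • zV + k.val • (-gV), ?_⟩
  have e : B.q * B.v eV ^ m.val * (B.v x * B.β ^ k.val) * (B.q * B.v eV ^ m.val)⁻¹ =
      B.q * (B.v eV ^ m.val * (B.v x * B.β ^ k.val) * (B.v eV ^ m.val)⁻¹) * B.q⁻¹ := by group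
  have hqz : B.q * B.v zV ^ i.val * B.q⁻¹ = B.v zV ^ i.val := by
    rw [← conj_pow, B.q_a, mul_inv_cancel_right]
  rw [e, conj_pow_e, hmi, B.v_add, v_nsmul, v_nsmul]
  calc B.q * (B.v zV ^ i.val * B.β ^ k.val) * B.q⁻¹
      = (B.q * B.v zV ^ i.val * B.q⁻¹) * (B.q * B.β ^ k.val * B.q⁻¹) := by group
    _ = _ := by rw [hqz, ← conj_pow, B.q_β, ← v_neg]

variable [Finite G]

include X in
theorem three_conj (x : G) (hx : x ∈ X.ι.range) (ho : orderOf x = 3) :
    ∃ h ∈ X.ι.range, ∃ y, y ≠ 0 ∧ h * x * h⁻¹ = B.v y := by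
  haveI : Fact (Nat.Prime 3) := ⟨Nat.prime_three⟩
  let H := X.ι.range
  have hS : IsPGroup 3 ((sylS B).subgroupOf H) := by
    refine IsPGroup.of_card (n := 4) ?_
    rw [Nat.card_congr (subgroupOfEquivOfLe (sylS_le X)).toEquiv, card_sylS]
    norm_num
  obtain ⟨P, hP⟩ := hS.exists_le_sylow
  have hPS : (P : Subgroup H) = (sylS B).subgroupOf H := by
    refine (eq_of_le_of_card_ge hP ?_).symm
    rw [Nat.card_congr (subgroupOfEquivOfLe (sylS_le X)).toEquiv, card_sylS]
    obtain ⟨n, hn⟩ := IsPGroup.iff_card.1 P.2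
    have hd : Nat.card (P : Subgroup H) ∣ Nat.card G :=
      (card_subgroup_dvd_card _).trans (card_subgroup_dvd_card _)
    rw [hn] at hd ⊢
    by_contra hc
    push Not at hc
    have : 4 < n := by
      by_contra hn4
      push Not at hn4
      have := Nat.pow_le_pow_right (show 0 < 3 by norm_num) hn4
      norm_num at this; omega
    exact B.sylow ((pow_dvd_pow 3 (show 5 ≤ n by omega)).trans hd)
  let x' : H := ⟨x, hx⟩
  have hox : orderOf x' = 3 := by rw [← ho]; exact (orderOf_coe x').symm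
  have hQ0 : IsPGroup 3 (zpowers x') := IsPGroup.of_card (n := 1) (by
    rw [Nat.card_zpowers, hox, pow_one])
  obtain ⟨Q, hQ⟩ := hQ0.exists_le_sylow
  obtain ⟨h, hh⟩ := MulAction.exists_smul_eq H Q P
  have hmem : h * x' * h⁻¹ ∈ (P : Subgroup H) := by
    rw [← hh, Sylow.coe_subgroup_smul]
    have := Subgroup.smul_mem_pointwise_smul x' (MulAut.conj h) (Q : Subgroup H)
      (hQ (mem_zpowers x'))
    simpa [MulAut.smul_def] using this
  rw [hPS, mem_subgroupOf] at hmem
  have hmem' : (h : G) * x * (h : G)⁻¹ ∈ sylS B := hmem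
  have hx3 : x * x * x = 1 := by
    have h := pow_orderOf_eq_one x
    rw [ho, pow_succ, pow_two] at h
    exact h
  have h3 : (h : G) * x * (h : G)⁻¹ * ((h : G) * x * (h : G)⁻¹) *
      ((h : G) * x * (h : G)⁻¹) = 1 := by
    calc _ = (h : G) * (x * x * x) * (h : G)⁻¹ := by group
      _ = 1 := by rw [hx3, mul_one, mul_inv_cancel]
  obtain ⟨k, hk, y, hy⟩ := sylS_three X _ hmem' h3
  refine ⟨k * h, mul_mem hk h.2, y, ?_, ?_⟩
  · rintro rfl
    rw [v_zero, ← mul_inv_eq_one] at hy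
    have : x = 1 := by simpa using hy
    rw [this, orderOf_one] at ho; norm_num at ho
  · rw [← hy]; group

include X in
theorem cent_three (L : Loc8 B) (x : G) (hx : x ∈ X.ι.range) (ho : orderOf x = 3) :
    centralizer ({x} : Set G) ≤ X.ι.range := by
  obtain ⟨h, hh, y, hy0, hy⟩ := three_conj X x hx ho
  intro c hc
  rw [mem_centralizer_singleton_iff] at hc
  have h1 : h * c * h⁻¹ ∈ X.ι.range := centIn_all X L y hy0 (by
    rw [mem_centralizer_singleton_iff, ← hy]
    calc h * c * h⁻¹ * (h * x * h⁻¹) = h * (c * x) * h⁻¹ := by group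
      _ = h * (x * c) * h⁻¹ := by rw [hc]
      _ = h * x * h⁻¹ * (h * c * h⁻¹) := by group)
  have := mul_mem (mul_mem (inv_mem hh) h1) hh
  simpa [mul_assoc] using this

include X in
theorem move_three (L : Loc8 B) (g x : G) (hx : x ∈ X.ι.range) (ho : orderOf x = 3)
    (hgx : g * x * g⁻¹ ∈ X.ι.range) : g ∈ X.ι.range := by
  have ho' : orderOf (g * x * g⁻¹) = 3 := by
    rw [← ho]; exact MulEquiv.orderOf_eq (MulAut.conj g) x
  obtain ⟨h₁, hh₁, y, -, hy⟩ := three_conj X x hx ho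
  obtain ⟨h₂, hh₂, y', -, hy'⟩ := three_conj X _ hgx ho'
  obtain ⟨n, hn, hnv⟩ := B.fusion y y' (isConj_iff.2 ⟨h₂ * g * h₁⁻¹, by
    rw [← hy, ← hy']; group⟩)
  have hw : (h₂⁻¹ * n * h₁)⁻¹ * g ∈ X.ι.range := by
    refine cent_three X L x hx ho ?_
    rw [mem_centralizer_singleton_iff]
    have e : (h₂⁻¹ * n * h₁)⁻¹ * (g * x * g⁻¹) * (h₂⁻¹ * n * h₁) = x := by
      have e1 : g * x * g⁻¹ = h₂⁻¹ * B.v y' * h₂ := by rw [← hy']; group
      have e2 : x = h₁⁻¹ * B.v y * h₁ := by rw [← hy]; group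
      rw [e1, ← hnv]
      conv_rhs => rw [e2]
      group
    calc (h₂⁻¹ * n * h₁)⁻¹ * g * x = (h₂⁻¹ * n * h₁)⁻¹ * (g * x * g⁻¹) * (h₂⁻¹ * n * h₁) *
          ((h₂⁻¹ * n * h₁)⁻¹ * g) := by group
      _ = _ := by rw [e]
  have hm : h₂⁻¹ * n * h₁ ∈ X.ι.range :=
    mul_mem (mul_mem (inv_mem hh₂) (normalizer_le X hn)) hh₁
  have := mul_mem hm hw
  rwa [mul_inv_cancel_left] at this

end StrongAux

open StrongAux in
/-- The image controls elements of order three and the fusion of involutions. -/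
theorem strong : StmtStrong.{u} := by
  intro hInv G _ _ B E S X L
  haveI : Fact (Nat.Prime 3) := ⟨Nat.prime_three⟩
  refine ⟨move_three X L, fun x y hx hxy => ?_⟩
  obtain ⟨g, hg⟩ := isConj_iff.1 hxy
  have hoy : orderOf y = 2 := by
    refine (orderOf_injective X.ι X.ι_inj y).symm.trans ?_
    rw [← hg]
    exact (MulEquiv.orderOf_eq (MulAut.conj g) (X.ι x)).trans
      ((orderOf_injective X.ι X.ι_inj x).trans hx)
  obtain ⟨c, hoc, hcx⟩ := hInv x hx
  obtain ⟨d, hod, hdy⟩ := hInv y hoy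
  let C := centralizer ({X.ι y} : Set G)
  have hmC : ∀ {z : G}, z ∈ C ↔ z * X.ι y = X.ι y * z := mem_centralizer_singleton_iff
  let d' : C := ⟨X.ι d, hmC.2 (by rw [← map_mul, hdy, map_mul])⟩
  let c' : C := ⟨g * X.ι c * g⁻¹, hmC.2 (by
    rw [← hg]
    calc g * X.ι c * g⁻¹ * (g * X.ι x * g⁻¹) = g * X.ι (c * x) * g⁻¹ := by rw [map_mul]; group
      _ = g * X.ι (x * c) * g⁻¹ := by rw [hcx]
      _ = _ := by rw [map_mul]; group)⟩
  have hd' : orderOf d' = 3 := by
    rw [← orderOf_coe d', show (d' : G) = X.ι d from rfl, orderOf_injective X.ι X.ι_inj, hod]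
  have hc' : orderOf c' = 3 := by
    rw [← orderOf_coe c', show (c' : G) = g * X.ι c * g⁻¹ from rfl]
    exact (MulEquiv.orderOf_eq (MulAut.conj g) (X.ι c)).trans
      ((orderOf_injective X.ι X.ι_inj c).trans hoc)
  have hp1 : IsPGroup 3 (zpowers d') := IsPGroup.of_card (n := 1) (by
    rw [Nat.card_zpowers, hd', pow_one])
  obtain ⟨P, hP⟩ := hp1.exists_le_sylow
  have hPin : ∀ p : C, p ∈ (P : Subgroup C) → (p : G) ∈ X.ι.range := by
    have hdP : d' ∈ (P : Subgroup C) := hP (mem_zpowers d')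
    haveI : Nontrivial (P : Subgroup C) := ⟨⟨⟨d', hdP⟩, 1, fun h => by
      have : d' = 1 := congrArg Subtype.val h
      rw [this, orderOf_one] at hd'; norm_num at hd'⟩⟩
    haveI : Nontrivial (Subgroup.center (P : Subgroup C)) := P.2.center_nontrivial
    obtain ⟨w, hw⟩ := exists_prime_orderOf_dvd_card' (G := Subgroup.center (P : Subgroup C)) 3
      ((P.2.to_subgroup _).card_eq_or_dvd.resolve_left Finite.one_lt_card.ne')
    let w' : G := (((w : (P : Subgroup C)) : C) : G)
    have how : orderOf w' = 3 := by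
      rw [← hw, ← orderOf_coe w, ← orderOf_coe (w : (P : Subgroup C)),
        ← orderOf_coe ((w : (P : Subgroup C)) : C)]
    have hcomm : ∀ p : C, p ∈ (P : Subgroup C) → (p : G) * w' = w' * (p : G) := fun p hp => by
      have := Subgroup.mem_center_iff.1 w.2 ⟨p, hp⟩
      exact congrArg (fun q : (P : Subgroup C) => ((q : C) : G)) this
    have hwH : w' ∈ X.ι.range := cent_three X L (X.ι d) ⟨d, rfl⟩
      (by rw [orderOf_injective X.ι X.ι_inj, hod])
      (mem_centralizer_singleton_iff.2 (hcomm d' hdP).symm)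
    intro p hp
    exact cent_three X L w' hwH how (mem_centralizer_singleton_iff.2 (hcomm p hp))
  have hp2 : IsPGroup 3 (zpowers c') := IsPGroup.of_card (n := 1) (by
    rw [Nat.card_zpowers, hc', pow_one])
  obtain ⟨Q, hQ⟩ := hp2.exists_le_sylow
  obtain ⟨k, hk⟩ := MulAction.exists_smul_eq C Q P
  have hmem : k * c' * k⁻¹ ∈ (P : Subgroup C) := by
    rw [← hk, Sylow.coe_subgroup_smul]
    have := Subgroup.smul_mem_pointwise_smul c' (MulAut.conj k) (Q : Subgroup C)
      (hQ (mem_zpowers c'))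
    simpa [MulAut.smul_def] using this
  have hkg : ((k : G) * g) ∈ X.ι.range := by
    refine move_three X L _ (X.ι c) ⟨c, rfl⟩ (by rw [orderOf_injective X.ι X.ι_inj, hoc]) ?_
    have h := hPin _ hmem
    have e : ((k : G) * g) * X.ι c * ((k : G) * g)⁻¹ = ((k * c' * k⁻¹ : C) : G) := by
      simp only [Subgroup.coe_mul, Subgroup.coe_inv, c']
      group
    rw [e]; exact h
  obtain ⟨m, hm⟩ := hkg
  refine isConj_iff.2 ⟨m, X.ι_inj ?_⟩
  rw [map_mul, map_mul, map_inv, hm, mul_inv_rev]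
  calc (k : G) * g * X.ι x * (g⁻¹ * (k : G)⁻¹) = (k : G) * (g * X.ι x * g⁻¹) * (k : G)⁻¹ := by
        group
    _ = X.ι y := by rw [hg, hmC.1 k.2, mul_inv_cancel_right]

end CfsgLib.SpSixThree
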