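import Cfsg.Agent.Lib.SpSixThree.CentSigmaModel
import Cfsg.Agent.Lib.SpSixThree.Strong

/-!
The centralizers in `C(σ)` of the elements of `E = ⟨e, f⟩` (statement S3342).
-/

set_option autoImplicit false
set_option maxRecDepth 100000
set_option linter.unusedSectionVars false

namespace CfsgLib.SpSixThree.CentAux

open Subgroup
open CfsgLib.PSpAmalgam (V3 zV eV fV gV actR actS)
open CfsgLib.SpSixThree.CentModel (wv Wm dw gw)

universe u

variable {G : Type u} [Group G] {B : Base G} {E : Eight B} {S : Six E} (X : Emb S)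

theorem iota_wv (w : List ℕ) : X.ι (wv w) = RelsAux.wp S w := by
  rw [wv, RelsAux.wp, map_list_prod, List.map_map]
  congr 1
  refine List.map_congr_left fun i _ => ?_
  show X.ι (named i) = gen S i
  by_cases h : i < 9
  · exact X.ι_named i h
  · obtain ⟨k, rfl⟩ : ∃ k, i = k + 9 := ⟨i - 9, by omega⟩
    rw [named, dif_neg h, map_one]; rfl

theorem iota_e : X.ι (wv CentModel.we) = B.v eV := by rw [iota_wv]; exact RelsAux.wp_e S

theorem iota_f : X.ι (wv CentModel.wf) = B.v fV := by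
  rw [iota_wv, show CentModel.wf = [0, 1] ++ [3, 4] from rfl, RelsAux.wp_append, RelsAux.wp_two,
    RelsAux.wp_two, RelsAux.gen01, RelsAux.gen34, ← B.v_add]
  rfl

theorem iota_eps : X.ι (wv [5]) = E.ε := by
  rw [iota_wv]; simp [RelsAux.wp, RelsAux.gen_eq5]

theorem iota_delta : X.ι (wv CentModel.wd) = E.δ := by rw [iota_wv]; exact RelsAux.wp_delta S

theorem iota_q : X.ι (wv CentModel.wq) = B.q := by rw [iota_wv]; exact RelsAux.wp_q S

/-- The radical of the centralizer of `σ`. -/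
def W : Subgroup G := Wm.map X.ι

theorem W_le : W X ≤ X.ι.range := map_le_range X.ι Wm

theorem mem_W {w : List ℕ} (h : wv w ∈ Wm) : X.ι (wv w) ∈ W X := mem_map_of_mem _ h

theorem sig_W : B.σ ∈ W X := by
  rw [← X.ι_sig, ← CentModel.wv_sig]; exact mem_W X CentModel.mems.1

theorem q_W : B.q ∈ W X := iota_q X ▸ mem_W X CentModel.mems.2.1

theorem rev_e : wv CentModel.we.reverse = (wv CentModel.we)⁻¹ :=
  CentModel.wv_reverse (CentModel.nw_check 0).1

theorem q2_W : B.v eV * B.q * (B.v eV)⁻¹ ∈ W X := by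
  have h := mem_W X CentModel.mems.2.2.1
  rwa [CentModel.wv_append, CentModel.wv_append, rev_e, map_mul, map_mul, map_inv, iota_q, iota_e] at h

theorem Wm_comm {x : MSp} (hx : x ∈ Wm) : x * mSig = mSig * x := by
  induction hx using Subgroup.closure_induction with
  | mem x hx => obtain ⟨k, rfl⟩ := hx; exact CentModel.gw_comm k
  | one => rw [one_mul, mul_one]
  | mul x y _ _ hx hy => exact (Commute.mul_left hx hy)
  | inv x _ hx => exact (Commute.inv_left hx)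

theorem W_comm {w : G} (hw : w ∈ W X) : w * B.σ = B.σ * w := by
  obtain ⟨x, hx, rfl⟩ := hw
  rw [← X.ι_sig, ← map_mul, ← map_mul, Wm_comm hx]

/-- The four normalizing elements. -/
theorem norm_W (j : Fin 4) {w : G} (hw : w ∈ W X) :
    X.ι (wv (CentModel.nw j)) * w * (X.ι (wv (CentModel.nw j)))⁻¹ ∈ W X := by
  obtain ⟨x, hx, rfl⟩ := hw
  exact ⟨_, CentModel.nw_conj j hx, by simp only [map_mul, map_inv]⟩

/-- The plane `⟨e, f⟩`. -/
def E2 (B : Base G) : Subgroup G where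
  carrier := {g | ∃ i j : ZMod 3, g = B.v (i, j, j)}
  one_mem' := ⟨0, 0, (RelsAux.v_zero (B := B)).symm⟩
  mul_mem' := by
    rintro _ _ ⟨i, j, rfl⟩ ⟨k, l, rfl⟩
    exact ⟨i + k, j + l, by rw [← B.v_add]; rfl⟩
  inv_mem' := by
    rintro _ ⟨i, j, rfl⟩
    exact ⟨-i, -j, by rw [← RelsAux.v_neg]; rfl⟩

theorem v_mem_E2 (i j : ZMod 3) : B.v (i, j, j) ∈ E2 B := ⟨i, j, rfl⟩

theorem e_mem : B.v eV ∈ E2 B := ⟨1, 0, rfl⟩

theorem f_mem : B.v fV ∈ E2 B := ⟨0, 1, rfl⟩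

theorem E2_comm {x y : G} (hx : x ∈ E2 B) (hy : y ∈ E2 B) : x * y = y * x := by
  obtain ⟨i, j, rfl⟩ := hx
  obtain ⟨k, l, rfl⟩ := hy
  rw [← B.v_add, ← B.v_add, add_comm]

theorem E2_cube {x : G} (hx : x ∈ E2 B) : x ^ 3 = 1 := by
  obtain ⟨i, j, rfl⟩ := hx
  rw [← StrongAux.v_nsmul, ← RelsAux.v_zero (B := B)]
  congr 1
  have key : ∀ i j : ZMod 3, 3 • ((i, j, j) : V3) = 0 := by decide +kernel
  exact key i j

theorem v_split (i j : ZMod 3) : B.v (i, j, j) = B.v eV ^ i.val * B.v fV ^ j.val := by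
  rw [← StrongAux.v_nsmul, ← StrongAux.v_nsmul, ← B.v_add]
  congr 1
  revert i j
  decide +kernel

theorem card_E2 (B : Base G) : Nat.card (E2 B) = 9 := by
  let f : ZMod 3 × ZMod 3 → E2 B := fun p => ⟨_, v_mem_E2 p.1 p.2⟩
  rw [← Nat.card_eq_of_bijective f ⟨?_, ?_⟩, Nat.card_eq_fintype_card]
  · rfl
  · intro p q h
    have := B.v_inj (congrArg Subtype.val h)
    simp only [Prod.mk.injEq] at this
    exact Prod.ext this.1 this.2.1
  · rintro ⟨g, i, j, rfl⟩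
    exact ⟨(i, j), rfl⟩

theorem E2_comm_sig {x : G} (hx : x ∈ E2 B) : x * B.σ = B.σ * x := by
  obtain ⟨i, j, rfl⟩ := hx
  have h := B.conj_σ (i, j, j)
  rw [mul_inv_eq_iff_eq_mul] at h
  exact h.symm

theorem conj_delta (x : V3) : E.δ * B.v x * E.δ⁻¹ = B.v (-x) := by
  calc E.δ * B.v x * E.δ⁻¹
      = E.ε * (E.ε2 * (E.ε3 * B.v x * E.ε3⁻¹) * E.ε2⁻¹) * E.ε⁻¹ := by rw [Eight.δ]; group
    _ = B.v (-x) := by rw [StrongAux.conj_eps3, StrongAux.conj_eps2, E.conj_ε]; rfl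

include S in
theorem eps_delta : E.ε * E.δ = E.δ * E.ε := by
  have h : E.ε2 * E.ε3 = S.φ (Equiv.swap 0 1 * Equiv.swap 3 4) := by
    rw [map_mul, S.φ_ε2, S.φ_ε3]
  rw [Eight.δ, mul_assoc E.ε, h, mul_assoc E.ε (S.φ _) E.ε, S.φ_ε]

/-- The group `⟨ε, δ⟩`. -/
def D4 (X : Emb S) : Subgroup G :=
  closure ({E.ε, E.δ} : Set G)

theorem eps_mem : E.ε ∈ D4 X := subset_closure (Set.mem_insert _ _)

theorem delta_mem : E.δ ∈ D4 X := subset_closure (Set.mem_insert_of_mem _ rfl)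

theorem dw_eq : X.ι (wv (dw 0)) = 1 ∧ X.ι (wv (dw 1)) = E.ε ∧ X.ι (wv (dw 2)) = E.δ ∧
    X.ι (wv (dw 3)) = E.ε * E.δ := by
  refine ⟨map_one X.ι, iota_eps X, iota_delta X, ?_⟩
  rw [show dw 3 = [5] ++ CentModel.wd from rfl, CentModel.wv_append, map_mul, iota_eps, iota_delta]

theorem D4_rep {d : G} (hd : d ∈ D4 X) : ∃ j : Fin 4, d = X.ι (wv (dw j)) := by
  obtain ⟨d0, d1, d2, d3⟩ := dw_eq X
  have he : E.ε * E.ε = 1 := E.ε_sq
  have hs : E.δ * E.δ = 1 := RelsAux.delta_sq S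
  have hc : E.ε * E.δ = E.δ * E.ε := eps_delta (S := S)
  have hinv : ∀ j : Fin 4, (X.ι (wv (dw j)))⁻¹ = X.ι (wv (dw j)) := by
    intro j
    fin_cases j
    · show (X.ι (wv (dw 0)))⁻¹ = X.ι (wv (dw 0))
      rw [d0, inv_one]
    · show (X.ι (wv (dw 1)))⁻¹ = X.ι (wv (dw 1))
      rw [d1, inv_eq_of_mul_eq_one_left he]
    · show (X.ι (wv (dw 2)))⁻¹ = X.ι (wv (dw 2))
      rw [d2, inv_eq_of_mul_eq_one_left hs]
    · show (X.ι (wv (dw 3)))⁻¹ = X.ι (wv (dw 3))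
      rw [d3, mul_inv_rev, inv_eq_of_mul_eq_one_left hs, inv_eq_of_mul_eq_one_left he, hc]
  induction hd using Subgroup.closure_induction with
  | mem x hx =>
    rcases hx with rfl | rfl
    · exact ⟨1, d1.symm⟩
    · exact ⟨2, d2.symm⟩
  | one => exact ⟨0, d0.symm⟩
  | mul x y _ _ hx hy =>
    obtain ⟨i, rfl⟩ := hx
    obtain ⟨j, rfl⟩ := hy
    have mulE : ∀ i : Fin 4, ∃ k, X.ι (wv (dw i)) * E.ε = X.ι (wv (dw k)) := by
      intro i
      fin_cases i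
      · exact ⟨1, by show X.ι (wv (dw 0)) * _ = _; rw [d0, d1, one_mul]⟩
      · exact ⟨0, by show X.ι (wv (dw 1)) * _ = _; rw [d0, d1, he]⟩
      · exact ⟨3, by show X.ι (wv (dw 2)) * _ = _; rw [d2, d3, hc]⟩
      · exact ⟨2, by show X.ι (wv (dw 3)) * _ = _; rw [d2, d3, hc, mul_assoc, he, mul_one]⟩
    have mulD : ∀ i : Fin 4, ∃ k, X.ι (wv (dw i)) * E.δ = X.ι (wv (dw k)) := by
      intro i
      fin_cases i
      · exact ⟨2, by show X.ι (wv (dw 0)) * _ = _; rw [d0, d2, one_mul]⟩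
      · exact ⟨3, by show X.ι (wv (dw 1)) * _ = _; rw [d1, d3]⟩
      · exact ⟨0, by show X.ι (wv (dw 2)) * _ = _; rw [d2, d0, hs]⟩
      · exact ⟨1, by show X.ι (wv (dw 3)) * _ = _; rw [d1, d3, mul_assoc, hs, mul_one]⟩
    fin_cases j
    · exact ⟨i, by show _ * X.ι (wv (dw 0)) = _; rw [d0, mul_one]⟩
    · show ∃ k, _ * X.ι (wv (dw 1)) = _
      rw [d1]; exact mulE i
    · show ∃ k, _ * X.ι (wv (dw 2)) = _
      rw [d2]; exact mulD i
    · show ∃ k, _ * X.ι (wv (dw 3)) = _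
      obtain ⟨k, hk⟩ := mulE i
      rw [d3, ← mul_assoc, hk]; exact mulD k
  | inv x _ hx =>
    obtain ⟨i, rfl⟩ := hx
    exact ⟨i, hinv i⟩

theorem D4_sq {d : G} (hd : d ∈ D4 X) : d * d = 1 := by
  obtain ⟨d0, d1, d2, d3⟩ := dw_eq X
  obtain ⟨j, rfl⟩ := D4_rep X hd
  fin_cases j
  · show X.ι (wv (dw 0)) * _ = 1
    rw [d0, one_mul]; exact d0
  · show X.ι (wv (dw 1)) * X.ι (wv (dw 1)) = 1
    rw [d1]; exact E.ε_sq
  · show X.ι (wv (dw 2)) * X.ι (wv (dw 2)) = 1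
    rw [d2]; exact RelsAux.delta_sq S
  · show X.ι (wv (dw 3)) * X.ι (wv (dw 3)) = 1
    rw [d3, mul_assoc, ← mul_assoc E.δ, ← eps_delta (S := S), mul_assoc E.ε, RelsAux.delta_sq S,
      mul_one, E.ε_sq]

/-- `W E`. -/
def A : Subgroup G := W X ⊔ E2 B

/-- The Sylow two-subgroup. -/
def T : Subgroup G := W X ⊔ D4 X

/-- The part of the centralizer of `σ` in the image. -/
def N0 : Subgroup G := A X ⊔ D4 X

variable [Finite G]

theorem E2_norm_W : E2 B ≤ normalizer (W X : Set G) := by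
  rintro _ ⟨i, j, rfl⟩
  rw [v_split, ← iota_e X, ← iota_f X]
  refine mul_mem (pow_mem ?_ _) (pow_mem ?_ _) <;>
    refine mem_normalizer_fintype fun w hw => ?_
  · exact norm_W X 0 hw
  · exact norm_W X 1 hw

theorem D4_norm_W : D4 X ≤ normalizer (W X : Set G) := by
  refine (closure_le _).2 ?_
  rintro x (rfl | rfl)
  · rw [← iota_eps X]
    exact mem_normalizer_fintype fun w hw => norm_W X 2 hw
  · rw [← iota_delta X]
    exact mem_normalizer_fintype fun w hw => norm_W X 3 hw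

theorem D4_norm_E2 : D4 X ≤ normalizer (E2 B : Set G) := by
  refine (closure_le _).2 ?_
  rintro x (rfl | rfl) <;> refine mem_normalizer_fintype ?_ <;> rintro _ ⟨i, j, rfl⟩
  · exact ⟨-i, j, E.conj_ε _⟩
  · exact ⟨-i, -j, conj_delta _⟩

theorem W_le_A : W X ≤ A X := le_sup_left
theorem E2_le_A : E2 B ≤ A X := le_sup_right
theorem A_le_N0 : A X ≤ N0 X := le_sup_left
theorem D4_le_N0 : D4 X ≤ N0 X := le_sup_right
theorem W_le_T : W X ≤ T X := le_sup_left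
theorem T_le_N0 : T X ≤ N0 X := sup_le ((W_le_A X).trans (A_le_N0 X)) (D4_le_N0 X)

theorem A_rep {g : G} (hg : g ∈ A X) : ∃ w ∈ W X, ∃ x ∈ E2 B, g = w * x := by
  rw [A, ← SetLike.mem_coe, coe_mul_of_right_le_normalizer_left _ _ (E2_norm_W X)] at hg
  obtain ⟨w, hw, x, hx, rfl⟩ := Set.mem_mul.1 hg
  exact ⟨w, hw, x, hx, rfl⟩

theorem T_rep {g : G} (hg : g ∈ T X) : ∃ w ∈ W X, ∃ d ∈ D4 X, g = w * d := by
  rw [T, ← SetLike.mem_coe, coe_mul_of_right_le_normalizer_left _ _ (D4_norm_W X)] at hg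
  obtain ⟨w, hw, x, hx, rfl⟩ := Set.mem_mul.1 hg
  exact ⟨w, hw, x, hx, rfl⟩

theorem D4_norm_A : D4 X ≤ normalizer (A X : Set G) := fun _ hd =>
  normalizer_inf_normalizer_le_normalizer_sup (W X) (E2 B) ⟨D4_norm_W X hd, D4_norm_E2 X hd⟩

theorem N0_norm_A : N0 X ≤ normalizer (A X : Set G) := sup_le le_normalizer (D4_norm_A X)

theorem N0_rep {g : G} (hg : g ∈ N0 X) : ∃ a ∈ A X, ∃ d ∈ D4 X, g = a * d := by
  rw [N0, ← SetLike.mem_coe, coe_mul_of_right_le_normalizer_left _ _ (D4_norm_A X)] at hg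
  obtain ⟨w, hw, x, hx, rfl⟩ := Set.mem_mul.1 hg
  exact ⟨w, hw, x, hx, rfl⟩

theorem D4_comm_sig {d : G} (hd : d ∈ D4 X) : d * B.σ = B.σ * d := by
  induction hd using Subgroup.closure_induction with
  | mem x hx =>
    rcases hx with rfl | rfl
    · exact E.ε_σ
    · rw [← iota_delta X, ← X.ι_sig, ← map_mul, ← map_mul]
      exact congrArg X.ι (CentModel.nw_comm 3)
  | one => simp
  | mul x y _ _ hx hy => exact Commute.mul_left hx hy
  | inv x _ hx => exact Commute.inv_left hx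

theorem N0_le : N0 X ≤ X.ι.range ⊓ centralizer ({B.σ} : Set G) := by
  refine sup_le (sup_le ?_ ?_) ?_
  · exact fun w hw => ⟨W_le X hw, mem_centralizer_singleton_iff.2 (W_comm X hw)⟩
  · intro x hx
    refine ⟨?_, mem_centralizer_singleton_iff.2 (E2_comm_sig hx)⟩
    obtain ⟨i, j, rfl⟩ := hx
    exact StrongAux.v_mem X _
  · intro d hd
    obtain ⟨j, hj⟩ := D4_rep X hd
    exact ⟨⟨_, hj.symm⟩, mem_centralizer_singleton_iff.2 (D4_comm_sig X hd)⟩

/-! ### Centralizers -/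

/-- The code of a word `ε^i ε₂^j ε₃^l β^r σ^s`. -/
def actW (i j l : Fin 2) (r : Fin 3) (s : Fin 2) (y : V3) : V3 :=
  StrongAux.nA^[i.val] (StrongAux.nB^[j.val] (StrongAux.nC^[l.val]
    (actR^[r.val] (actS^[s.val] y))))

theorem conj_iter {n : G} {f : V3 → V3} (hf : ∀ x, n * B.v x * n⁻¹ = B.v (f x)) (k : ℕ) (y : V3) :
    n ^ k * B.v y * (n ^ k)⁻¹ = B.v (f^[k] y) := by
  induction k generalizing y with
  | zero => simp
  | succ k ih =>
    rw [Function.iterate_succ_apply', pow_succ']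
    calc n * n ^ k * B.v y * (n * n ^ k)⁻¹ = n * (n ^ k * B.v y * (n ^ k)⁻¹) * n⁻¹ := by group
      _ = _ := by rw [ih, hf]

theorem conj_form (x y : V3) (i j l : Fin 2) (r : Fin 3) (s : Fin 2) :
    (B.v x * E.ε ^ i.val * (B.β * E.ε * B.β⁻¹) ^ j.val * (B.β⁻¹ * E.ε * B.β) ^ l.val *
      B.β ^ r.val * B.σ ^ s.val) * B.v y *
    (B.v x * E.ε ^ i.val * (B.β * E.ε * B.β⁻¹) ^ j.val * (B.β⁻¹ * E.ε * B.β) ^ l.val *
      B.β ^ r.val * B.σ ^ s.val)⁻¹ = B.v (actW i j l r s y) := by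
  change (B.v x * E.ε ^ i.val * E.ε2 ^ j.val * E.ε3 ^ l.val * B.β ^ r.val * B.σ ^ s.val) * B.v y *
    (B.v x * E.ε ^ i.val * E.ε2 ^ j.val * E.ε3 ^ l.val * B.β ^ r.val * B.σ ^ s.val)⁻¹ = _
  calc _ = B.v x * (E.ε ^ i.val * (E.ε2 ^ j.val * (E.ε3 ^ l.val * (B.β ^ r.val * (B.σ ^ s.val *
        B.v y * (B.σ ^ s.val)⁻¹) * (B.β ^ r.val)⁻¹) * (E.ε3 ^ l.val)⁻¹) * (E.ε2 ^ j.val)⁻¹) *
        (E.ε ^ i.val)⁻¹) * (B.v x)⁻¹ := by group
    _ = _ := by
      rw [conj_iter B.conj_σ, conj_iter B.conj_β, conj_iter StrongAux.conj_eps3,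
        conj_iter StrongAux.conj_eps2, conj_iter E.conj_ε, ← RelsAux.v_neg, ← B.v_add, ← B.v_add]
      exact congrArg B.v (add_neg_cancel_comm _ _)

theorem conj_fix {g a : G} (h : g * a = a * g) : g * a * g⁻¹ = a := by
  rw [h, mul_inv_cancel_right]

include X in
/-- The centralizer of `f` in `C(σ)`. -/
theorem cent_f_form (L : Loc8 B) {c : G} (hσ : c * B.σ = B.σ * c)
    (hf : c * B.v fV = B.v fV * c) :
    ∃ x ∈ E2 B, ∃ i s : Fin 2, c = x * E.ε ^ i.val * B.σ ^ s.val := by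
  obtain ⟨x, i, j, l, r, s, rfl⟩ :=
    E.normalizer_mem c (L.cent_f (mem_centralizer_singleton_iff.2 hf))
  have h := conj_fix hf
  rw [conj_form] at h
  have key : ∀ (i j l : Fin 2) (r : Fin 3) (s : Fin 2),
      actW i j l r s fV = fV → j = 0 ∧ l = 0 ∧ r = 0 := by decide +kernel
  obtain ⟨rfl, rfl, rfl⟩ := key i j l r s (B.v_inj h)
  simp only [Fin.val_zero, pow_zero, mul_one] at hσ ⊢
  refine ⟨B.v x, ?_, i, s, rfl⟩
  have hε : Commute (E.ε ^ i.val) B.σ := Commute.pow_left E.ε_σ _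
  have hs : Commute (B.σ ^ s.val) B.σ := Commute.pow_left (Commute.refl _) _
  have hx : B.v x * B.σ = B.σ * B.v x := by
    refine mul_right_cancel (b := E.ε ^ i.val * B.σ ^ s.val) ?_
    calc B.v x * B.σ * (E.ε ^ i.val * B.σ ^ s.val)
        = B.v x * (E.ε ^ i.val * B.σ ^ s.val * B.σ) := by rw [mul_assoc, (hε.mul_left hs).eq]
      _ = B.σ * B.v x * (E.ε ^ i.val * B.σ ^ s.val) := by
        simp only [mul_assoc] at hσ ⊢; exact hσ
  have h2 := conj_fix hx.symm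
  rw [B.conj_σ] at h2
  have h3 : ∀ x : V3, actS x = x → x = (x.1, x.2.1, x.2.1) := by decide +kernel
  rw [h3 x (B.v_inj h2)]
  exact v_mem_E2 _ _

include X in
/-- The centralizer of `E` in `C(σ)`. -/
theorem cent_E2 (L : Loc8 B) {c : G} (hσ : c * B.σ = B.σ * c) (he : c * B.v eV = B.v eV * c)
    (hf : c * B.v fV = B.v fV * c) : ∃ x ∈ E2 B, ∃ s : Fin 2, c = x * B.σ ^ s.val := by
  obtain ⟨x, hx, i, s, rfl⟩ := cent_f_form X L hσ hf
  refine ⟨x, hx, s, ?_⟩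
  have hce := conj_fix he
  have hse : B.σ ^ s.val * B.v eV * (B.σ ^ s.val)⁻¹ = B.v eV :=
    conj_fix (Commute.pow_left (E2_comm_sig e_mem).symm _)
  rw [show x * E.ε ^ i.val * B.σ ^ s.val * B.v eV * (x * E.ε ^ i.val * B.σ ^ s.val)⁻¹ =
      x * (E.ε ^ i.val * (B.σ ^ s.val * B.v eV * (B.σ ^ s.val)⁻¹) * (E.ε ^ i.val)⁻¹) * x⁻¹ by group,
    hse, conj_iter E.conj_ε] at hce
  obtain ⟨a, b, rfl⟩ := hx
  rw [← RelsAux.v_neg, ← B.v_add, ← B.v_add] at hce
  have key : ∀ (i : Fin 2) (a b : ZMod 3), ((a, b, b) : V3) +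
      ((fun x : V3 => (-x.1, x.2.1, x.2.2))^[i.val] eV) + -((a, b, b) : V3) = eV → i = 0 := by
    decide +kernel
  rw [key i a b (B.v_inj hce)]
  simp

/-- A commuting element with its conditions. -/
def CentIn (y : V3) : Prop := ∀ c : G, c * B.σ = B.σ * c → c * B.v y = B.v y * c → c ∈ N0 X

theorem centIn_f (L : Loc8 B) : CentIn X fV := by
  intro c hσ hf
  obtain ⟨x, hx, i, s, rfl⟩ := cent_f_form X L hσ hf
  exact mul_mem (mul_mem (A_le_N0 X (E2_le_A X hx)) (pow_mem (D4_le_N0 X (eps_mem X)) _))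
    (pow_mem (A_le_N0 X (W_le_A X (sig_W X))) _)

/-- The product of the three transpositions. -/
def sp : Equiv.Perm (Fin 6) := Equiv.swap 0 3 * Equiv.swap 1 4 * Equiv.swap 2 5

/-- The permutations commuting with `sp`. -/
def code6 (a b c : Fin 2) (k : Fin 3) (l : Fin 2) : Equiv.Perm (Fin 6) :=
  Equiv.swap (0 : Fin 6) 3 ^ a.val * Equiv.swap (1 : Fin 6) 4 ^ b.val *
    Equiv.swap (2 : Fin 6) 5 ^ c.val *
    (Equiv.swap (0 : Fin 6) 1 * Equiv.swap 1 2 * (Equiv.swap 3 4 * Equiv.swap 4 5)) ^ k.val *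
    (Equiv.swap (0 : Fin 6) 1 * Equiv.swap 3 4) ^ l.val

theorem code6_exists (π : Equiv.Perm (Fin 6)) (h : π * sp = sp * π) :
    ∃ a b c k l, π = code6 a b c k l := by
  have key : ∀ x y z : Fin 6, x ≠ y → x ≠ sp y → x ≠ z → x ≠ sp z → y ≠ z → y ≠ sp z →
      ∃ a b c k l, code6 a b c k l 0 = x ∧ code6 a b c k l 1 = y ∧ code6 a b c k l 2 = z := by
    decide +kernel
  have hcomm : ∀ i, π (sp i) = sp (π i) := fun i => congrArg (fun p : Equiv.Perm (Fin 6) => p i) h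
  have hne : ∀ {i j : Fin 6}, i ≠ j → π i ≠ π j := fun h e => h (π.injective e)
  obtain ⟨a, b, c, k, l, h0, h1, h2⟩ := key (π 0) (π 1) (π 2) (hne (by decide))
    (hcomm 1 ▸ hne (by decide)) (hne (by decide)) (hcomm 2 ▸ hne (by decide)) (hne (by decide))
    (hcomm 2 ▸ hne (by decide))
  refine ⟨a, b, c, k, l, ?_⟩
  have hcode : ∀ a b c k l, code6 a b c k l * sp = sp * code6 a b c k l := by decide +kernel
  have hc : ∀ i, code6 a b c k l (sp i) = sp (code6 a b c k l i) :=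
    fun i => congrArg (fun p : Equiv.Perm (Fin 6) => p i) (hcode a b c k l)
  refine Equiv.ext fun i => ?_
  have hi : i = 0 ∨ i = 1 ∨ i = 2 ∨ i = sp 0 ∨ i = sp 1 ∨ i = sp 2 := by
    revert i; decide +kernel
  rcases hi with rfl | rfl | rfl | rfl | rfl | rfl
  · exact h0.symm
  · exact h1.symm
  · exact h2.symm
  · rw [hcomm, hc, h0]
  · rw [hcomm, hc, h1]
  · rw [hcomm, hc, h2]

theorem iota_t : X.ι (wv wT14) = S.φ (Equiv.swap 0 3) := by rw [iota_wv]; exact RelsAux.wp_t S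

theorem phi_f : S.φ (Equiv.swap 0 1 * Equiv.swap 1 2 * (Equiv.swap 3 4 * Equiv.swap 4 5)) =
    B.v fV := by
  rw [map_mul, S.φ_g, S.φ_h, ← B.v_add]; rfl

theorem phi_code_mem (a b c : Fin 2) (k : Fin 3) (l : Fin 2) :
    S.φ (code6 a b c k l) ∈ N0 X := by
  have hW : ∀ {g : G}, g ∈ W X → g ∈ N0 X := fun h => A_le_N0 X (W_le_A X h)
  have h1 := mem_W X CentModel.mems.2.2.2.2.1
  have h2 := mem_W X CentModel.mems.2.2.2.2.2
  have hr : wv CentModel.wf.reverse = (wv CentModel.wf)⁻¹ :=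
    CentModel.wv_reverse (CentModel.nw_check 1).1
  rw [CentModel.wv_append, CentModel.wv_append, hr, map_mul, map_mul, map_inv, iota_f, iota_t,
    ← phi_f (S := S), ← map_inv, ← map_mul, ← map_mul] at h1 h2
  rw [code6, map_mul, map_mul, map_mul, map_mul, map_pow, map_pow, map_pow, map_pow, map_pow,
    phi_f, map_mul S.φ (Equiv.swap 0 1), S.φ_ε2, S.φ_ε3]
  refine mul_mem (mul_mem (mul_mem (mul_mem (pow_mem (hW ?_) _) (pow_mem (hW ?_) _))
    (pow_mem (hW ?_) _)) (pow_mem (A_le_N0 X (E2_le_A X f_mem)) _)) (pow_mem (D4_le_N0 X ?_) _)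
  · exact iota_t X ▸ mem_W X CentModel.mems.2.2.2.1
  · convert h1 using 2
    decide +kernel
  · convert h2 using 2
    decide +kernel
  · have e : E.ε2 * E.ε3 = E.ε * E.δ := by
      rw [Eight.δ, ← mul_assoc, ← mul_assoc, E.ε_sq, one_mul]
    rw [e]; exact mul_mem (eps_mem X) (delta_mem X)

theorem centIn_e : CentIn X eV := by
  intro c hσ he
  obtain ⟨i, π, rfl⟩ := S.φ_cov c he
  have h1 : Commute (B.v eV ^ i) B.σ := Commute.pow_left (E2_comm_sig e_mem) _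
  have h2 : S.φ (π * sp) = S.φ (sp * π) := by
    rw [map_mul, map_mul, show S.φ sp = B.σ from S.φ_σ]
    refine mul_left_cancel (a := B.v eV ^ i) ?_
    rw [← mul_assoc, hσ, ← mul_assoc, ← h1.eq, mul_assoc]
  obtain ⟨a, b, c, k, l, rfl⟩ := code6_exists π (S.φ_inj h2)
  exact mul_mem (pow_mem (A_le_N0 X (E2_le_A X e_mem)) _) (phi_code_mem X a b c k l)

theorem W_pow {w : G} (hw : w ∈ W X) : w ^ 8 = 1 := by
  obtain ⟨x, hx, rfl⟩ := hw
  rw [← map_pow]
  have h := CentModel.pow_eight hx 0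
  rw [show wv (dw 0) = 1 from rfl, mul_one] at h
  rw [h, map_one]

theorem W_isPGroup : IsPGroup 2 (W X) := fun w => ⟨3, Subtype.ext (W_pow X w.2)⟩

include S in
theorem sig_ne_one : B.σ ≠ 1 := fun h => by
  have := S.φ_inj (S.φ_σ.trans (h.trans (map_one S.φ).symm))
  exact absurd this (by decide +kernel)

theorem centIn_z : CentIn X zV := by
  intro c hσ hz
  haveI : Fact (Nat.Prime 2) := ⟨Nat.prime_two⟩
  set K := N0 X ⊓ centralizer ({B.v zV} : Set G) with hK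
  have hKM : K ≤ centralizer ({B.v zV} : Set G) ⊓ centralizer ({B.σ} : Set G) :=
    fun g hg => ⟨hg.2, (N0_le X hg.1).2⟩
  have h9 : 9 ∣ Nat.card K := by
    rw [← card_E2 B]
    refine card_dvd_of_le fun x hx => ⟨A_le_N0 X (E2_le_A X hx), ?_⟩
    exact mem_centralizer_singleton_iff.2 (E2_comm hx (v_mem_E2 1 1))
  have h8 : 8 ∣ Nat.card K := by
    set Q2 := closure ({B.q, B.v eV * B.q * (B.v eV)⁻¹} : Set G) with hQ2
    have hQK : Q2 ≤ K := by
      refine (closure_le _).2 ?_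
      rintro x (rfl | rfl)
      · exact ⟨A_le_N0 X (W_le_A X (q_W X)), mem_centralizer_singleton_iff.2 B.q_a⟩
      · refine ⟨A_le_N0 X (W_le_A X (q2_W X)), mem_centralizer_singleton_iff.2 ?_⟩
        have h1 : Commute (B.v eV) (B.v zV) := E2_comm e_mem (v_mem_E2 1 1)
        exact ((h1.mul_left B.q_a).mul_left h1.inv_left).eq
    have hQW : Q2 ≤ W X := (closure_le _).2 (by
      rintro x (rfl | rfl)
      · exact q_W X
      · exact q2_W X)
    have hp : IsPGroup 2 Q2 := (W_isPGroup X).to_le hQW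
    obtain ⟨n, hn⟩ := IsPGroup.iff_card.1 hp
    have ho : orderOf B.q = 4 := by
      refine orderOf_eq_prime_pow (p := 2) (n := 1) ?_ ?_
      · rw [pow_one, pow_two, B.q_sq]; exact sig_ne_one (S := S)
      · rw [show 2 ^ (1 + 1) = 2 * 2 by norm_num, pow_mul, pow_two B.q, B.q_sq, pow_two, B.σ_sq]
    have hlt : zpowers B.q < Q2 := by
      refine lt_of_le_of_ne (zpowers_le.2 (subset_closure (Set.mem_insert _ _))) fun e => ?_
      have hm : B.v eV * B.q * (B.v eV)⁻¹ ∈ zpowers B.q :=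
        e ▸ subset_closure (Set.mem_insert_of_mem _ rfl)
      obtain ⟨m, hm⟩ := mem_zpowers_iff.1 hm
      refine CentModel.q_two_not_mem ⟨m, X.ι_inj ?_⟩
      show X.ι (wv CentModel.wq ^ m) = _
      rw [map_zpow, CentModel.wv_append, CentModel.wv_append,
        rev_e, map_mul, map_mul, map_inv, iota_q, iota_e,
        hm]
    have h4 : 4 < Nat.card Q2 := by
      rw [← ho, ← Nat.card_zpowers]
      by_contra hle
      exact hlt.ne (eq_of_le_of_card_ge hlt.le (by omega))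
    rw [hn] at h4
    have : 3 ≤ n := by
      by_contra h
      have := Nat.pow_le_pow_right (show 0 < 2 by norm_num) (show n ≤ 2 by omega)
      omega
    refine dvd_trans ?_ (card_dvd_of_le hQK)
    rw [hn]; exact pow_dvd_pow 2 this
  have h72 : 72 ∣ Nat.card K := Nat.Coprime.mul_dvd_of_dvd_of_dvd (by norm_num : Nat.Coprime 8 9) h8 h9
  have e := eq_of_le_of_card_ge hKM (by
    rw [B.card_cent_z_σ]; exact Nat.le_of_dvd Nat.card_pos h72)
  have hc : c ∈ K := e.ge ⟨mem_centralizer_singleton_iff.2 hz, mem_centralizer_singleton_iff.2 hσ⟩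
  exact hc.1

theorem centIn_neg {y : V3} (h : CentIn X y) : CentIn X (-y) := by
  intro c hσ hc
  refine h c hσ ?_
  have := (Commute.inv_right (show Commute c (B.v (-y)) from hc)).eq
  rwa [RelsAux.v_neg, inv_inv] at this

theorem centIn_eps {y : V3} (h : CentIn X y) : CentIn X (-y.1, y.2.1, y.2.2) := by
  intro c hσ hc
  rw [← E.conj_ε] at hc
  have he : E.ε⁻¹ = E.ε := inv_eq_of_mul_eq_one_left E.ε_sq
  have h1 : E.ε * c * E.ε⁻¹ ∈ N0 X := by
    refine h _ ?_ ?_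
    · have k1 : Commute E.ε B.σ := E.ε_σ
      exact ((k1.mul_left hσ).mul_left k1.inv_left).eq
    · calc E.ε * c * E.ε⁻¹ * B.v y = E.ε⁻¹ * (c * (E.ε * B.v y * E.ε⁻¹)) * E.ε := by
            rw [he]; simp only [mul_assoc, E.ε_sq, mul_one]
        _ = E.ε⁻¹ * (E.ε * B.v y * E.ε⁻¹ * c) * E.ε := by rw [hc]
        _ = B.v y * (E.ε * c * E.ε⁻¹) := by rw [he]; simp only [← mul_assoc, E.ε_sq, one_mul]
  have hε := D4_le_N0 X (eps_mem X)
  have := mul_mem (mul_mem (inv_mem hε) h1) hε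
  rwa [show E.ε⁻¹ * (E.ε * c * E.ε⁻¹) * E.ε = c by group] at this

/-- The centralizers in `C(σ)` of the nontrivial elements of `E` lie in `N₀`. -/
theorem centIn_E2 (L : Loc8 B) {x c : G} (hx : x ∈ E2 B) (hx1 : x ≠ 1)
    (hσ : c * B.σ = B.σ * c) (hc : c * x = x * c) : c ∈ N0 X := by
  obtain ⟨i, j, rfl⟩ := hx
  have hne : ((i, j, j) : V3) ≠ 0 := fun h => hx1 (by rw [h, RelsAux.v_zero])
  have key : ∀ i j : ZMod 3, ((i, j, j) : V3) ≠ 0 →
      ((i, j, j) : V3) = eV ∨ ((i, j, j) : V3) = -eV ∨ ((i, j, j) : V3) = fV ∨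
      ((i, j, j) : V3) = -fV ∨ ((i, j, j) : V3) = zV ∨ ((i, j, j) : V3) = -zV ∨
      ((i, j, j) : V3) = (-zV.1, zV.2.1, zV.2.2) ∨
      ((i, j, j) : V3) = -((-zV.1, zV.2.1, zV.2.2) : V3) := by decide +kernel
  rcases key i j hne with e | e | e | e | e | e | e | e <;> rw [e] at hc
  · exact centIn_e X c hσ hc
  · exact centIn_neg X (centIn_e X) c hσ hc
  · exact centIn_f X L c hσ hc
  · exact centIn_neg X (centIn_f X L) c hσ hc
  · exact centIn_z X c hσ hc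
  · exact centIn_neg X (centIn_z X) c hσ hc
  · exact centIn_eps X (centIn_z X) c hσ hc
  · exact centIn_neg X (centIn_eps X (centIn_z X)) c hσ hc

theorem E2_inf_W {x : G} (hx : x ∈ E2 B) (hw : x ∈ W X) : x = 1 := by
  refine orderOf_eq_one_iff.1 (Nat.eq_one_of_dvd_coprimes (by norm_num : Nat.Coprime 8 3)
    (orderOf_dvd_of_pow_eq_one (W_pow X hw)) (orderOf_dvd_of_pow_eq_one (E2_cube hx)))

/-- The normalizer of `E` in `C(σ)`. -/
theorem normalizer_form (L : Loc8 B) {z : G} (hσ : z * B.σ = B.σ * z)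
    (he : z * B.v eV * z⁻¹ ∈ E2 B) (hf : z * B.v fV * z⁻¹ ∈ E2 B) :
    ∃ d ∈ D4 X, ∃ x ∈ E2 B, ∃ s : Fin 2, z = d * (x * B.σ ^ s.val) := by
  obtain ⟨i, j, e1⟩ := he
  obtain ⟨k, l, e2⟩ := hf
  have wt : ∀ {y w : V3}, z * B.v y * z⁻¹ = B.v w → ∃ k : K8, act8 k y = w := by
    intro y w h
    obtain ⟨n, hn, hnv⟩ := B.fusion y w (isConj_iff.2 ⟨z, h⟩)
    obtain ⟨k, hk⟩ := B.monomial n hn
    exact ⟨k, B.v_inj ((hk y).symm.trans hnv)⟩
  have keyE : ∀ i j : ZMod 3, (∃ k : K8, act8 k eV = (i, j, j)) → j = 0 ∧ (i = 1 ∨ i = -1) := by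
    decide +kernel
  have keyF : ∀ i j : ZMod 3, (∃ k : K8, act8 k fV = (i, j, j)) → i = 0 ∧ (j = 1 ∨ j = -1) := by
    decide +kernel
  obtain ⟨rfl, hi⟩ := keyE i j (wt e1)
  obtain ⟨rfl, hl⟩ := keyF k l (wt e2)
  obtain ⟨d, hd, hde, hdf⟩ : ∃ d ∈ D4 X, d * B.v eV * d⁻¹ = B.v (i, 0, 0) ∧
      d * B.v fV * d⁻¹ = B.v (0, l, l) := by
    rcases hi with rfl | rfl <;> rcases hl with rfl | rfl
    · exact ⟨1, one_mem _, by rw [one_mul, inv_one, mul_one]; rfl,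
        by rw [one_mul, inv_one, mul_one]; rfl⟩
    · refine ⟨E.ε * E.δ, mul_mem (eps_mem X) (delta_mem X), ?_, ?_⟩ <;>
        (rw [show ∀ y, E.ε * E.δ * B.v y * (E.ε * E.δ)⁻¹ = E.ε * (E.δ * B.v y * E.δ⁻¹) * E.ε⁻¹
          from fun y => by group, conj_delta, E.conj_ε]; exact congrArg B.v (by decide +kernel))
    · refine ⟨E.ε, eps_mem X, ?_, ?_⟩ <;>
        (rw [E.conj_ε]; exact congrArg B.v (by decide +kernel))
    · refine ⟨E.δ, delta_mem X, ?_, ?_⟩ <;>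
        (rw [conj_delta]; exact congrArg B.v (by decide +kernel))
  have hc : ∀ {y : V3} {w : G}, z * B.v y * z⁻¹ = w → d * B.v y * d⁻¹ = w →
      d⁻¹ * z * B.v y = B.v y * (d⁻¹ * z) := by
    intro y w h h'
    rw [← mul_inv_eq_iff_eq_mul, show d⁻¹ * z * B.v y * (d⁻¹ * z)⁻¹ = d⁻¹ * (z * B.v y * z⁻¹) * d
      by group, h, ← h']
    group
  have hdσ : Commute d⁻¹ B.σ := Commute.inv_left (D4_comm_sig X hd)
  obtain ⟨x, hx, s, hxs⟩ := cent_E2 X L (c := d⁻¹ * z) (hdσ.mul_left hσ).eq (hc e1 hde)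
    (hc e2 hdf)
  exact ⟨d, hd, x, hx, s, by rw [← hxs, mul_inv_cancel_left]⟩

end CfsgLib.SpSixThree.CentAux
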