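import Cfsg.Agent.Lib.SpSixThree.CentSigmaData
import Cfsg.Agent.Lib.KnownB.Sp62.Code

/-!
The centralizer of `σ` in the model (statement S3342): the radical `W`, the normalizing elements
and two class functions which separate the involutions of a Sylow two-subgroup.
-/

set_option autoImplicit false
set_option maxRecDepth 100000
set_option maxHeartbeats 1000000

namespace CfsgLib.SpSixThree.CentModel

open Matrix
open CfsgLib.KnownB.Sp62 (M6 mul6 one6 eq6 dec6 app6 dv)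

/-- A code from a list of columns. -/
def ofL (c : List ℕ) : M6 :=
  ⟨c.getD 0 0, c.getD 1 0, c.getD 2 0, c.getD 3 0, c.getD 4 0, c.getD 5 0⟩

/-- The code of a letter. -/
def code (i : ℕ) : M6 := ofL (namedCols.getD i [1, 2, 4, 8, 16, 32])

/-- The code of a word. -/
def ev : List ℕ → M6
  | [] => one6
  | i :: w => mul6 (code i) (ev w)

/-- The element of a word. -/
def wv (w : List ℕ) : MSp := (w.map named).prod

theorem named_code (i : ℕ) : (named i : Matrix I6 I6 (ZMod 2)) = dec6 (code i) := by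
  by_cases h : i < 9
  · have key : ∀ j : Fin 9, ofCols (namedCols.getD j.val []) = dec6 (code j.val) := by decide +kernel
    rw [named, dif_pos h]
    exact key ⟨i, h⟩
  · rw [named, dif_neg h, code, List.getD_eq_default _ _ (by simp [namedCols]; omega)]
    exact CfsgLib.KnownB.Sp62.dec6_one.symm

theorem wv_code (w : List ℕ) : (wv w : Matrix I6 I6 (ZMod 2)) = dec6 (ev w) := by
  induction w with
  | nil => exact CfsgLib.KnownB.Sp62.dec6_one.symm
  | cons i w ih =>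
    rw [ev, CfsgLib.KnownB.Sp62.dec6_mul, ← ih, ← named_code]
    simp only [wv, List.map_cons, List.prod_cons]
    rfl

theorem wv_append (u w : List ℕ) : wv (u ++ w) = wv u * wv w := by
  rw [wv, wv, wv, List.map_append, List.prod_append]

theorem eq_of_code {u w : List ℕ} (h : eq6 (ev u) (ev w) = true) : wv u = wv w :=
  Subtype.ext (by rw [wv_code, wv_code, CfsgLib.KnownB.Sp62.eq6_iff.1 h])

theorem wv_sig : wv wSig = mSig := rfl

/-! ### Class functions -/

/-- Every vector is orthogonal to its image. -/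
def Iso (x : Matrix I6 I6 (ZMod 2)) : Prop :=
  ∀ v : I6 → ZMod 2, (x *ᵥ v) ⬝ᵥ (Matrix.J (Fin 3) (ZMod 2) *ᵥ v) = 0

/-- The number of fixed vectors. -/
noncomputable def fixN (x : Matrix I6 I6 (ZMod 2)) : ℕ :=
  Nat.card {v : I6 → ZMod 2 // x *ᵥ v = v}

theorem inv_mulVec (c : MSp) (v : I6 → ZMod 2) :
    (c : Matrix I6 I6 (ZMod 2)) *ᵥ ((c⁻¹ : MSp) : Matrix I6 I6 (ZMod 2)) *ᵥ v = v ∧
      ((c⁻¹ : MSp) : Matrix I6 I6 (ZMod 2)) *ᵥ (c : Matrix I6 I6 (ZMod 2)) *ᵥ v = v := by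
  constructor
  · rw [mulVec_mulVec, ← Submonoid.coe_mul, mul_inv_cancel, OneMemClass.coe_one, one_mulVec]
  · rw [mulVec_mulVec, ← Submonoid.coe_mul, inv_mul_cancel, OneMemClass.coe_one, one_mulVec]

theorem form_inv (c : MSp) (u v : I6 → ZMod 2) :
    ((c : Matrix I6 I6 (ZMod 2)) *ᵥ u) ⬝ᵥ
        (Matrix.J (Fin 3) (ZMod 2) *ᵥ (c : Matrix I6 I6 (ZMod 2)) *ᵥ v) =
      u ⬝ᵥ (Matrix.J (Fin 3) (ZMod 2) *ᵥ v) := by
  have h := SymplecticGroup.mem_iff'.1 c.2
  rw [mulVec_mulVec, dotProduct_mulVec, ← vecMul_transpose, vecMul_vecMul, ← Matrix.mul_assoc, h,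
    ← dotProduct_mulVec]

theorem iso_conj {x y : MSp} (h : IsConj x y) (hx : Iso (x : Matrix I6 I6 (ZMod 2))) :
    Iso (y : Matrix I6 I6 (ZMod 2)) := by
  obtain ⟨c, rfl⟩ := isConj_iff.1 h
  intro v
  obtain ⟨u, rfl⟩ : ∃ u, (c : Matrix I6 I6 (ZMod 2)) *ᵥ u = v := ⟨_, (inv_mulVec c v).1⟩
  rw [Submonoid.coe_mul, Submonoid.coe_mul, ← mulVec_mulVec, (inv_mulVec c u).2, ← mulVec_mulVec,
    form_inv]
  exact hx u

theorem iso_iff_of_conj {x y : MSp} (h : IsConj x y) :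
    Iso (x : Matrix I6 I6 (ZMod 2)) ↔ Iso (y : Matrix I6 I6 (ZMod 2)) :=
  ⟨iso_conj h, iso_conj h.symm⟩

theorem fixed_conj (c : MSp) (x : MSp) (v : I6 → ZMod 2) :
    ((c * x * c⁻¹ : MSp) : Matrix I6 I6 (ZMod 2)) *ᵥ ((c : Matrix I6 I6 (ZMod 2)) *ᵥ v) =
      (c : Matrix I6 I6 (ZMod 2)) *ᵥ ((x : Matrix I6 I6 (ZMod 2)) *ᵥ v) := by
  simp only [Submonoid.coe_mul, ← mulVec_mulVec, (inv_mulVec c v).2]

theorem fixN_conj {x y : MSp} (h : IsConj x y) :
    fixN (x : Matrix I6 I6 (ZMod 2)) = fixN (y : Matrix I6 I6 (ZMod 2)) := by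
  obtain ⟨c, rfl⟩ := isConj_iff.1 h
  have hinj : Function.Injective (fun v : I6 → ZMod 2 => (c : Matrix I6 I6 (ZMod 2)) *ᵥ v) :=
    fun u v huv => by
      have huv : (c : Matrix I6 I6 (ZMod 2)) *ᵥ u = (c : Matrix I6 I6 (ZMod 2)) *ᵥ v := huv
      rw [← (inv_mulVec c u).2, huv, (inv_mulVec c v).2]
  refine Nat.card_eq_of_bijective (fun v => ⟨(c : Matrix I6 I6 (ZMod 2)) *ᵥ v.1,
    (fixed_conj c x v.1).trans (congrArg _ v.2)⟩) ⟨fun u v huv => Subtype.ext
      (hinj (congrArg Subtype.val huv)), fun v => ?_⟩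
  obtain ⟨u, hu⟩ : ∃ u, (c : Matrix I6 I6 (ZMod 2)) *ᵥ u = v.1 := ⟨_, (inv_mulVec c v.1).1⟩
  refine ⟨⟨u, hinj ?_⟩, Subtype.ext hu⟩
  have e := v.2
  rw [← hu, fixed_conj] at e
  exact e

/-- The form on codes. -/
def symB (v w : ℕ) : Bool :=
  ((v.testBit 0 && w.testBit 3) ^^ (v.testBit 3 && w.testBit 0)) ^^
    (((v.testBit 1 && w.testBit 4) ^^ (v.testBit 4 && w.testBit 1)) ^^
      ((v.testBit 2 && w.testBit 5) ^^ (v.testBit 5 && w.testBit 2)))

theorem J_mulVec (u : I6 → ZMod 2) (i : Fin 3) :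
    (Matrix.J (Fin 3) (ZMod 2) *ᵥ u) (Sum.inl i) = u (Sum.inr i) ∧
    (Matrix.J (Fin 3) (ZMod 2) *ᵥ u) (Sum.inr i) = u (Sum.inl i) := by
  simp only [Matrix.J, mulVec, dotProduct, Fintype.sum_sum_type, fromBlocks_apply₁₁,
    fromBlocks_apply₁₂, fromBlocks_apply₂₁, fromBlocks_apply₂₂, Matrix.zero_apply,
    Matrix.neg_apply, Matrix.one_apply]
  fin_cases i <;> simp [Fin.sum_univ_three, ZMod.neg_eq_self_mod_two]

theorem form_code (v w : ℕ) :
    dv v ⬝ᵥ (Matrix.J (Fin 3) (ZMod 2) *ᵥ dv w) = if symB v w then 1 else 0 := by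
  simp only [dotProduct, Fintype.sum_sum_type, Fin.sum_univ_three, (J_mulVec (dv w) _).1,
    (J_mulVec (dv w) _).2]
  change CfsgLib.KnownB.Sp62.bit v 0 * CfsgLib.KnownB.Sp62.bit w 3 +
      CfsgLib.KnownB.Sp62.bit v 1 * CfsgLib.KnownB.Sp62.bit w 4 +
      CfsgLib.KnownB.Sp62.bit v 2 * CfsgLib.KnownB.Sp62.bit w 5 +
      (CfsgLib.KnownB.Sp62.bit v 3 * CfsgLib.KnownB.Sp62.bit w 0 +
      CfsgLib.KnownB.Sp62.bit v 4 * CfsgLib.KnownB.Sp62.bit w 1 +
      CfsgLib.KnownB.Sp62.bit v 5 * CfsgLib.KnownB.Sp62.bit w 2) = _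
  have key : ∀ a b c d e f : Bool, ∀ a' b' c' d' e' f' : Bool,
      ((if a then (1 : ZMod 2) else 0) * (if d' then 1 else 0) +
        (if b then 1 else 0) * (if e' then 1 else 0) +
        (if c then 1 else 0) * (if f' then 1 else 0) +
        ((if d then 1 else 0) * (if a' then 1 else 0) +
        (if e then 1 else 0) * (if b' then 1 else 0) +
        (if f then 1 else 0) * (if c' then 1 else 0))) =
      if ((a && d') ^^ (d && a')) ^^ (((b && e') ^^ (e && b')) ^^ ((c && f') ^^ (f && c')))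
        then 1 else 0 := by decide +kernel
  exact key _ _ _ _ _ _ _ _ _ _ _ _

/-- `Iso` on codes. -/
def isoC (a : M6) : Bool := (List.range 64).all fun v => !symB (app6 a v) v

theorem iso_iff (a : M6) : Iso (dec6 a) ↔ isoC a = true := by
  rw [isoC, List.all_eq_true]
  constructor
  · intro h v _
    have := h (dv v)
    rw [CfsgLib.KnownB.Sp62.dec6_mulVec, form_code] at this
    cases hb : symB (app6 a v) v
    · rfl
    · rw [hb] at this; simp at this
  · intro h v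
    obtain ⟨n, hn, rfl⟩ := CfsgLib.KnownB.Sp62.dv_surjective v
    rw [CfsgLib.KnownB.Sp62.dec6_mulVec, form_code]
    have := h n (List.mem_range.2 hn)
    simp only [Bool.not_eq_true'] at this
    simp [this]

/-- The number of fixed vectors on codes. -/
def fixC (a : M6) : ℕ :=
  (Finset.univ.filter fun i : Fin 64 => Nat.beq (app6 a i.val % 64) i.val = true).card

theorem fixN_eq (a : M6) : fixN (dec6 a) = fixC a := by
  rw [fixC, ← Fintype.card_subtype, ← Nat.card_eq_fintype_card, fixN]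
  have key : ∀ i : Fin 64, dec6 a *ᵥ dv i.val = dv i.val ↔
      Nat.beq (app6 a i.val % 64) i.val = true := fun i => by
    rw [CfsgLib.KnownB.Sp62.dec6_mulVec, CfsgLib.KnownB.Sp62.dv_inj, Nat.beq_eq,
      Nat.mod_eq_of_lt i.2]
  let f : {i : Fin 64 // Nat.beq (app6 a i.val % 64) i.val = true} →
      {v : I6 → ZMod 2 // dec6 a *ᵥ v = v} := fun i => ⟨dv i.1.val, (key i.1).2 i.2⟩
  refine (Nat.card_eq_of_bijective f ⟨fun i j h => ?_, ?_⟩).symm
  · refine Subtype.ext (Fin.ext ?_)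
    have := CfsgLib.KnownB.Sp62.dv_inj.1 (congrArg Subtype.val h)
    rwa [Nat.mod_eq_of_lt i.1.2, Nat.mod_eq_of_lt j.1.2] at this
  · rintro ⟨v, hv⟩
    obtain ⟨n, hn, rfl⟩ := CfsgLib.KnownB.Sp62.dv_surjective v
    exact ⟨⟨⟨n, hn⟩, (key ⟨n, hn⟩).1 hv⟩, rfl⟩

/-! ### The radical -/

/-- The code of a generator of `W`. -/
def gc (k : Fin 6) : M6 := ofL (gCols.getD k.val [])

/-- The code of an element of `W`. -/
def wc (l : Fin 128) : M6 := ofL (wCols.getD l.val [])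

/-- The word of a generator of `W`. -/
def gw (k : Fin 6) : List ℕ := gW.getD k.val []

/-- The code of a list of generators. -/
def evG : List ℕ → M6
  | [] => one6
  | k :: l => mul6 (gc ⟨k % 6, Nat.mod_lt _ (by norm_num)⟩) (evG l)

/-- The radical. -/
def Wm : Subgroup MSp := Subgroup.closure (Set.range fun k : Fin 6 => wv (gw k))

theorem gc_ok : ∀ k : Fin 6, eq6 (ev (gw k)) (gc k) = true := by decide +kernel

theorem gw_code (k : Fin 6) : (wv (gw k) : Matrix I6 I6 (ZMod 2)) = dec6 (gc k) := by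
  rw [wv_code]; exact CfsgLib.KnownB.Sp62.eq6_iff.1 (gc_ok k)

theorem table_ok : ∀ l : Fin 128, ∀ k : Fin 6,
    (wNext.getD l.val []).getD k.val 128 < 128 ∧
    eq6 (mul6 (wc l) (gc k))
      (ofL (wCols.getD ((wNext.getD l.val []).getD k.val 128) [])) = true := by
  decide +kernel

theorem list_ok : ∀ l : Fin 128, eq6 (evG (wList.getD l.val [])) (wc l) = true := by
  decide +kernel

theorem exists_rep {x : MSp} (hx : x ∈ Wm) :
    ∃ l : Fin 128, (x : Matrix I6 I6 (ZMod 2)) = dec6 (wc l) := by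
  rw [Wm, ← Subgroup.mem_toSubmonoid, Subgroup.closure_toSubmonoid_of_finite] at hx
  induction hx using Submonoid.closure_induction_right with
  | one => exact ⟨0, by decide +kernel⟩
  | mul_right x hx y hy ih =>
    obtain ⟨k, rfl⟩ := hy
    obtain ⟨l, hl⟩ := ih
    obtain ⟨h1, h2⟩ := table_ok l k
    refine ⟨⟨_, h1⟩, ?_⟩
    rw [Submonoid.coe_mul, hl, gw_code, ← CfsgLib.KnownB.Sp62.dec6_mul]
    exact CfsgLib.KnownB.Sp62.eq6_iff.1 h2

theorem evG_mem : ∀ l : List ℕ, ∃ x ∈ Wm, (x : Matrix I6 I6 (ZMod 2)) = dec6 (evG l)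
  | [] => ⟨1, one_mem _, CfsgLib.KnownB.Sp62.dec6_one.symm⟩
  | k :: l => by
    obtain ⟨x, hx, hc⟩ := evG_mem l
    refine ⟨wv (gw ⟨k % 6, Nat.mod_lt _ (by norm_num)⟩) * x,
      mul_mem (Subgroup.subset_closure ⟨_, rfl⟩) hx, ?_⟩
    rw [evG, CfsgLib.KnownB.Sp62.dec6_mul, Submonoid.coe_mul, gw_code, hc]

theorem mem_Wm {w : List ℕ} (h : (List.finRange 128).any (fun l => eq6 (ev w) (wc l)) = true) :
    wv w ∈ Wm := by
  obtain ⟨l, -, hl⟩ := List.any_eq_true.1 h
  obtain ⟨x, hx, hc⟩ := evG_mem (wList.getD l.val [])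
  have : wv w = x := Subtype.ext (by
    rw [hc, wv_code, CfsgLib.KnownB.Sp62.eq6_iff.1 hl, CfsgLib.KnownB.Sp62.eq6_iff.1 (list_ok l)])
  rw [this]; exact hx

/-- The word of `e`. -/
def we : List ℕ := [5, 6]
/-- The word of `f`. -/
def wf : List ℕ := [0, 1, 3, 4]
/-- The word of `δ`. -/
def wd : List ℕ := [5, 0, 3]
/-- The word of `q`. -/
def wq : List ℕ := [5, 0, 3, 8]

theorem mems : wv wSig ∈ Wm ∧ wv wq ∈ Wm ∧ wv (we ++ wq ++ we.reverse) ∈ Wm ∧ wv wT14 ∈ Wm ∧
    wv (wf ++ wT14 ++ wf.reverse) ∈ Wm ∧ wv (wf.reverse ++ wT14 ++ wf) ∈ Wm :=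
  ⟨mem_Wm (by decide +kernel), mem_Wm (by decide +kernel), mem_Wm (by decide +kernel),
    mem_Wm (by decide +kernel), mem_Wm (by decide +kernel), mem_Wm (by decide +kernel)⟩

/-- The normalizing words. -/
def nw (j : Fin 4) : List ℕ := [we, wf, [5], wd].getD j.val []

theorem nw_check : ∀ j : Fin 4, eq6 (ev (nw j ++ (nw j).reverse)) one6 = true ∧
    eq6 (ev (nw j ++ wSig)) (ev (wSig ++ nw j)) = true ∧
    ∀ k : Fin 6,
      (List.finRange 128).any (fun l => eq6 (ev (nw j ++ gw k ++ (nw j).reverse)) (wc l)) = true := by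
  decide +kernel

theorem wv_reverse {w : List ℕ} (h : eq6 (ev (w ++ w.reverse)) one6 = true) :
    wv w.reverse = (wv w)⁻¹ := by
  have h1 : wv (w ++ w.reverse) = wv [] := eq_of_code h
  rw [wv_append] at h1
  exact (eq_inv_of_mul_eq_one_right (h1.trans (by rfl)))

theorem nw_comm (j : Fin 4) : wv (nw j) * mSig = mSig * wv (nw j) := by
  rw [← wv_sig, ← wv_append, ← wv_append]
  exact eq_of_code (nw_check j).2.1

theorem nw_conj (j : Fin 4) {x : MSp} (hx : x ∈ Wm) : wv (nw j) * x * (wv (nw j))⁻¹ ∈ Wm := by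
  induction hx using Subgroup.closure_induction with
  | mem x hx =>
    obtain ⟨k, rfl⟩ := hx
    rw [← wv_reverse (nw_check j).1, ← wv_append, ← wv_append]
    exact mem_Wm ((nw_check j).2.2 k)
  | one => simp [one_mem]
  | mul x y _ _ hx hy =>
    have e : wv (nw j) * (x * y) * (wv (nw j))⁻¹ =
        wv (nw j) * x * (wv (nw j))⁻¹ * (wv (nw j) * y * (wv (nw j))⁻¹) := by group
    rw [e]; exact mul_mem hx hy
  | inv x _ hx =>
    have e : wv (nw j) * x⁻¹ * (wv (nw j))⁻¹ = (wv (nw j) * x * (wv (nw j))⁻¹)⁻¹ := by group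
    rw [e]; exact inv_mem hx

/-- The elements `1, ε, δ, εδ`. -/
def dw (j : Fin 4) : List ℕ := [[], [5], wd, [5] ++ wd].getD j.val []

theorem sig_code : (mSig : Matrix I6 I6 (ZMod 2)) = dec6 (ev wSig) := by
  rw [← wv_sig, wv_code]

theorem gw_comm (k : Fin 6) : wv (gw k) * mSig = mSig * wv (gw k) := by
  rw [← wv_sig, ← wv_append, ← wv_append]
  refine eq_of_code ?_
  revert k
  decide +kernel

/-- Eighth power on codes. -/
def pow8 (a : M6) : M6 :=
  let b := mul6 a a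
  let c := mul6 b b
  mul6 c c

theorem check_pow : ∀ l : Fin 128, ∀ j : Fin 4,
    eq6 (pow8 (mul6 (wc l) (ev (dw j)))) one6 = true := by decide +kernel

theorem check_out : ∀ l : Fin 128, ∀ j : Fin 4, j ≠ 0 →
    (isoC (mul6 (wc l) (ev (dw j))) &&
      isoC (mul6 (mul6 (wc l) (ev (dw j))) (ev wSig))) = false := by decide +kernel

theorem check_low : ∀ l : Fin 128, ∀ j : Fin 2,
    isoC (mul6 (wc l) (ev (dw ⟨2 * j.val, by omega⟩))) =
      isoC (mul6 (mul6 (wc l) (ev (dw ⟨2 * j.val, by omega⟩))) (ev wSig)) ∧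
    (fixC (mul6 (wc l) (ev (dw ⟨2 * j.val, by omega⟩))) = 32 →
      fixC (mul6 (mul6 (wc l) (ev (dw ⟨2 * j.val, by omega⟩))) (ev wSig)) ≠ 8) := by
  decide +kernel

theorem dw_code {x : MSp} {l : Fin 128} (h : (x : Matrix I6 I6 (ZMod 2)) = dec6 (wc l))
    (w : List ℕ) : ((x * wv w : MSp) : Matrix I6 I6 (ZMod 2)) = dec6 (mul6 (wc l) (ev w)) ∧
      ((x * wv w * mSig : MSp) : Matrix I6 I6 (ZMod 2)) =
        dec6 (mul6 (mul6 (wc l) (ev w)) (ev wSig)) := by
  refine ⟨?_, ?_⟩ <;>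
    simp only [Submonoid.coe_mul, CfsgLib.KnownB.Sp62.dec6_mul, h, wv_code, sig_code]

theorem pow_eight {x : MSp} (hx : x ∈ Wm) (j : Fin 4) : (x * wv (dw j)) ^ 8 = 1 := by
  obtain ⟨l, hl⟩ := exists_rep hx
  refine Subtype.ext ?_
  rw [SubmonoidClass.coe_pow, (dw_code hl (dw j)).1, OneMemClass.coe_one,
    ← CfsgLib.KnownB.Sp62.dec6_one, ← CfsgLib.KnownB.Sp62.eq6_iff.1 (check_pow l j), pow8]
  simp only [CfsgLib.KnownB.Sp62.dec6_mul, pow_succ, pow_zero, one_mul, Matrix.mul_assoc]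

theorem not_pair {x : MSp} (hx : x ∈ Wm) (j : Fin 4) (hj : j ≠ 0)
    (h1 : IsConj mSig (x * wv (dw j))) (h2 : IsConj mSig (x * wv (dw j) * mSig)) : False := by
  obtain ⟨l, hl⟩ := exists_rep hx
  have hs : Iso (mSig : Matrix I6 I6 (ZMod 2)) := by
    rw [sig_code, iso_iff]; decide +kernel
  have e1 := iso_conj h1 hs
  have e2 := iso_conj h2 hs
  rw [(dw_code hl (dw j)).1, iso_iff] at e1
  rw [(dw_code hl (dw j)).2, iso_iff] at e2
  have := check_out l j hj
  simp [e1, e2] at this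

theorem not_low_eps {x : MSp} (hx : x ∈ Wm) (j : Fin 4) (hj : j = 0 ∨ j = 2)
    (h1 : IsConj (wv [5]) (x * wv (dw j)))
    (h2 : IsConj (wv [5] * mSig) (x * wv (dw j) * mSig)) : False := by
  obtain ⟨l, hl⟩ := exists_rep hx
  have e1 := fixN_conj h1
  have e2 := fixN_conj h2
  rw [(dw_code hl (dw j)).1, wv_code, fixN_eq, fixN_eq] at e1
  rw [(dw_code hl (dw j)).2, ← wv_sig, ← wv_append, wv_code, fixN_eq, fixN_eq] at e2
  have k1 : fixC (ev [5]) = 32 := by decide +kernel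
  have k2 : fixC (ev ([5] ++ wSig)) = 8 := by decide +kernel
  rw [k1] at e1
  rw [k2] at e2
  rcases hj with rfl | rfl
  · exact (check_low l 0).2 e1.symm e2.symm
  · exact (check_low l 1).2 e1.symm e2.symm

theorem not_low_eps_delta {x : MSp} (hx : x ∈ Wm) (j : Fin 4) (hj : j = 0 ∨ j = 2)
    (h1 : IsConj (wv ([5] ++ wd)) (x * wv (dw j)))
    (h2 : IsConj (wv ([5] ++ wd) * mSig) (x * wv (dw j) * mSig)) : False := by
  obtain ⟨l, hl⟩ := exists_rep hx
  have e1 := iso_iff_of_conj h1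
  have e2 := iso_iff_of_conj h2
  rw [(dw_code hl (dw j)).1, wv_code, iso_iff, iso_iff] at e1
  rw [(dw_code hl (dw j)).2, ← wv_sig, ← wv_append, wv_code, iso_iff, iso_iff] at e2
  have k : isoC (ev ([5] ++ wd)) ≠ isoC (ev (([5] ++ wd) ++ wSig)) := by decide +kernel
  rw [Bool.coe_iff_coe] at e1 e2
  rcases hj with rfl | rfl
  · exact k (e1.trans ((check_low l 0).1.trans e2.symm))
  · exact k (e1.trans ((check_low l 1).1.trans e2.symm))

theorem conj_check : ∀ k : Fin 6,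
    eq6 (ev (conjA.getD k.val [] ++ (conjA.getD k.val []).reverse)) one6 = true ∧
    eq6 (ev (conjA.getD k.val [] ++ wSig ++ (conjA.getD k.val []).reverse)) (ev (gw k)) = true ∧
    eq6 (ev (conjB.getD k.val [] ++ (conjB.getD k.val []).reverse)) one6 = true ∧
    eq6 (ev (conjB.getD k.val [] ++ wSig ++ (conjB.getD k.val []).reverse))
      (ev (gw k ++ wSig)) = true := by decide +kernel

theorem gw_pair (k : Fin 6) :
    IsConj mSig (wv (gw k)) ∧ IsConj mSig (wv (gw k) * mSig) := by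
  obtain ⟨a1, a2, b1, b2⟩ := conj_check k
  constructor
  · refine isConj_iff.2 ⟨wv (conjA.getD k.val []), ?_⟩
    rw [← wv_reverse a1, ← wv_sig, ← wv_append, ← wv_append]
    exact eq_of_code a2
  · refine isConj_iff.2 ⟨wv (conjB.getD k.val []), ?_⟩
    rw [← wv_reverse b1, ← wv_sig, ← wv_append, ← wv_append, ← wv_append]
    exact eq_of_code b2

theorem q_two_not_mem : wv (we ++ wq ++ we.reverse) ∉ Subgroup.zpowers (wv wq) := by
  intro h
  have h4 : wv wq ^ 4 = 1 := by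
    rw [show wv wq ^ 4 = wv (wq ++ (wq ++ (wq ++ wq))) by
      simp only [wv_append, pow_succ, pow_zero, one_mul, mul_assoc]]
    exact eq_of_code (w := []) (by decide +kernel)
  rw [← mem_powers_iff_mem_zpowers, Submonoid.mem_powers_iff] at h
  obtain ⟨n, hn⟩ := h
  rw [pow_eq_pow_mod n h4] at hn
  have key : ∀ i : Fin 4,
      eq6 (ev (we ++ wq ++ we.reverse)) (ev ((List.replicate i.val wq).flatten)) = false := by
    decide +kernel
  have := key ⟨n % 4, Nat.mod_lt _ (by norm_num)⟩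
  have hp : ∀ i : ℕ, wv ((List.replicate i wq).flatten) = wv wq ^ i := by
    intro i
    induction i with
    | zero => rfl
    | succ i ih => rw [List.replicate_succ, List.flatten_cons, wv_append, ih, pow_succ']
  have e : (wv (we ++ wq ++ we.reverse) : Matrix I6 I6 (ZMod 2)) =
      wv ((List.replicate (n % 4) wq).flatten) := congrArg Subtype.val (hn.symm.trans (hp _).symm)
  rw [wv_code, wv_code, ← CfsgLib.KnownB.Sp62.eq6_iff] at e
  exact Bool.false_ne_true (this.symm.trans e)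

end CfsgLib.SpSixThree.CentModel
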