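import Mathlib

/-!
# The named generators of `Sp₆(2)` and the relators (statement S3342)

Letters: `0 … 4` the transpositions `(i, i+1)` of `S₆`, `5 = p`, `6 = p₂` (with `p p₂ = e`), `7 = b σ`,
`8 = δ q` with `δ = p s₁ s₄`.  A matrix is given by the six bit masks of its columns, the indices
`inl i ↦ i`, `inr i ↦ i + 3`.
-/

set_option autoImplicit false
set_option maxRecDepth 100000

namespace CfsgLib.SpSixThree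

/-- The six indices. -/
abbrev I6 : Type := Fin 3 ⊕ Fin 3

/-- `Sp₆(2)`. -/
abbrev MSp : Type := ↥(Matrix.symplecticGroup (Fin 3) (ZMod 2))

/-- The position of an index. -/
def pos : I6 → ℕ
  | Sum.inl i => i
  | Sum.inr i => i + 3

/-- The matrix with given columns. -/
def ofCols (c : List ℕ) : Matrix I6 I6 (ZMod 2) :=
  Matrix.of fun i j => if (c.getD (pos j) 0).testBit (pos i) then 1 else 0

/-- The columns of the named generators. -/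
def namedCols : List (List ℕ) :=
  [[1, 2, 4, 8, 18, 32], [1, 18, 4, 8, 16, 32], [1, 2, 4, 8, 22, 38], [1, 2, 36, 8, 16, 32], [1, 2, 4, 8, 16, 36], [1, 2, 4, 9, 16, 32], [9, 2, 4, 8, 16, 32], [2, 1, 4, 16, 8, 32], [35, 53, 57, 63, 15, 23]]

theorem namedCols_mem : ∀ i : Fin 9,
    ofCols (namedCols.getD i.val []) ∈ Matrix.symplecticGroup (Fin 3) (ZMod 2) := by
  intro i
  rw [SymplecticGroup.mem_iff]
  revert i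
  decide +kernel

/-- The named generators. -/
def named (i : ℕ) : MSp := if h : i < 9 then ⟨_, namedCols_mem ⟨i, h⟩⟩ else 1

/-- The word of `(0 3)`. -/
def wT14 : List ℕ := [2, 1, 0, 1, 2]

/-- The word of `σ = (0 3)(1 4)(2 5)`. -/
def wSig : List ℕ := [2, 1, 0, 1, 2, 3, 2, 1, 2, 3, 4, 3, 2, 3, 4]

/-- `σ` in the model. -/
def mSig : MSp := (wSig.map named).prod

/-- The relators. -/
def rels : List (List ℕ) :=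
  [[0, 0],
   [1, 1],
   [2, 2],
   [3, 3],
   [4, 4],
   [5, 5],
   [6, 6],
   [7, 7],
   [8, 8],
   [0, 1, 0, 1, 0, 1],
   [0, 2, 0, 2],
   [0, 3, 0, 3],
   [0, 4, 0, 4],
   [0, 5, 0, 5],
   [0, 6, 0, 6],
   [1, 2, 1, 2, 1, 2],
   [1, 3, 1, 3],
   [1, 4, 1, 4],
   [1, 5, 1, 5],
   [1, 6, 1, 6],
   [2, 3, 2, 3, 2, 3],
   [2, 4, 2, 4],
   [2, 5, 2, 5],
   [2, 6, 2, 6],
   [3, 4, 3, 4, 3, 4],
   [3, 5, 3, 5],
   [3, 6, 3, 6],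
   [4, 5, 4, 5],
   [4, 6, 4, 6],
   [5, 6, 5, 6, 5, 6],
   [7, 3, 7, 3],
   [7, 5, 7, 0],
   [7, 6, 7, 1],
   [7, 4, 7, 4],
   [7, 2, 1, 0, 1, 2, 3, 2, 1, 2, 3, 4, 3, 2, 3, 4, 7, 2, 1, 0, 1, 2, 3, 2, 1, 2, 3, 4, 3, 2, 3, 4, 7, 2, 1, 0, 1, 2, 3, 2, 1, 2, 3, 4, 3, 2, 3, 4],
   [5, 0, 3, 8, 5, 0, 3, 8, 2, 1, 0, 1, 2, 3, 2, 1, 2, 3, 4, 3, 2, 3, 4],
   [5, 0, 3, 8, 5, 6, 0, 1, 3, 4, 8, 5, 0, 3, 4, 3, 1, 0, 6, 5],
   [5, 0, 3, 8, 0, 1, 4, 3, 8, 5, 0, 3, 4, 3, 2, 3, 4, 3, 2, 1, 2, 3, 2, 1, 0, 1, 2, 7],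
   [5, 0, 3, 8, 7, 2, 1, 0, 1, 2, 3, 2, 1, 2, 3, 4, 3, 2, 3, 4, 8, 5, 0, 3, 0, 1, 4, 3],
   [5, 0, 3, 8, 6, 5, 5, 0, 3, 8, 6, 5, 5, 0, 3, 8, 6, 5],
   [5, 0, 3, 8, 2, 1, 0, 1, 2, 8, 5, 0, 3, 2, 1, 0, 1, 2]]

end CfsgLib.SpSixThree
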