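import Cfsg.Agent.Lib.PSpAmalgam.Frame
import Cfsg.Agent.Lib.SpSixThree.Model
import Cfsg.Statements.S3342

/-!
# `PSp₄(3)`, its automorphism group and `Sp₆(2)` from a centralizer of order three (S3342): the pieces

`J` has the coordinates of `PSpAmalgam`, `a = (1,1,1)`, `e = (1,0,0)`, `f = (0,1,1)`, `σ` exchanges
the last two coordinates and `β` permutes cyclically; see `tools/S3342_plan.md`.
-/

set_option autoImplicit false

namespace CfsgLib.SpSixThree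

open Subgroup
open CfsgLib.PSpAmalgam (V3 zV eV fV gV actR actS)

universe u v

/-- Codes of signs and permutations of the coordinates. -/
abbrev K8 : Type := (Fin 2 × Fin 2 × Fin 2) × Fin 3 × Fin 2

/-- A sign. -/
def sg (i : Fin 2) (t : ZMod 3) : ZMod 3 := if i.val = 0 then t else -t

/-- The action of a code. -/
def act8 (k : K8) (x : V3) : V3 :=
  let y := actR^[k.2.1.val] (actS^[k.2.2.val] x)
  (sg k.1.1 y.1, sg k.1.2.1 y.2.1, sg k.1.2.2 y.2.2)

/-- The sum of the coordinates. -/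
def vsum (x : V3) : ZMod 3 := x.1 + x.2.1 + x.2.2

/-- The coordinates of `J` and the structure of `C(a)`. -/
structure Base (G : Type u) [Group G] where
  v : V3 → G
  v_add : ∀ x y, v (x + y) = v x * v y
  v_inj : Function.Injective v
  J : Subgroup G
  mem_J : ∀ g, g ∈ J ↔ ∃ x, v x = g
  R : Subgroup G
  card_R : Nat.card R = 27
  R_cube : ∀ r ∈ R, r ^ 3 = 1
  R_comm : ∀ r ∈ R, r * v zV = v zV * r
  R_normal : centralizer ({v zV} : Set G) ≤ normalizer (R : Set G)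
  v_mem_R : ∀ x, v x ∈ R ↔ vsum x = 0
  β : G
  β_mem : β ∈ R
  β_cube : β * β * β = 1
  σ : G
  σ_sq : σ * σ = 1
  σ_β : σ * β * σ = β⁻¹
  conj_β : ∀ x, β * v x * β⁻¹ = v (actR x)
  conj_σ : ∀ x, σ * v x * σ⁻¹ = v (actS x)
  q : G
  q_sq : q * q = σ
  q_a : q * v zV = v zV * q
  q_gV : q * v gV * q⁻¹ = β
  q_β : q * β * q⁻¹ = (v gV)⁻¹
  q_e : q * (v eV)⁻¹ * (q * (v eV)⁻¹) * (q * (v eV)⁻¹) = 1
  sl : Matrix.SpecialLinearGroup (Fin 2) (ZMod 3) →* G
  sl_inj : Function.Injective sl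
  sl_cent : ∀ u, sl u * v zV = v zV * sl u ∧ sl u * σ = σ * sl u
  sl_neg : sl (-1) = σ
  sl_z' : ∃ u, sl u = v (1, 2, 2)
  sl_q : ∃ u, sl u = q
  card_cent_z : Nat.card (centralizer ({v zV} : Set G)) = 648
  card_cent_z_σ : Nat.card ↥(centralizer ({v zV} : Set G) ⊓ centralizer ({σ} : Set G)) = 72
  cent_z_gen : ∀ c : G, c * v zV = v zV * c →
    c ∈ closure ({v zV, v gV, β, q, v eV} : Set G)
  cent_J : centralizer (J : Set G) = J
  sylow : ¬ 243 ∣ Nat.card G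
  monomial : ∀ n ∈ normalizer (J : Set G), ∃ k : K8, ∀ x, n * v x * n⁻¹ = v (act8 k x)
  fusion : ∀ x y, IsConj (v x) (v y) → ∃ n ∈ normalizer (J : Set G), n * v x * n⁻¹ = v y
  three : ∀ g : G, orderOf g = 3 → ∃ x, IsConj (v x) g
  sig : ∀ K : Subgroup G, (Nat.card K).Coprime 3 → J ≤ normalizer (K : Set G) → K = ⊥

variable {G : Type u} [Group G]

/-- All of `N(J)` fixes `a`. -/
def One (B : Base G) : Prop :=
  ∀ n ∈ normalizer (B.J : Set G), n * B.v zV = B.v zV * n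

/-- `N(J)` induces `±1` with the permutations of the coordinates. -/
def Two (B : Base G) : Prop :=
  (∃ d : G, d * d = 1 ∧ (∀ x, d * B.v x * d⁻¹ = B.v (-x)) ∧ d * B.σ = B.σ * d ∧
    d * B.β = B.β * d) ∧
  ∀ n ∈ normalizer (B.J : Set G),
    n * B.v zV * n⁻¹ = B.v zV ∨ n * B.v zV * n⁻¹ = B.v (-zV)

/-- `N(J)` induces the even signs. -/
def Four (B : Base G) : Prop :=
  (∃ d : G, d * d = 1 ∧ (∀ x, d * B.v x * d⁻¹ = B.v (x.1, -x.2.1, -x.2.2)) ∧
    d * B.σ = B.σ * d) ∧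
  ∀ n ∈ normalizer (B.J : Set G), n * B.v zV * n⁻¹ ≠ B.v (-zV)

/-- `N(J)` induces all signs; `ε` changes the first one. -/
structure Eight (B : Base G) where
  ε : G
  ε_sq : ε * ε = 1
  conj_ε : ∀ x, ε * B.v x * ε⁻¹ = B.v (-x.1, x.2.1, x.2.2)
  ε_σ : ε * B.σ = B.σ * ε
  ε_comm : ε * (B.β * ε * B.β⁻¹) = B.β * ε * B.β⁻¹ * ε
  q_inv : ε * (B.β * ε * B.β⁻¹) * (B.β⁻¹ * ε * B.β) * B.q *
    (ε * (B.β * ε * B.β⁻¹) * (B.β⁻¹ * ε * B.β))⁻¹ = B.q⁻¹
  normalizer_mem : ∀ n ∈ normalizer (B.J : Set G), ∃ (x : V3) (i j l : Fin 2) (r : Fin 3) (s : Fin 2),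
    n = B.v x * ε ^ i.val * (B.β * ε * B.β⁻¹) ^ j.val * (B.β⁻¹ * ε * B.β) ^ l.val *
      B.β ^ r.val * B.σ ^ s.val

/-- The second and third signs. -/
def Eight.ε2 {B : Base G} (E : Eight B) : G := B.β * E.ε * B.β⁻¹
/-- The third sign. -/
def Eight.ε3 {B : Base G} (E : Eight B) : G := B.β⁻¹ * E.ε * B.β
/-- The central sign. -/
def Eight.δ {B : Base G} (E : Eight B) : G := E.ε * E.ε2 * E.ε3

theorem Eight.conj_δ_zV {B : Base G} (E : Eight B) : E.δ * B.v zV * E.δ⁻¹ = B.v (-zV) := by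
  have h2 : ∀ x, E.ε2 * B.v x * E.ε2⁻¹ = B.v (x.1, -x.2.1, x.2.2) := fun x => by
    obtain ⟨y, rfl⟩ : ∃ y, actR y = x := ⟨(x.2.1, x.2.2, x.1), rfl⟩
    have e : B.v ((actR y).1, -(actR y).2.1, (actR y).2.2) =
        B.β * (E.ε * B.v y * E.ε⁻¹) * B.β⁻¹ := by rw [E.conj_ε, B.conj_β]; rfl
    rw [e, ← B.conj_β y, Eight.ε2]; group
  have h3 : ∀ x, E.ε3 * B.v x * E.ε3⁻¹ = B.v (x.1, x.2.1, -x.2.2) := fun x => by
    have e : B.v x = B.β⁻¹ * B.v (actR x) * B.β := by rw [← B.conj_β]; group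
    have e' : B.v (x.1, x.2.1, -x.2.2) = B.β⁻¹ * B.v (actR (x.1, x.2.1, -x.2.2)) * B.β := by
      rw [← B.conj_β]; group
    rw [e, e', show actR (x.1, x.2.1, -x.2.2) = (-(actR x).1, (actR x).2.1, (actR x).2.2) from rfl,
      ← E.conj_ε, Eight.ε3]; group
  calc E.δ * B.v zV * E.δ⁻¹
      = E.ε * (E.ε2 * (E.ε3 * B.v zV * E.ε3⁻¹) * E.ε2⁻¹) * E.ε⁻¹ := by rw [Eight.δ]; group
    _ = B.v (-zV) := by rw [h3, h2, E.conj_ε]; rfl

/-- The local centralizers common to the cases with all signs. -/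
structure Loc8 (B : Base G) : Prop where
  plane : ∀ x y : V3, x ≠ 0 → (∀ t : ZMod 3, y ≠ (t * x.1, t * x.2.1, t * x.2.2)) →
    centralizer ({B.v x, B.v y} : Set G) ≤ normalizer (B.J : Set G)
  cent_f : centralizer ({B.v fV} : Set G) ≤ normalizer (B.J : Set G)

/-- The centralizer of `e` is `⟨e⟩ × S₆`. -/
structure Six {B : Base G} (E : Eight B) where
  φ : Equiv.Perm (Fin 6) →* G
  φ_inj : Function.Injective φ
  φ_e : ∀ π, φ π * B.v eV = B.v eV * φ π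
  φ_cov : ∀ c, c * B.v eV = B.v eV * c → ∃ (i : ℕ) (π : Equiv.Perm (Fin 6)), c = B.v eV ^ i * φ π
  φ_g : φ (Equiv.swap 0 1 * Equiv.swap 1 2) = B.v (0, 1, 0)
  φ_h : φ (Equiv.swap 3 4 * Equiv.swap 4 5) = B.v (0, 0, 1)
  φ_ε2 : φ (Equiv.swap 0 1) = E.ε2
  φ_ε3 : φ (Equiv.swap 3 4) = E.ε3
  φ_σ : φ (Equiv.swap 0 3 * Equiv.swap 1 4 * Equiv.swap 2 5) = B.σ
  φ_ε : ∀ π, φ π * E.ε = E.ε * φ π

/-- `Q` centralizes the transpositions fixed by `σ`. -/
def Key {B : Base G} {E : Eight B} (S : Six E) : Prop :=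
  B.q * S.φ (Equiv.swap 0 3) = S.φ (Equiv.swap 0 3) * B.q

/-- The named elements of `G`. -/
def gen {B : Base G} {E : Eight B} (S : Six E) : ℕ → G
  | 0 => S.φ (Equiv.swap 0 1)
  | 1 => S.φ (Equiv.swap 1 2)
  | 2 => S.φ (Equiv.swap 2 3)
  | 3 => S.φ (Equiv.swap 3 4)
  | 4 => S.φ (Equiv.swap 4 5)
  | 5 => E.ε
  | 6 => E.ε * B.v eV
  | 7 => B.β * B.σ
  | 8 => E.δ * B.q
  | _ => 1

/-- An embedding of the model on the named elements. -/
structure Emb {B : Base G} {E : Eight B} (S : Six E) where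
  ι : MSp →* G
  ι_inj : Function.Injective ι
  ι_named : ∀ i < 9, ι (named i) = gen S i
  ι_sig : ι mSig = B.σ

/-! ## The pieces -/

/-- P1: the coordinates and the structure of `C(a)`. -/
def StmtSetup : Prop := ∀ {G : Type u} [Group G] [Finite G] (a : G), orderOf a = 3 →
  ∀ (C : Subgroup G), C = centralizer ({a} : Set G) → Cfsg.IsExtraspecial 3 (Cfsg.pCore 3 C) →
  Nat.card (Cfsg.pCore 3 C) = 27 → (∀ r ∈ Cfsg.pCore 3 C, r ^ 3 = 1) →
  ∀ (_ : C ⧸ Cfsg.pCore 3 C ≃* Matrix.SpecialLinearGroup (Fin 2) (ZMod 3)) (J : Subgroup G),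
  J ≤ C → IsMulCommutative J → (∀ j ∈ J, j ^ 3 = 1) → Nat.card J = 27 →
  (∀ K : Subgroup G, (Nat.card K).Coprime 3 →
    (∀ j ∈ J, K.map (MulAut.conj j).toMonoidHom = K) → K = ⊥) →
  ∃ B : Base G, B.J = J ∧ B.v zV = a

/-- P1: the four possibilities for the signs. -/
def StmtCases : Prop := ∀ {G : Type u} [Group G] [Finite G] (B : Base G),
  One B ∨ Two B ∨ Four B ∨ Nonempty (Eight B)

/-- P2: the local centralizers with all signs. -/
def StmtLoc8 : Prop := ∀ {G : Type u} [Group G] [Finite G] (B : Base G), Eight B → Loc8 B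

/-- P2: the centralizer of `e` with all signs. -/
def StmtCentE : Prop := ∀ {G : Type u} [Group G] [Finite G] (B : Base G) (E : Eight B), Loc8 B →
  centralizer ({B.v eV} : Set G) ≤ normalizer (B.J : Set G) ∨ Nonempty (Six E)

/-- P3: no sign. -/
def StmtOne : Prop := ∀ {G : Type u} [Group G] [Finite G] (B : Base G), One B →
  ∃ N : Subgroup G, N.Normal ∧ N.index = 3

/-- P3: the central sign. -/
def StmtTwo : Prop := ∀ {G : Type u} [Group G] [Finite G] (B : Base G), Two B →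
  normalizer (zpowers (B.v zV) : Set G) = ⊤

/-- P3: the even signs. -/
def StmtFour : Prop := ∀ {G : Type u} [Group G] [Finite G] (B : Base G), Four B →
  ∀ (F : Type v) [Field F] [Fintype F], Fintype.card F = 3 → Nonempty (G ≃* Cfsg.PSp 2 F)

/-- P4: the centralizer of `e` in `N(J)`: the two quaternion groups commute. -/
def StmtAutW : Prop := ∀ {G : Type u} [Group G] [Finite G] (B : Base G) (E : Eight B), Loc8 B →
  centralizer ({B.v eV} : Set G) ≤ normalizer (B.J : Set G) →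
  ∀ x ∈ closure ({B.q, B.v eV * B.q * (B.v eV)⁻¹} : Set G),
    ∀ y ∈ closure ({B.q, B.v eV * B.q * (B.v eV)⁻¹} : Set G),
      x * (E.ε * y * E.ε⁻¹) = E.ε * y * E.ε⁻¹ * x

/-- P4: the automorphism group. -/
def StmtAut : Prop := ∀ {G : Type u} [Group G] [Finite G] (B : Base G) (E : Eight B), Loc8 B →
  centralizer ({B.v eV} : Set G) ≤ normalizer (B.J : Set G) →
  (∀ x ∈ closure ({B.q, B.v eV * B.q * (B.v eV)⁻¹} : Set G),
    ∀ y ∈ closure ({B.q, B.v eV * B.q * (B.v eV)⁻¹} : Set G),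
      x * (E.ε * y * E.ε⁻¹) = E.ε * y * E.ε⁻¹ * x) →
  ∀ (F : Type v) [Field F] [Fintype F], Fintype.card F = 3 →
    Nonempty (G ≃* MulAut (Cfsg.PSp 2 F))

/-- P5: the key relation. -/
def StmtKey : Prop := ∀ {G : Type u} [Group G] [Finite G] {B : Base G} {E : Eight B} (S : Six E),
  Loc8 B → Key S

/-- P6: the relators hold. -/
def StmtRels : Prop := ∀ {G : Type u} [Group G] [Finite G] {B : Base G} {E : Eight B} (S : Six E),
  Key S → ∀ w ∈ rels, (w.map (gen S)).prod = 1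

/-- P6: the relators present the model. -/
def StmtPresent : Prop := ∀ {G : Type u} [Group G] (X : ℕ → G),
  (∀ w ∈ rels, (w.map X).prod = 1) → X 0 ≠ 1 →
  ∃ ι : MSp →* G, Function.Injective ι ∧ ∀ i < 9, ι (named i) = X i

/-- P6: every involution of the model commutes with an element of order three. -/
def StmtModelInvol : Prop :=
  ∀ x : MSp, orderOf x = 2 → ∃ c : MSp, orderOf c = 3 ∧ c * x = x * c

/-- P7: elements of order three do not leave the image, and it controls the fusion of involutions. -/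
def StmtStrong : Prop := StmtModelInvol → ∀ {G : Type u} [Group G] [Finite G] {B : Base G}
  {E : Eight B} {S : Six E} (X : Emb S), Loc8 B →
  (∀ (g x : G), x ∈ X.ι.range → orderOf x = 3 → g * x * g⁻¹ ∈ X.ι.range → g ∈ X.ι.range) ∧
  ∀ x y : MSp, orderOf x = 2 → IsConj (X.ι x) (X.ι y) → IsConj x y

/-- P7: the centralizer of `σ`. -/
def StmtCentSigma : Prop := ∀ {G : Type u} [Group G] [Finite G] {B : Base G}
  {E : Eight B} {S : Six E} (X : Emb S), Loc8 B →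
  (∀ (g x : G), x ∈ X.ι.range → orderOf x = 3 → g * x * g⁻¹ ∈ X.ι.range → g ∈ X.ι.range) →
  (∀ x y : MSp, orderOf x = 2 → IsConj (X.ι x) (X.ι y) → IsConj x y) →
  centralizer ({B.σ} : Set G) ≤ X.ι.range

/-- P8: what the census needs from the model. -/
def StmtCensusModel : Prop :=
  mSig * mSig = 1 ∧ mSig ≠ 1 ∧ ∃ T : Subgroup MSp, (∀ t ∈ T, mSig * t = t * mSig) ∧
    (∀ K : Subgroup MSp, IsPGroup 2 K → ∃ h : MSp, ∀ k ∈ K, h * k * h⁻¹ ∈ T) ∧
    ∀ K : Subgroup MSp, K ≤ T → (∀ c ∈ K, ∀ d ∈ K, c * d = d * c) →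
      (∀ k ∈ K, ¬ IsConj mSig k) →
      (∃ k : MSp, k ∉ K ∧ (∀ c ∈ K, k * c = c * k) ∧ k * k ∈ K ∧ ∀ c ∈ K, ¬ IsConj mSig (k * c)) ∨
      ∀ L : Subgroup MSp, L ≤ centralizer (K : Set MSp) → Odd (Nat.card L) →
        Nat.card L * Nat.card K <
          Nat.card {x : MSp // x ∈ centralizer (K : Set MSp) ∧ x ∉ K ∧ x * x ∈ K}

/-- P8: the census. -/
def StmtCensus : Prop := StmtCensusModel → ∀ {G : Type u} [Group G] [Finite G] (ι : MSp →* G),
  Function.Injective ι → centralizer ({ι mSig} : Set G) ≤ ι.range →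
  (∀ x y : MSp, orderOf x = 2 → IsConj (ι x) (ι y) → IsConj x y) → ι.range = ⊤

end CfsgLib.SpSixThree
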