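import Cfsg.Agent.Lib.SpSixThree.KeyBase

/-!
The key relation of S3342: `q` centralizes the transpositions fixed by `σ`.

Otherwise the centralizer of the base normalizes `⟨e⟩`, and an element of `C(σ)` normalizing the known
two-subgroup of order thirty-two fixes the base, hence `⟨e⟩`, hence lies in that subgroup.
-/

set_option autoImplicit false
set_option linter.style.haveILetI false
set_option linter.unusedSectionVars false
set_option maxRecDepth 100000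
set_option synthInstance.maxHeartbeats 400000

namespace CfsgLib.SpSixThree.KeyProof

open Subgroup Equiv
open CfsgLib.PSpAmalgam (V3 zV eV fV gV actR actS)
open KeyModel

universe u

theorem act8_fix_f : ∀ k : K8, act8 k fV = fV → (∀ x, act8 k (act8 k (act8 k x)) = x) →
    ∀ x, act8 k x = x := by decide +kernel

theorem act8_e_f : ∀ k : K8, act8 k fV ≠ eV ∧ act8 k fV ≠ -eV := by decide +kernel

theorem fixed_εσ : ∀ x : V3, ((-(actS x).1, (actS x).2.1, (actS x).2.2) : V3) = x →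
    x = 0 ∨ x = fV ∨ x = -fV := by decide +kernel

theorem pow_four_T : ∀ π, InT π → π ^ 4 = 1 := by decide +kernel

theorem transp_moves : swap (0 : Fin 6) 1 ≠ 1 ∧ u0 ≠ u2 ∧ u1 ≠ u2 ∧ u2 ≠ 1 ∧ u0 ≠ 1 ∧ u1 ≠ 1 ∧
    u0 * u0 = 1 ∧ u1 * u1 = 1 ∧ sm ≠ 1 := by decide +kernel

theorem to_u0 : (∃ k : P6, k * u1 * k⁻¹ = swap 0 1) ∧ (∃ k : P6, k * u2 * k⁻¹ = swap 0 1) ∧
    (∃ k : P6, k * zm * k⁻¹ = tm) ∧ ∃ k : P6, k * (tm * sm) * k⁻¹ = sm := by decide +kernel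

section group

variable {H : Type u} [Group H]

theorem zpowers_three {x w : H} (hx : x ^ 3 = 1) (hw : w ∈ zpowers x) :
    w = 1 ∨ w = x ∨ w = x⁻¹ := by
  obtain ⟨j, rfl⟩ := mem_zpowers_iff.1 hw
  have h : x ^ j = x ^ (j % 3) := by
    conv_lhs => rw [← Int.emod_add_mul_ediv j 3]
    rw [zpow_add, zpow_mul, show x ^ (3 : ℤ) = 1 by rw [show (3 : ℤ) = (3 : ℕ) from rfl,
      zpow_natCast, hx], one_zpow, mul_one]
  rcases (show j % 3 = 0 ∨ j % 3 = 1 ∨ j % 3 = 2 by omega) with e | e | e <;> rw [h, e]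
  · exact Or.inl (zpow_zero x)
  · exact Or.inr (Or.inl (zpow_one x))
  · refine Or.inr (Or.inr (eq_inv_of_mul_eq_one_left ?_))
    rw [← zpow_add_one, show (2 : ℤ) + 1 = (3 : ℕ) from rfl, zpow_natCast, hx]

theorem conj_pow_three (c a : H) : c * (c * (c * a * c⁻¹) * c⁻¹) * c⁻¹ = c ^ 3 * a * (c ^ 3)⁻¹ := by
  rw [pow_succ, pow_two]; group

/-- In the centraliser of `y` all elementary three-subgroups fuse into `⟨x⟩`. -/
theorem only_type [Finite H] {y x : H} (hx3 : x ^ 3 = 1) (hx1 : x ≠ 1) (hxy : x * y = y * x)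
    (hw : ∀ w, w ^ 3 = 1 → w * x = x * w → w * y = y * w → w ∈ zpowers x)
    {g h : H} (hg : g ^ 3 = 1) (hh : h ^ 3 = 1) (hgh : g * h = h * g) (hgy : g * y = y * g)
    (hhy : h * y = y * h) : ∃ k, k * g * k⁻¹ ∈ zpowers x ∧ k * h * k⁻¹ ∈ zpowers x := by
  haveI : Fact (Nat.Prime 3) := ⟨Nat.prime_three⟩
  obtain ⟨C, hC⟩ : ∃ C : Subgroup H, C = centralizer {y} := ⟨_, rfl⟩
  have mem : ∀ c, c ∈ C ↔ c * y = y * c := fun c => hC ▸ mem_centralizer_singleton_iff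
  have hp : ∀ {c : C}, (c : H) ^ 3 = 1 → IsPGroup 3 (zpowers c) := fun {c} hc w => ⟨1, by
    obtain ⟨j, hj⟩ := mem_zpowers_iff.1 w.2
    apply Subtype.ext
    rw [pow_one, coe_pow, ← hj, ← zpow_natCast, ← zpow_mul, mul_comm, zpow_mul, zpow_natCast,
      show c ^ 3 = 1 from Subtype.ext hc, one_zpow, coe_one]⟩
  obtain ⟨P, hP⟩ := (hp (c := ⟨x, (mem _).2 hxy⟩) hx3).exists_le_sylow
  have hxP : (⟨x, (mem _).2 hxy⟩ : C) ∈ P := hP (mem_zpowers _)
  have hPd : 3 ∣ Nat.card P := by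
    have h1 : orderOf x = 3 := orderOf_eq_prime hx3 hx1
    have h2 := Subgroup.card_dvd_of_le hP
    rwa [Nat.card_zpowers, ← orderOf_injective C.subtype C.subtype_injective, Subgroup.subtype_apply,
      h1] at h2
  have hxc : ∀ c ∈ P, (c : H) * x = x * (c : H) := by
    haveI : Nontrivial P := Finite.one_lt_card_iff_nontrivial.1
      (lt_of_lt_of_le (by norm_num) (Nat.le_of_dvd Nat.card_pos hPd))
    have := P.isPGroup'.center_nontrivial
    obtain ⟨m, hm, hm'⟩ := (P.isPGroup'.to_subgroup (center P)).nontrivial_iff_card.1 this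
    obtain ⟨z, hz⟩ := exists_prime_orderOf_dvd_card' (G := center P) 3
      (hm' ▸ dvd_pow_self 3 hm.ne')
    have hz3 : ((z : P) : C).1 ^ 3 = 1 := by
      have := hz ▸ pow_orderOf_eq_one z
      exact congrArg (fun t : center P => ((t : P) : C).1) this
    have hzc : ∀ c ∈ P, (c : H) * ((z : P) : C).1 = ((z : P) : C).1 * (c : H) := fun c hc =>
      congrArg (fun t : P => (t : C).1) (mem_center_iff.1 z.2 ⟨c, hc⟩)
    rcases zpowers_three hx3 (hw _ hz3 (hzc _ hxP).symm ((mem _).1 ((z : P) : C).2)) with e | e | e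
    · exfalso
      have : z = 1 := Subtype.ext (Subtype.ext (Subtype.ext e))
      rw [this, orderOf_one] at hz
      omega
    · exact fun c hc => by rw [← e]; exact hzc c hc
    · exact fun c hc => by
        have := hzc c hc
        rw [e] at this
        exact (Commute.inv_right_iff.1 this).eq
  have hA : IsPGroup 3 (zpowers (⟨g, (mem _).2 hgy⟩ : C) ⊔ zpowers ⟨h, (mem _).2 hhy⟩ : Subgroup C) := by
    refine (hp (c := ⟨g, _⟩) hg).to_sup_of_normal_right' (hp (c := ⟨h, _⟩) hh) (zpowers_le.2 ?_)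
    refine centralizer_le_normalizer _ (mem_centralizer_iff.2 fun w hw' => ?_)
    obtain ⟨j, rfl⟩ := mem_zpowers_iff.1 hw'
    exact ((show Commute (⟨h, (mem _).2 hhy⟩ : C) ⟨g, (mem _).2 hgy⟩ from
      Subtype.ext hgh.symm).zpow_left j).eq
  obtain ⟨P', hP'⟩ := hA.exists_le_sylow
  obtain ⟨k, hk⟩ := MulAction.exists_smul_eq C P' P
  refine ⟨k, ?_, ?_⟩
  all_goals
    have key : ∀ c : C, c ∈ P' → (c : H) ^ 3 = 1 → (k : H) * c * (k : H)⁻¹ ∈ zpowers x := by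
      intro c hc hc3
      have hkc : k * c * k⁻¹ ∈ P := by
        rw [← hk]
        exact ⟨c, hc, rfl⟩
      exact hw _ (by rw [conj_pow, hc3, mul_one, mul_inv_cancel]) (hxc _ hkc)
        ((mem _).1 (k * c * k⁻¹).2)
  · exact key ⟨g, (mem _).2 hgy⟩ (hP' (mem_sup_left (mem_zpowers _))) hg
  · exact key ⟨h, (mem _).2 hhy⟩ (hP' (mem_sup_right (mem_zpowers _))) hh

end group

variable {G : Type u} [Group G] [Finite G] {B : Base G} {E : Eight B} (S : Six E)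

theorem ε_ne_one : E.ε ≠ 1 := fun e => by
  have h := E.conj_ε eV
  rw [e, one_mul, inv_one, mul_one] at h
  exact absurd (B.v_inj h) (by decide)

theorem pow_fin_two {i : Fin 2} : E.ε ^ i.val = 1 ∨ E.ε ^ i.val = E.ε := by
  fin_cases i
  · exact Or.inl (pow_zero _)
  · exact Or.inr (pow_one _)

theorem not_comm_εφ (π : P6) : E.ε * S.φ π * B.v eV ≠ B.v eV * (E.ε * S.φ π) := fun h => by
  rw [mul_assoc, S.φ_e, ← mul_assoc, ← mul_assoc, mul_left_inj] at h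
  have h' : (B.v eV)⁻¹ = B.v eV := by rw [← ε_e (E := E), h, mul_inv_cancel_right]
  exact e_ne B (eq_one_of_three_two (e_cube B) (n := 1)
    (by rw [pow_one, pow_two]; exact eq_inv_iff_mul_eq_one.1 h'.symm))

theorem εφ_ne (π ρ : P6) : E.ε * S.φ π ≠ S.φ ρ := fun h =>
  not_comm_εφ S π (by rw [h]; exact S.φ_e ρ)

/-- The known two-subgroup of `C(σ)`. -/
def T0 : Subgroup G where
  carrier := {c | ∃ i : Fin 2, ∃ π, InT π ∧ c = E.ε ^ i.val * S.φ π}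
  one_mem' := ⟨0, 1, InT_facts.1, by simp⟩
  mul_mem' := by
    rintro _ _ ⟨i, π, hπ, rfl⟩ ⟨j, ρ, hρ, rfl⟩
    have hc : S.φ π * E.ε ^ j.val = E.ε ^ j.val * S.φ π := (Commute.pow_right (S.φ_ε π) _).eq
    have e : E.ε ^ i.val * S.φ π * (E.ε ^ j.val * S.φ ρ) = E.ε ^ (i.val + j.val) * S.φ (π * ρ) := by
      rw [mul_assoc, ← mul_assoc (S.φ π), hc, pow_add, map_mul]
      simp only [mul_assoc]
    refine ⟨i + j, π * ρ, InT_mul hπ hρ, ?_⟩
    rw [e]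
    congr 1
    fin_cases i <;> fin_cases j <;> simp [pow_two, E.ε_sq]
  inv_mem' := by
    rintro _ ⟨i, π, hπ, rfl⟩
    refine ⟨i, π⁻¹, (InT_facts.2.2.2.2.2 π hπ).1, ?_⟩
    rw [mul_inv_rev, ← map_inv, ← inv_pow, ε_inv]
    exact (Commute.pow_right (S.φ_ε π⁻¹) _).eq

theorem mem_T0 {c : G} : c ∈ T0 S ↔ ∃ i : Fin 2, ∃ π, InT π ∧ c = E.ε ^ i.val * S.φ π := Iff.rfl

theorem φ_mem_T0 {π : P6} (h : InT π) : S.φ π ∈ T0 S := ⟨0, π, h, by simp⟩

theorem ε_mem_T0 : E.ε ∈ T0 S := ⟨1, 1, InT_facts.1, by simp⟩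

theorem of_φ_mem_T0 {π : P6} (h : S.φ π ∈ T0 S) : InT π := by
  obtain ⟨i, ρ, hρ, e⟩ := h
  rcases pow_fin_two (E := E) (i := i) with h | h <;> rw [h] at e
  · rw [one_mul] at e; rwa [S.φ_inj e]
  · exact absurd e.symm (εφ_ne S ρ π)

theorem T0_σ {c : G} (h : c ∈ T0 S) : c * B.σ = B.σ * c := by
  obtain ⟨i, π, hπ, rfl⟩ := h
  refine ((Commute.pow_left (show Commute E.ε B.σ from E.ε_σ) _).mul_left ?_).eq
  rw [← φ_sm S, Commute, SemiconjBy, ← map_mul, ← map_mul, hπ.1]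

theorem ε_comm_T0 {c : G} (h : c ∈ T0 S) : E.ε * c = c * E.ε := by
  obtain ⟨i, π, -, rfl⟩ := h
  exact ((Commute.pow_self E.ε _).symm.mul_right (S.φ_ε π).symm).eq

theorem T0_pow_four {c : G} (h : c ∈ T0 S) : c ^ 4 = 1 := by
  obtain ⟨i, π, hπ, rfl⟩ := h
  have h2 : E.ε ^ 4 = 1 := by rw [show 4 = 2 * 2 from rfl, pow_mul, pow_two E.ε, E.ε_sq, one_pow]
  rw [(show Commute (E.ε ^ i.val) (S.φ π) from Commute.pow_left (S.φ_ε π).symm _).mul_pow,
    ← pow_mul, mul_comm i.val, pow_mul, h2, one_pow, one_mul, ← map_pow, pow_four_T π hπ, map_one]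

theorem T0_sq {c : G} (h : c ∈ T0 S) : c * c ≠ B.σ := by
  obtain ⟨i, π, hπ, rfl⟩ := h
  rw [mul_assoc, ← mul_assoc (S.φ π), (Commute.pow_right (S.φ_ε π) _).eq, mul_assoc, ← map_mul,
    ← mul_assoc]
  intro e
  have : E.ε ^ i.val * E.ε ^ i.val = 1 := by
    rcases pow_fin_two (E := E) (i := i) with h | h <;> rw [h]
    · exact one_mul 1
    · exact E.ε_sq
  rw [this, one_mul, ← φ_sm S] at e
  exact (InT_facts.2.2.2.2.2 π hπ).2 (S.φ_inj e)

/-- An element of `C(σ)` outside `T0` normalizing it. -/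
theorem exists_outside : ∃ n, n * B.σ = B.σ * n ∧ n ∉ T0 S ∧ ∀ c ∈ T0 S, n * c * n⁻¹ ∈ T0 S := by
  haveI : Fact (Nat.Prime 2) := ⟨Nat.prime_two⟩
  by_contra hno
  push Not at hno
  obtain ⟨C, hC⟩ : ∃ C : Subgroup G, C = centralizer {B.σ} := ⟨_, rfl⟩
  have mem : ∀ c, c ∈ C ↔ c * B.σ = B.σ * c := fun c => hC ▸ mem_centralizer_singleton_iff
  have hTC : T0 S ≤ C := fun c hc => (mem c).2 (T0_σ S hc)
  have h2 : IsPGroup 2 ((T0 S).subgroupOf C) := fun c => ⟨2, Subtype.ext (Subtype.ext (by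
    rw [coe_pow, coe_pow]; exact T0_pow_four S c.2))⟩
  obtain ⟨P, hP⟩ := h2.exists_le_sylow
  have hPe : (P : Subgroup C) ≤ (T0 S).subgroupOf C := by
    by_contra hne
    have hlt : ((T0 S).subgroupOf C).subgroupOf (P : Subgroup C) < ⊤ :=
      lt_top_iff_ne_top.2 fun e => hne (subgroupOf_eq_top.1 e)
    haveI := P.isPGroup'.isNilpotent
    obtain ⟨n, hn, hnT⟩ := SetLike.exists_of_lt (Group.normalizerCondition_of_isNilpotent _ hlt)
    obtain ⟨c, hc, hcn⟩ := hno _ ((mem _).1 (n : C).2) hnT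
    exact hcn ((mem_normalizer_iff.1 hn ⟨⟨c, hTC hc⟩, hP (show _ from hc)⟩).1 hc)
  have hqC : B.q ∈ C := (mem _).2 (by rw [← B.q_sq, mul_assoc])
  have hq2 : IsPGroup 2 (zpowers (⟨B.q, hqC⟩ : C)) := fun w => ⟨2, by
    obtain ⟨j, hj⟩ := mem_zpowers_iff.1 w.2
    apply Subtype.ext
    rw [coe_pow, ← hj, ← zpow_natCast, ← zpow_mul, mul_comm, zpow_mul, zpow_natCast,
      show (⟨B.q, hqC⟩ : C) ^ 2 ^ 2 = 1 from Subtype.ext (by
        show B.q ^ 2 ^ 2 = 1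
        rw [show 2 ^ 2 = 2 * 2 from rfl, pow_mul, pow_two B.q, B.q_sq, pow_two, B.σ_sq]),
      one_zpow, coe_one]⟩
  obtain ⟨P', hP'⟩ := hq2.exists_le_sylow
  obtain ⟨k, hk⟩ := MulAction.exists_smul_eq C P' P
  have hmem : k * ⟨B.q, hqC⟩ * k⁻¹ ∈ (T0 S).subgroupOf C := hPe (by
    rw [← hk]
    exact ⟨_, hP' (mem_zpowers _), rfl⟩)
  refine T0_sq S (show (k : G) * B.q * (k : G)⁻¹ ∈ T0 S from hmem) ?_
  rw [show (k : G) * B.q * (k : G)⁻¹ * ((k : G) * B.q * (k : G)⁻¹) = (k : G) * (B.q * B.q) * (k : G)⁻¹ by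
    group, B.q_sq, (mem _).1 k.2, mul_inv_cancel_right]

/-! ### the types of the involutions -/

theorem isConj_φ (k π : P6) : IsConj (S.φ π) (S.φ (k * π * k⁻¹)) :=
  isConj_iff.2 ⟨S.φ k, by rw [map_mul, map_mul, map_inv]⟩

theorem isConj_εφ (k π : P6) : IsConj (E.ε * S.φ π) (E.ε * S.φ (k * π * k⁻¹)) :=
  isConj_iff.2 ⟨S.φ k, by
    rw [map_mul, map_mul, map_inv, ← mul_assoc, S.φ_ε]
    simp only [mul_assoc]⟩

theorem isConj_transp : IsConj E.ε (S.φ (swap 0 1)) :=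
  isConj_iff.2 ⟨B.β, by rw [S.φ_ε2]; rfl⟩

theorem isConj_ε_transp : IsConj (E.ε * S.φ (swap 0 1)) (S.φ tm) :=
  isConj_iff.2 ⟨B.β, by
    rw [φ_tm, S.φ_ε2, Eight.ε2, Eight.ε3]
    have hb : B.β * B.β = B.β⁻¹ := eq_inv_of_mul_eq_one_left B.β_cube
    rw [show B.β * (E.ε * (B.β * E.ε * B.β⁻¹)) * B.β⁻¹ =
      (B.β * E.ε * B.β⁻¹) * ((B.β * B.β) * E.ε * (B.β * B.β)⁻¹) by group, hb, inv_inv]⟩

theorem isConj_ε_double : IsConj (E.ε * S.φ tm) (E.ε * S.φ sm) := by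
  obtain ⟨k, hk⟩ := to_u0.2.2.2
  refine (isConj_iff.2 ⟨B.q⁻¹, ?_⟩).trans (hk ▸ isConj_εφ S k (tm * sm))
  rw [inv_inv]
  have hd : E.δ = E.ε * S.φ tm := by rw [φ_tm, Eight.δ, mul_assoc]
  have hσd : B.σ * E.δ = E.ε * S.φ (tm * sm) := by
    have hc : tm * sm = sm * tm := InT_facts.2.1.1
    rw [hd, hc, map_mul, φ_sm, ← mul_assoc, ε_σ', mul_assoc]
  have h : E.δ * B.q = B.q⁻¹ * E.δ := mul_inv_eq_iff_eq_mul.1 E.q_inv
  rw [← hd, mul_assoc, h, ← mul_assoc, ← mul_inv_rev, B.q_sq, σ_inv, hσd]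

theorem τ_type {g h : G} (hg : g ^ 3 = 1) (hh : h ^ 3 = 1) (hgh : g * h = h * g)
    (hgy : g * S.φ tm = S.φ tm * g) (hhy : h * S.φ tm = S.φ tm * h) :
    ∃ k, k * g * k⁻¹ ∈ zpowers (B.v eV) ∧ k * h * k⁻¹ ∈ zpowers (B.v eV) := by
  refine only_type (e_cube B) (e_ne B) (S.φ_e tm).symm ?_ hg hh hgh hgy hhy
  intro w hw3 hwe hwt
  obtain ⟨i, π, rfl⟩ := S.φ_cov w hwe
  have hc : Commute (B.v eV ^ i) (S.φ π) := Commute.pow_left (S.φ_e π).symm i
  have hπ : π * tm = tm * π := S.φ_inj (by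
    rw [← mul_assoc, ← (Commute.pow_left (S.φ_e tm).symm i).eq, mul_assoc, mul_assoc] at hwt
    rw [map_mul, map_mul]
    exact mul_left_cancel hwt)
  have h3 : π ^ 3 = 1 := S.φ_inj (by
    rw [hc.mul_pow, ← pow_mul, mul_comm, pow_mul, e_cube, one_pow, one_mul] at hw3
    rw [map_pow, hw3, map_one])
  rw [cent_tm π hπ h3, map_one, mul_one]
  exact pow_mem (mem_zpowers _) i

theorem εσ_type (hL : Loc8 B) {g h : G} (hg : g ^ 3 = 1) (hh : h ^ 3 = 1) (hgh : g * h = h * g)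
    (hgy : g * (E.ε * B.σ) = E.ε * B.σ * g) (hhy : h * (E.ε * B.σ) = E.ε * B.σ * h) :
    ∃ k, k * g * k⁻¹ ∈ zpowers (B.v fV) ∧ k * h * k⁻¹ ∈ zpowers (B.v fV) := by
  have hconj : ∀ x, E.ε * B.σ * B.v x * (E.ε * B.σ)⁻¹ =
      B.v (-(actS x).1, (actS x).2.1, (actS x).2.2) := fun x => by
    rw [← E.conj_ε, ← B.conj_σ]; group
  have hf : E.ε * B.σ * B.v fV * (E.ε * B.σ)⁻¹ = B.v fV := by rw [hconj]; rfl
  refine only_type (v_cube' B fV) (v_ne_one B (by decide)) (mul_inv_eq_iff_eq_mul.1 hf).symm ?_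
    hg hh hgh hgy hhy
  intro w hw3 hwf hwy
  have hN : w ∈ normalizer (B.J : Set G) := hL.cent_f (mem_centralizer_singleton_iff.2 hwf)
  obtain ⟨k, hk⟩ := B.monomial w hN
  have hkf : act8 k fV = fV := B.v_inj (by rw [← hk, hwf, mul_inv_cancel_right])
  have hk3 : ∀ x, act8 k (act8 k (act8 k x)) = x := fun x => B.v_inj (by
    rw [← hk, ← hk, ← hk,
      conj_pow_three, hw3,
      one_mul, inv_one, mul_one])
  have hJ : w ∈ B.J := by
    rw [← B.cent_J, mem_centralizer_iff]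
    intro c hc
    obtain ⟨x, rfl⟩ := (B.mem_J c).1 hc
    have := hk x
    rw [act8_fix_f k hkf hk3 x, mul_inv_eq_iff_eq_mul] at this
    exact this.symm
  obtain ⟨x, rfl⟩ := (B.mem_J w).1 hJ
  have hx : ((-(actS x).1, (actS x).2.1, (actS x).2.2) : V3) = x := B.v_inj (by
    rw [← hconj, ← hwy, mul_inv_cancel_right])
  rcases fixed_εσ x hx with rfl | rfl | rfl
  · rw [v_zero']; exact one_mem _
  · exact mem_zpowers _
  · rw [← v_inv']; exact inv_mem (mem_zpowers _)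

include S in
theorem g_h_ε : B.v (0, 1, 0) * E.ε = E.ε * B.v (0, 1, 0) ∧
    B.v (0, 0, 1) * E.ε = E.ε * B.v (0, 0, 1) := by
  rw [← S.φ_g, ← S.φ_h]
  exact ⟨S.φ_ε _, S.φ_ε _⟩

include S in
/-- `ε` centralizes too many elements of order three. -/
theorem not_isConj_ε {y : G} (x : V3) (_hx : x ≠ 0)
    (hy : ∀ g h : G, g ^ 3 = 1 → h ^ 3 = 1 → g * h = h * g → g * y = y * g → h * y = y * h →
      ∃ k, k * g * k⁻¹ ∈ zpowers (B.v x) ∧ k * h * k⁻¹ ∈ zpowers (B.v x)) :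
    ¬ IsConj E.ε y := fun hc => by
  obtain ⟨c, rfl⟩ := isConj_iff.1 hc
  obtain ⟨g, hg⟩ : ∃ g, g = B.v ((0, 1, 0) : V3) := ⟨_, rfl⟩
  obtain ⟨h, hh⟩ : ∃ h, h = B.v ((0, 0, 1) : V3) := ⟨_, rfl⟩
  obtain ⟨hgε, hhε⟩ := g_h_ε S
  rw [← hg] at hgε
  rw [← hh] at hhε
  obtain ⟨k, hkg, hkh⟩ := hy (c * g * c⁻¹) (c * h * c⁻¹)
    (by rw [conj_pow, hg, v_cube', mul_one, mul_inv_cancel])
    (by rw [conj_pow, hh, v_cube', mul_one, mul_inv_cancel])
    (by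
      rw [show c * g * c⁻¹ * (c * h * c⁻¹) = c * (g * h) * c⁻¹ by group,
        show g * h = h * g by rw [hg, hh, v_comm']]
      group)
    (by rw [show c * g * c⁻¹ * (c * E.ε * c⁻¹) = c * (g * E.ε) * c⁻¹ by group, hgε]; group)
    (by rw [show c * h * c⁻¹ * (c * E.ε * c⁻¹) = c * (h * E.ε) * c⁻¹ by group, hhε]; group)
  have hne : ∀ y : V3, y ≠ 0 → k * (c * B.v y * c⁻¹) * k⁻¹ ≠ 1 := fun y hy' e => v_ne_one B hy' (by
    rw [conj_eq_one_iff, conj_eq_one_iff] at e; exact e)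
  have inj : ∀ y z : V3, k * (c * B.v y * c⁻¹) * k⁻¹ = k * (c * B.v z * c⁻¹) * k⁻¹ → y = z :=
    fun y z e => B.v_inj (mul_left_cancel (mul_right_cancel (mul_left_cancel (mul_right_cancel e))))
  have inv : ∀ y : V3, (k * (c * B.v y * c⁻¹) * k⁻¹)⁻¹ = k * (c * B.v (-y) * c⁻¹) * k⁻¹ := fun y => by
    rw [← v_inv']; group
  rw [hg] at hkg
  rw [hh] at hkh
  rcases zpowers_three (v_cube' B x) hkg with a | a | a
  · exact hne _ (by decide) a
  all_goals rcases zpowers_three (v_cube' B x) hkh with b | b | b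
  · exact hne _ (by decide) b
  · exact absurd (inj _ _ (a.trans b.symm)) (by decide)
  · rw [← a, inv] at b; exact absurd (inj _ _ b) (by decide)
  · exact hne _ (by decide) b
  · rw [← b, inv] at a; exact absurd (inj _ _ a) (by decide)
  · exact absurd (inj _ _ (a.trans b.symm)) (by decide)

theorem not_isConj_ε_τ : ¬ IsConj E.ε (S.φ tm) :=
  not_isConj_ε S eV (by decide) fun _ _ => τ_type S

include S in
theorem not_isConj_ε_εσ (hL : Loc8 B) : ¬ IsConj E.ε (E.ε * B.σ) :=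
  not_isConj_ε S fV (by decide) fun _ _ => εσ_type hL

theorem not_isConj_τ_εσ : ¬ IsConj (E.ε * B.σ) (S.φ tm) := fun hc => by
  obtain ⟨c, hc⟩ := isConj_iff.1 hc
  have hf : E.ε * B.σ * B.v fV = B.v fV * (E.ε * B.σ) := by
    rw [← mul_inv_eq_iff_eq_mul, show E.ε * B.σ * B.v fV * (E.ε * B.σ)⁻¹ =
      E.ε * (B.σ * B.v fV * B.σ⁻¹) * E.ε⁻¹ by group, B.conj_σ, E.conj_ε]
    rfl
  have h1 : c * B.v fV * c⁻¹ * S.φ tm = S.φ tm * (c * B.v fV * c⁻¹) := by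
    rw [← hc, show c * B.v fV * c⁻¹ * (c * (E.ε * B.σ) * c⁻¹) = c * (B.v fV * (E.ε * B.σ)) * c⁻¹ by
      group, ← hf]
    group
  have h3 : (c * B.v fV * c⁻¹) ^ 3 = 1 := by rw [conj_pow, v_cube', mul_one, mul_inv_cancel]
  obtain ⟨k, hk, -⟩ := τ_type S h3 h3 rfl h1 h1
  have key : ∀ y : V3, k * (c * B.v fV * c⁻¹) * k⁻¹ = B.v y → ∃ m : K8, act8 m fV = y := fun y e => by
    obtain ⟨n, hn, hn'⟩ := B.fusion fV y (isConj_iff.2 ⟨k * c, by rw [← e]; group⟩)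
    obtain ⟨m, hm⟩ := B.monomial n hn
    exact ⟨m, B.v_inj (by rw [← hm, hn'])⟩
  rcases zpowers_three (e_cube B) hk with e | e | e
  · rw [conj_eq_one_iff, conj_eq_one_iff] at e; exact v_ne_one B (by decide) e
  · obtain ⟨m, hm⟩ := key eV e; exact (act8_e_f m).1 hm
  · rw [v_inv'] at e; obtain ⟨m, hm⟩ := key _ e; exact (act8_e_f m).2 hm

/-! ### the normalizing element -/

section outside

variable {n : G} (hσ : n * B.σ = B.σ * n) (hnT : ∀ c ∈ T0 S, n * c * n⁻¹ ∈ T0 S)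

include hnT in
theorem fixes_z : n * S.φ zm * n⁻¹ = S.φ zm := by
  obtain ⟨i, a, ha, ea⟩ := hnT _ (φ_mem_T0 S InT_facts.2.1)
  obtain ⟨j, b, hb, eb⟩ := hnT _ (φ_mem_T0 S InT_facts.2.2.1)
  have key : n * S.φ zm * n⁻¹ = S.φ (a * b * a⁻¹ * b⁻¹) := by
    rw [← tm_u0.1, map_mul, map_mul, map_mul, map_inv, map_inv,
      show n * (S.φ tm * S.φ u0 * (S.φ tm)⁻¹ * (S.φ u0)⁻¹) * n⁻¹ =
        (n * S.φ tm * n⁻¹) * (n * S.φ u0 * n⁻¹) * (n * S.φ tm * n⁻¹)⁻¹ * (n * S.φ u0 * n⁻¹)⁻¹ by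
          group, ea, eb, map_mul, map_mul, map_mul, map_inv, map_inv]
    rcases pow_fin_two (E := E) (i := i) with h | h <;>
      rcases pow_fin_two (E := E) (i := j) with h' | h' <;> rw [h, h'] <;>
      simp [mul_assoc, ← map_inv, ε_inv, S.φ_ε, ← mul_assoc E.ε E.ε, E.ε_sq, ← mul_assoc (S.φ _) E.ε]
  rcases comm_T a ha b hb with h | h <;> rw [h] at key
  · rw [map_one, conj_eq_one_iff, ← map_one S.φ] at key
    exact absurd (S.φ_inj key) tm_u0.2.1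
  · exact key

include hσ hnT in
theorem fixes_u2 : n * S.φ u2 * n⁻¹ = S.φ u2 := by
  have h : S.φ u2 = (S.φ zm)⁻¹ * B.σ := by
    rw [← φ_sm S, tm_u0.2.2.2, map_mul, inv_mul_cancel_left]
  conv_rhs => rw [h]
  rw [h, show n * ((S.φ zm)⁻¹ * B.σ) * n⁻¹ = (n * S.φ zm * n⁻¹)⁻¹ * (n * B.σ * n⁻¹) by group,
    fixes_z S hnT, hσ, mul_inv_cancel_right]

include hσ hnT in
theorem fixes_ε (hL : Loc8 B) : n * E.ε * n⁻¹ = E.ε := by
  obtain ⟨i, π, hπ, e⟩ := hnT _ (ε_mem_T0 S)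
  have hcomm : ∀ b ∈ T0 S, n * E.ε * n⁻¹ * b = b * (n * E.ε * n⁻¹) := by
    have hmap : (T0 S).map (MulAut.conj n).toMonoidHom = T0 S := by
      refine eq_of_le_of_card_ge ?_ (card_map_of_injective (MulAut.conj n).injective).ge
      rintro _ ⟨c, hc, rfl⟩
      exact hnT c hc
    intro b hb
    rw [← hmap] at hb
    obtain ⟨c, hc, rfl⟩ := hb
    show n * E.ε * n⁻¹ * (n * c * n⁻¹) = n * c * n⁻¹ * (n * E.ε * n⁻¹)
    rw [show n * E.ε * n⁻¹ * (n * c * n⁻¹) = n * (E.ε * c) * n⁻¹ by group, ε_comm_T0 S hc]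
    group
  have hπc : ∀ ρ, InT ρ → π * ρ = ρ * π := fun ρ hρ => S.φ_inj (by
    have h := hcomm _ (φ_mem_T0 S hρ)
    rw [e, mul_assoc, ← mul_assoc (S.φ ρ), (Commute.pow_right (S.φ_ε ρ) _).eq, mul_assoc] at h
    rw [map_mul, map_mul]
    exact mul_left_cancel h)
  have hne : IsConj E.ε (E.ε ^ i.val * S.φ π) := isConj_iff.2 ⟨n, e⟩
  have huc : IsConj E.ε (S.φ u2) := by
    obtain ⟨k, hk⟩ := to_u0.2.1
    exact (isConj_transp S).trans (hk ▸ isConj_φ S k u2).symm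
  obtain ⟨k2, hk2⟩ := to_u0.2.1
  obtain ⟨kz, hkz⟩ := to_u0.2.2.1
  have hεu2 : IsConj (E.ε * S.φ u2) (S.φ tm) := (hk2 ▸ isConj_εφ S k2 u2).trans (isConj_ε_transp S)
  have hεz : IsConj (E.ε * S.φ zm) (E.ε * B.σ) :=
    φ_sm S ▸ (hkz ▸ isConj_εφ S kz zm).trans (isConj_ε_double S)
  rcases center_T π hπ (hπc _ InT_facts.2.1) (hπc _ InT_facts.2.2.1) (hπc _ InT_facts.2.2.2.1)
    with rfl | rfl | rfl | rfl <;> rcases pow_fin_two (E := E) (i := i) with h | h <;>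
    rw [h] at e hne <;> try rw [one_mul] at e hne
  · rw [map_one, conj_eq_one_iff] at e; exact absurd e ε_ne_one
  · rw [map_one, mul_one] at e; exact e
  · exact absurd (hne.trans (hkz ▸ isConj_φ S kz zm)) (not_isConj_ε_τ S)
  · exact absurd (hne.trans hεz) (not_isConj_ε_εσ S hL)
  · exfalso
    rw [← fixes_u2 S hσ hnT] at e
    exact εφ_ne S 1 u2 (by rw [map_one, mul_one]; exact mul_left_cancel (mul_right_cancel e))
  · exact absurd (hne.trans hεu2) (not_isConj_ε_τ S)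
  · exfalso
    rw [φ_sm, ← mul_inv_cancel_right B.σ n, ← hσ] at e
    exact εφ_ne S 1 sm (by rw [map_one, mul_one, φ_sm]; exact mul_left_cancel (mul_right_cancel e))
  · exact absurd (φ_sm S ▸ hne) (not_isConj_ε_εσ S hL)

include hσ hnT in
theorem maps_transp (hL : Loc8 B) {w : P6} (hw : InT w) (hw2 : w * w = 1) (hw1 : w ≠ 1)
    (hwc : ∃ k : P6, k * w * k⁻¹ = swap 0 1) (hwne : w ≠ u2) :
    ∃ ρ, InU ρ ∧ n * S.φ w * n⁻¹ = S.φ ρ := by
  obtain ⟨i, π, hπ, e⟩ := hnT _ (φ_mem_T0 S hw)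
  have hεn := fixes_ε S hσ hnT hL
  obtain ⟨k, hk⟩ := hwc
  have hwε : IsConj E.ε (S.φ w) := (isConj_transp S).trans (hk ▸ isConj_φ S k w).symm
  have hne : IsConj E.ε (E.ε ^ i.val * S.φ π) := hwε.trans (isConj_iff.2 ⟨n, e⟩)
  have hπ2 : π * π = 1 := S.φ_inj (by
    have h := congrArg (fun c => c * c) e
    rw [show n * S.φ w * n⁻¹ * (n * S.φ w * n⁻¹) = n * (S.φ w * S.φ w) * n⁻¹ by group, ← map_mul,
      hw2, map_one, mul_one, mul_inv_cancel, mul_assoc, ← mul_assoc (S.φ π),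
      (Commute.pow_right (S.φ_ε π) _).eq, mul_assoc, ← mul_assoc, ← map_mul] at h
    rw [map_one]
    rcases pow_fin_two (E := E) (i := i) with h' | h' <;> rw [h'] at h <;>
      simp only [one_mul, E.ε_sq] at h <;> exact h.symm)
  rcases pow_fin_two (E := E) (i := i) with h | h <;> rw [h] at e hne
  · rw [one_mul] at e hne
    have hπ1 : π ≠ 1 := fun h1 => by
      rw [h1, map_one, conj_eq_one_iff, ← map_one S.φ] at e
      exact hw1 (S.φ_inj e)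
    rcases invol_T π hπ hπ2 hπ1 with h0 | h1 | h2 | ⟨m, hm | hm⟩
    · exact ⟨π, h0 ▸ InU_facts.1, e⟩
    · exact ⟨π, h1 ▸ InU_facts.2.1, e⟩
    · exfalso
      rw [h2, ← fixes_u2 S hσ hnT] at e
      exact hwne (S.φ_inj (mul_left_cancel (mul_right_cancel e)))
    · exact absurd (hne.trans (hm ▸ isConj_φ S m π)) (not_isConj_ε_τ S)
    · exfalso
      have h1 : IsConj (E.ε * S.φ w) (E.ε * S.φ π) := isConj_iff.2 ⟨n, by
        rw [show n * (E.ε * S.φ w) * n⁻¹ = (n * E.ε * n⁻¹) * (n * S.φ w * n⁻¹) by group, hεn, e]⟩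
      have h2 : IsConj (E.ε * S.φ w) (S.φ tm) := (hk ▸ isConj_εφ S k w).trans (isConj_ε_transp S)
      exact not_isConj_τ_εσ S (φ_sm S ▸ (h1.trans (hm ▸ isConj_εφ S m π)).symm.trans h2)
  · exfalso
    by_cases hπ1 : π = 1
    · rw [hπ1, map_one, mul_one, ← hεn] at e
      exact εφ_ne S 1 w (by rw [map_one, mul_one]; exact (mul_left_cancel (mul_right_cancel e)).symm)
    obtain ⟨m, hm | hm | hm⟩ := classes π hπ2 hπ1
    · exact not_isConj_ε_τ S ((hne.trans (hm ▸ isConj_εφ S m π)).trans (isConj_ε_transp S))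
    · exact not_isConj_ε_εσ S hL
        (φ_sm S ▸ (hne.trans (hm ▸ isConj_εφ S m π)).trans (isConj_ε_double S))
    · exact not_isConj_ε_εσ S hL (φ_sm S ▸ hne.trans (hm ▸ isConj_εφ S m π))

end outside

/-- P5. -/
theorem key : StmtKey.{u} := by
  intro G _ _ B E S hL
  by_cases hq : B.q ∈ centralizer (U S : Set G)
  · exact (mem_centralizer_iff.1 hq _ ⟨u0, InU_facts.1, rfl⟩).symm
  exfalso
  obtain ⟨n, hσ, hn, hnT⟩ := exists_outside S
  have hnU : n ∈ normalizer (U S : Set G) := mem_normalizer_of_maps fun c hc => by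
    obtain ⟨π, hπ, rfl⟩ := hc
    obtain ⟨i, j, k, rfl⟩ := InU_gen π hπ
    obtain ⟨a, ha, ea⟩ := maps_transp S hσ hnT hL InT_facts.2.2.1 transp_moves.2.2.2.2.2.2.1
      transp_moves.2.2.2.2.1 u_conj transp_moves.2.1
    obtain ⟨b, hb, eb⟩ := maps_transp S hσ hnT hL InT_facts.2.2.2.1 transp_moves.2.2.2.2.2.2.2.1
      transp_moves.2.2.2.2.2.1 to_u0.1 transp_moves.2.2.1
    rw [map_mul, map_mul, map_pow, map_pow, map_pow,
      show n * (S.φ u0 ^ i.val * S.φ u1 ^ j.val * S.φ u2 ^ k.val) * n⁻¹ =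
        (n * S.φ u0 ^ i.val * n⁻¹) * (n * S.φ u1 ^ j.val * n⁻¹) * (n * S.φ u2 ^ k.val * n⁻¹) by group,
      ← conj_pow, ← conj_pow, ← conj_pow, ea, eb, fixes_u2 S hσ hnT]
    exact mul_mem (mul_mem (pow_mem (show S.φ a ∈ U S from ⟨a, ha, rfl⟩) _)
      (pow_mem (show S.φ b ∈ U S from ⟨b, hb, rfl⟩) _))
      (pow_mem (show S.φ u2 ∈ U S from ⟨u2, InU_facts.2.2.1, rfl⟩) _)
  have hεn := fixes_ε S hσ hnT hL
  obtain ⟨c, hc⟩ : ∃ c, c = n * B.v eV * n⁻¹ := ⟨_, rfl⟩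
  have hcU : c ∈ centralizer (U S : Set G) := mem_centralizer_iff.2 fun w hw => by
    have h := U_comm_e S ((mem_normalizer_iff''.1 hnU w).1 hw)
    rw [hc, show w * (n * B.v eV * n⁻¹) = n * (n⁻¹ * w * n * B.v eV) * n⁻¹ by group, h]
    group
  have hc3 : c ^ 3 = 1 := by rw [hc, conj_pow, e_cube, mul_one, mul_inv_cancel]
  have hc1 : c ≠ 1 := fun h => by rw [hc, conj_eq_one_iff] at h; exact e_ne B h
  have hce : c * B.v eV = B.v eV * c := by
    rcases zpowers_three (e_cube B) (cent_base S hL hq c hcU) with h | h | h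
    · exact absurd (conj_eq_one_iff.1 h) (e_ne B)
    · exact mul_inv_eq_iff_eq_mul.1 h
    · exfalso
      have e3 : c ^ 3 * B.v eV * (c ^ 3)⁻¹ = (B.v eV)⁻¹ := by
        rw [← conj_pow_three, h,
          show c * (c * (B.v eV)⁻¹ * c⁻¹) * c⁻¹ = c * (c * B.v eV * c⁻¹)⁻¹ * c⁻¹ by group, h,
          inv_inv, h]
      rw [hc3, one_mul, inv_one, mul_one] at e3
      exact e_ne B (eq_one_of_three_two (e_cube B) (n := 1)
        (by rw [pow_one, pow_two]; exact eq_inv_iff_mul_eq_one.1 e3))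
  obtain ⟨i, π, hπ, hcπ⟩ := cent_U_e S hcU hce
  have hπ1 : S.φ π = 1 := by
    have h := hc3
    rw [hcπ, (Commute.pow_left (S.φ_e π).symm i : Commute (B.v eV ^ i) (S.φ π)).mul_pow, ← pow_mul,
      mul_comm i, pow_mul, e_cube, one_pow, one_mul] at h
    exact eq_one_of_coprime (U_coprime S) ⟨π, hπ, rfl⟩ h
  rw [hπ1, mul_one] at hcπ
  have hcs : c = B.v eV ∨ c = (B.v eV)⁻¹ := by
    rcases zpowers_three (e_cube B) (hcπ ▸ pow_mem (mem_zpowers _) i) with h | h | h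
    exacts [absurd h hc1, Or.inl h, Or.inr h]
  have fin : ∀ m : G, m * B.v eV = B.v eV * m → m * E.ε = E.ε * m → m * B.σ = B.σ * m →
      (∀ t ∈ T0 S, m * t * m⁻¹ ∈ T0 S) → m ∈ T0 S := by
    intro m hme hmε hmσ hmT
    obtain ⟨ρ, rfl⟩ := mem_factor S hme hmε
    refine φ_mem_T0 S (self_norm ρ (S.φ_inj ?_) ?_ ?_ ?_)
    · rw [map_mul, map_mul, φ_sm]; exact hmσ
    all_goals
      refine of_φ_mem_T0 S ?_
      rw [map_mul, map_mul, map_inv]
      refine hmT _ (φ_mem_T0 S ?_)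
    exacts [InT_facts.2.1, InT_facts.2.2.1, InT_facts.2.2.2.1]
  have hnε : n * E.ε = E.ε * n := mul_inv_eq_iff_eq_mul.1 hεn
  rcases hcs with h | h
  · exact hn (fin n (mul_inv_eq_iff_eq_mul.1 (hc.symm.trans h)) hnε hσ hnT)
  · refine hn ?_
    have hne : n * B.v eV = (B.v eV)⁻¹ * n := mul_inv_eq_iff_eq_mul.1 (hc.symm.trans h)
    have hεi : E.ε * (B.v eV)⁻¹ = B.v eV * E.ε := by
      rw [← mul_inv_eq_iff_eq_mul]
      calc E.ε * (B.v eV)⁻¹ * E.ε⁻¹ = (E.ε * B.v eV * E.ε⁻¹)⁻¹ := by group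
        _ = B.v eV := by rw [ε_e, inv_inv]
    have h1 : E.ε * n ∈ T0 S := fin (E.ε * n)
      (by rw [mul_assoc, hne, ← mul_assoc, hεi, mul_assoc])
      (by rw [mul_assoc, hnε])
      (by rw [mul_assoc, hσ, ← mul_assoc, E.ε_σ, mul_assoc])
      (fun t ht => by
        rw [show E.ε * n * t * (E.ε * n)⁻¹ = E.ε * (n * t * n⁻¹) * E.ε⁻¹ by group]
        exact mul_mem (mul_mem (ε_mem_T0 S) (hnT t ht)) (inv_mem (ε_mem_T0 S)))
    rw [← inv_mul_cancel_left E.ε n]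
    exact mul_mem (inv_mem (ε_mem_T0 S)) h1

end CfsgLib.SpSixThree.KeyProof
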