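import Mathlib

/-!
Finite facts for the key relation of S3342: the Sylow two-subgroup of the centralizer of `(0 3)(1 4)(2 5)`
in the symmetric group of degree six and its base, and the group `SL₂(3)`.
-/

set_option autoImplicit false
set_option maxRecDepth 100000
set_option maxHeartbeats 4000000
set_option synthInstance.maxSize 4096
set_option synthInstance.maxHeartbeats 400000

namespace CfsgLib.SpSixThree.KeyModel

open Equiv

/-- Permutations of six letters. -/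
abbrev P6 : Type := Perm (Fin 6)

/-- `(0 3)` -/
def u0 : P6 := swap 0 3
/-- `(1 4)` -/
def u1 : P6 := swap 1 4
/-- `(2 5)` -/
def u2 : P6 := swap 2 5
/-- `(0 3)(1 4)(2 5)` -/
def sm : P6 := swap 0 3 * swap 1 4 * swap 2 5
/-- `(0 1)(3 4)` -/
def tm : P6 := swap 0 1 * swap 3 4
/-- `(0 3)(1 4)` -/
def zm : P6 := swap 0 3 * swap 1 4

/-- The base. -/
def InU (π : P6) : Prop := ∀ i, π i = i ∨ π i = sm i

instance : DecidablePred InU := fun π => by unfold InU; infer_instance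

/-- The Sylow two-subgroup. -/
def InT (π : P6) : Prop := π * sm = sm * π ∧ (π 2 = 2 ∨ π 2 = 5)

instance : DecidablePred InT := fun π => by unfold InT; infer_instance

theorem sm_invol : ∀ i, sm (sm i) = i := by decide +kernel

theorem InU_one : InU 1 := fun _ => Or.inl rfl

theorem InU_mul {a b : P6} (ha : InU a) (hb : InU b) : InU (a * b) := by
  intro i
  show a (b i) = i ∨ a (b i) = sm i
  rcases hb i with h | h <;> rw [h]
  · exact ha i
  · rcases ha (sm i) with k | k <;> rw [k]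
    · exact Or.inr rfl
    · exact Or.inl (sm_invol i)

theorem InU_facts : InU u0 ∧ InU u1 ∧ InU u2 ∧ InU sm ∧ (∀ π, InU π → π⁻¹ = π) ∧
    (∀ π, InU π → π * u0 = u0 * π ∧ π * u1 = u1 * π ∧ π * u2 = u2 * π ∧ π * sm = sm * π ∧
      (π 2 = 2 ∨ π 2 = 5)) := by decide +kernel

theorem InU_gen : ∀ π, InU π → ∃ i j k : Fin 2, π = u0 ^ i.val * u1 ^ j.val * u2 ^ k.val := by
  decide +kernel

theorem cent_U : ∀ π : P6, π * u0 = u0 * π → π * u1 = u1 * π → π * u2 = u2 * π → InU π := by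
  decide +kernel

theorem InT_mul {a b : P6} (ha : InT a) (hb : InT b) : InT (a * b) := by
  refine ⟨by rw [mul_assoc, hb.1, ← mul_assoc, ha.1, mul_assoc], ?_⟩
  show a (b 2) = 2 ∨ a (b 2) = 5
  have h5 : a 5 = sm (a 2) := by
    rw [show (5 : Fin 6) = sm 2 from by decide +kernel]
    exact congrArg (fun p : P6 => p 2) ha.1
  rcases hb.2 with h | h <;> rw [h]
  · exact ha.2
  · rw [h5]
    rcases ha.2 with k | k <;> rw [k]
    · exact Or.inr (by decide +kernel)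
    · exact Or.inl (by decide +kernel)

theorem InT_facts : InT 1 ∧ InT tm ∧ InT u0 ∧ InT u1 ∧ InT u2 ∧
    (∀ π, InT π → InT π⁻¹ ∧ π * π ≠ sm) := by decide +kernel

theorem tm_u0 : tm * u0 * tm⁻¹ * u0⁻¹ = zm ∧ zm ≠ 1 ∧ zm = u0 * u1 ∧ sm = zm * u2 := by decide +kernel

theorem comm_T : ∀ a, InT a → ∀ b, InT b → a * b * a⁻¹ * b⁻¹ = 1 ∨ a * b * a⁻¹ * b⁻¹ = zm := by
  decide +kernel

theorem center_T : ∀ π, InT π → π * tm = tm * π → π * u0 = u0 * π → π * u1 = u1 * π →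
    π = 1 ∨ π = zm ∨ π = u2 ∨ π = sm := by decide +kernel

theorem classes : ∀ π : P6, π * π = 1 → π ≠ 1 →
    ∃ k : P6, k * π * k⁻¹ = swap 0 1 ∨ k * π * k⁻¹ = tm ∨ k * π * k⁻¹ = sm := by decide +kernel

theorem invol_T : ∀ π, InT π → π * π = 1 → π ≠ 1 → π = u0 ∨ π = u1 ∨ π = u2 ∨
    ∃ k : P6, k * π * k⁻¹ = tm ∨ k * π * k⁻¹ = sm := by decide +kernel

theorem self_norm : ∀ π : P6, π * sm = sm * π → InT (π * tm * π⁻¹) → InT (π * u0 * π⁻¹) →
    InT (π * u1 * π⁻¹) → InT π := by decide +kernel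

theorem cent_tm : ∀ π : P6, π * tm = tm * π → π ^ 3 = 1 → π = 1 := by decide +kernel

theorem u_conj : ∃ k : P6, k * u0 * k⁻¹ = swap 0 1 := by decide +kernel

theorem gh_U : let c : P6 := swap 0 1 * swap 1 2 * (swap 3 4 * swap 4 5)
    InU (c * u0 * c⁻¹) ∧ InU (c * u1 * c⁻¹) ∧ InU (c * u2 * c⁻¹) := by decide +kernel

/-- `SL₂(3)` -/
abbrev SL23 : Type := Matrix.SpecialLinearGroup (Fin 2) (ZMod 3)

theorem sl_eight : ∀ u : SL23, u ^ 8 = 1 → u = 1 ∨ u = -1 ∨ u * u = -1 := by decide +kernel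

theorem sl_center : ∀ u : SL23, (∀ w, u * w = w * u) → u = 1 ∨ u = -1 := by decide +kernel

theorem sl_conj : ∀ u₀ : SL23, u₀ ^ 3 = 1 → u₀ ≠ 1 → ∀ uq : SL23, uq * uq = -1 → ∀ u : SL23,
    u * u = -1 → uq = u ∨ uq = -1 * u ∨ uq = u₀ * u * u₀⁻¹ ∨ uq = -1 * (u₀ * u * u₀⁻¹) ∨
      uq = u₀⁻¹ * u * u₀ ∨ uq = -1 * (u₀⁻¹ * u * u₀) := by decide +kernel

theorem sl_card : Nat.card SL23 = 24 := by
  rw [Nat.card_eq_fintype_card]; decide +kernel

end CfsgLib.SpSixThree.KeyModel
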