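import Cfsg.Agent.Lib.SpSixThree.Defs
import Cfsg.Agent.Lib.SpSixThree.KeyModel
import Cfsg.Agent.Lib.PSpAmalgam.Basic
import Cfsg.Agent.Lib.Coprime.Action2
import Cfsg.Agent.Lib.SNineThree.CentTauTools
import Cfsg.Agent.Lib.SNineThree.Tools

/-!
The key relation of S3342: the centralizer of the three transpositions fixed by `σ`.
-/

set_option autoImplicit false
set_option linter.style.haveILetI false
set_option linter.unusedSectionVars false
set_option maxRecDepth 100000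

namespace CfsgLib.SpSixThree.KeyProof

open Subgroup Equiv
open CfsgLib.PSpAmalgam (V3 zV eV fV gV actR actS)
open KeyModel

universe u

variable {G : Type u} [Group G] [Finite G] {B : Base G} {E : Eight B} (S : Six E)

theorem v_zero' (B : Base G) : B.v 0 = 1 := by
  have h := B.v_add 0 0
  rw [add_zero] at h
  exact left_eq_mul.1 h

theorem v_inv' (B : Base G) (x : V3) : (B.v x)⁻¹ = B.v (-x) := by
  refine inv_eq_of_mul_eq_one_right ?_
  rw [← B.v_add, add_neg_cancel, v_zero']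

theorem v_comm' (B : Base G) (x y : V3) : B.v x * B.v y = B.v y * B.v x := by
  rw [← B.v_add, add_comm, B.v_add]

theorem v_cube' (B : Base G) (x : V3) : B.v x ^ 3 = 1 := by
  rw [pow_succ, pow_two, ← B.v_add, ← B.v_add, PSpAmalgam.three_smul_v3, v_zero']

theorem v_ne_one (B : Base G) {x : V3} (h : x ≠ 0) : B.v x ≠ 1 := fun e =>
  h (B.v_inj (e.trans (v_zero' B).symm))

theorem v_mem' (B : Base G) (x : V3) : B.v x ∈ B.J := (B.mem_J _).2 ⟨x, rfl⟩

theorem eq_one_of_three_two {c : G} (h3 : c ^ 3 = 1) {n : ℕ} (h2 : c ^ 2 ^ n = 1) : c = 1 := by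
  have h : orderOf c ∣ Nat.gcd 3 (2 ^ n) :=
    Nat.dvd_gcd (orderOf_dvd_of_pow_eq_one h3) (orderOf_dvd_of_pow_eq_one h2)
  rw [show Nat.gcd 3 (2 ^ n) = 1 from Nat.Coprime.pow_right n (by norm_num)] at h
  exact orderOf_eq_one_iff.1 (Nat.eq_one_of_dvd_one h)

theorem eq_one_of_coprime {W : Subgroup G} (hW : (Nat.card W).Coprime 3) {c : G} (hc : c ∈ W)
    (h3 : c ^ 3 = 1) : c = 1 := by
  have h1 : orderOf c ∣ Nat.card W := orderOf_mk c hc ▸ orderOf_dvd_natCard (⟨c, hc⟩ : W)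
  have h : orderOf c ∣ Nat.gcd (Nat.card W) 3 := Nat.dvd_gcd h1 (orderOf_dvd_of_pow_eq_one h3)
  rw [hW] at h
  exact orderOf_eq_one_iff.1 (Nat.eq_one_of_dvd_one h)

theorem e_cube (B : Base G) : B.v eV ^ 3 = 1 := v_cube' B _

theorem e_ne (B : Base G) : B.v eV ≠ 1 := v_ne_one B (by decide)

theorem ε_e : E.ε * B.v eV * E.ε⁻¹ = (B.v eV)⁻¹ := by
  rw [E.conj_ε, v_inv']
  rfl

theorem ε_inv : E.ε⁻¹ = E.ε := inv_eq_of_mul_eq_one_right E.ε_sq

theorem σ_inv : B.σ⁻¹ = B.σ := inv_eq_of_mul_eq_one_right B.σ_sq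

theorem σ_e : B.σ * B.v eV = B.v eV * B.σ := by
  rw [← mul_inv_eq_iff_eq_mul, B.conj_σ]
  rfl

theorem φ_sm : S.φ sm = B.σ := S.φ_σ

theorem φ_tm : S.φ tm = E.ε2 * E.ε3 := by rw [tm, map_mul, S.φ_ε2, S.φ_ε3]

theorem φ_f : S.φ (swap 0 1 * swap 1 2 * (swap 3 4 * swap 4 5)) = B.v fV := by
  rw [map_mul, S.φ_g, S.φ_h, ← B.v_add]
  rfl

theorem ε_σ' : B.σ * E.ε = E.ε * B.σ := E.ε_σ.symm

/-- An element commuting with `e` and `ε` lies in the factor. -/
theorem mem_factor {c : G} (he : c * B.v eV = B.v eV * c) (hε : c * E.ε = E.ε * c) :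
    ∃ π, c = S.φ π := by
  obtain ⟨i, π, rfl⟩ := S.φ_cov c he
  refine ⟨π, ?_⟩
  have h1 : B.v eV ^ i * E.ε = E.ε * B.v eV ^ i := by
    rw [mul_assoc, S.φ_ε, ← mul_assoc, ← mul_assoc] at hε
    exact mul_right_cancel hε
  have h2 : B.v eV ^ i = (B.v eV ^ i)⁻¹ := by
    rw [← inv_pow, ← ε_e (E := E), conj_pow, ← h1, mul_inv_cancel_right]
  have h3 : (B.v eV ^ i) ^ 2 ^ 1 = 1 := by
    rw [pow_one, pow_two]
    exact eq_inv_iff_mul_eq_one.1 h2
  rw [eq_one_of_three_two (by rw [← pow_mul, mul_comm, pow_mul, e_cube, one_pow]) h3, one_mul]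

/-! ### the base -/

/-- The base in the symmetric group. -/
def Usub : Subgroup P6 where
  carrier := {π | InU π}
  one_mem' := InU_one
  mul_mem' := InU_mul
  inv_mem' := fun {a} ha => by
    show InU a⁻¹
    rw [InU_facts.2.2.2.2.1 a ha]
    exact ha

/-- The base. -/
def U : Subgroup G := Usub.map S.φ

theorem mem_U {w : G} : w ∈ U S ↔ ∃ π, InU π ∧ S.φ π = w := Iff.rfl

theorem σ_mem_U : B.σ ∈ U S := ⟨sm, InU_facts.2.2.2.1, φ_sm S⟩

theorem U_comm_e {w : G} (hw : w ∈ U S) : w * B.v eV = B.v eV * w := by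
  obtain ⟨π, -, rfl⟩ := hw
  exact S.φ_e π

theorem U_comm_ε {w : G} (hw : w ∈ U S) : w * E.ε = E.ε * w := by
  obtain ⟨π, -, rfl⟩ := hw
  exact S.φ_ε π

theorem U_le_cent : U S ≤ centralizer (U S : Set G) := by
  rintro _ ⟨π, hπ, rfl⟩
  rw [mem_centralizer_iff]
  rintro _ ⟨π', hπ', rfl⟩
  rw [← map_mul, ← map_mul]
  congr 1
  obtain ⟨i, j, k, rfl⟩ := InU_gen π hπ
  obtain ⟨h0, h1, h2, -⟩ := InU_facts.2.2.2.2.2 π' hπ'
  exact ((Commute.pow_right (show Commute π' u0 from h0) _).mul_right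
    (Commute.pow_right (show Commute π' u1 from h1) _)).mul_right (Commute.pow_right (show Commute π' u2 from h2) _)

theorem U_sq {w : G} (hw : w ∈ U S) : w * w = 1 := by
  obtain ⟨π, hπ, rfl⟩ := hw
  rw [← map_mul]
  conv_lhs => rw [show π * π = π⁻¹ * π by rw [InU_facts.2.2.2.2.1 π hπ]]
  rw [inv_mul_cancel, map_one]

theorem U_coprime : (Nat.card (U S)).Coprime 3 := by
  obtain ⟨n, hn⟩ := IsPGroup.iff_card.1 (fun w : U S => ⟨1, Subtype.ext (by
    rw [pow_one, pow_two]; exact U_sq S w.2)⟩ : IsPGroup 2 (U S))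
  rw [hn]
  exact Nat.Coprime.pow_left n (by norm_num)

theorem cent_U_e {w : G} (hw : w ∈ centralizer (U S : Set G)) (he : w * B.v eV = B.v eV * w) :
    ∃ i : ℕ, ∃ π, InU π ∧ w = B.v eV ^ i * S.φ π := by
  obtain ⟨i, π, rfl⟩ := S.φ_cov w he
  refine ⟨i, π, ?_, rfl⟩
  have key : ∀ p : P6, InU p → π * p = p * π := fun p hp => S.φ_inj (by
    have h := mem_centralizer_iff.1 hw (S.φ p) ⟨p, hp, rfl⟩
    have hc : Commute (B.v eV ^ i) (S.φ p) := Commute.pow_left (S.φ_e p).symm i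
    rw [← mul_assoc, ← hc.eq, mul_assoc, mul_assoc] at h
    rw [map_mul, map_mul]
    exact (mul_left_cancel h).symm)
  exact cent_U π (key _ InU_facts.1) (key _ InU_facts.2.1) (key _ InU_facts.2.2.1)

theorem f_normalizes : ∀ w ∈ U S, B.v fV * w * (B.v fV)⁻¹ ∈ U S := by
  rintro _ ⟨π, hπ, rfl⟩
  rw [← φ_f S, ← map_inv, ← map_mul, ← map_mul]
  refine ⟨_, ?_, rfl⟩
  obtain ⟨i, j, k, rfl⟩ := InU_gen π hπ
  obtain ⟨h0, h1, h2⟩ := gh_U
  show InU _
  rw [show ∀ c a b d : P6, c * (a * b * d) * c⁻¹ = (c * a * c⁻¹) * (c * b * c⁻¹) * (c * d * c⁻¹) from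
    fun c a b d => by group, ← conj_pow, ← conj_pow, ← conj_pow]
  have hp : ∀ p : P6, InU p → ∀ n : Fin 2, InU (p ^ n.val) := fun p h n => by
    fin_cases n
    · simpa using InU_one
    · simpa using h
  exact InU_mul (InU_mul (hp _ h0 i) (hp _ h1 j)) (hp _ h2 k)

theorem mem_normalizer_of_maps {H : Subgroup G} {c : G} (h : ∀ w ∈ H, c * w * c⁻¹ ∈ H) :
    c ∈ normalizer (H : Set G) := by
  refine mem_normalizer_fintype fun w hw => ?_
  exact h w hw

/-! ### the centraliser of `a` inside that of `σ` -/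

theorem a_mem_center {u : SL23} : B.sl u * B.v zV = B.v zV * B.sl u := (B.sl_cent u).1

theorem eight_of_coprime {w : G} {W : Subgroup G} (hW : (Nat.card W).Coprime 3) (hw : w ∈ W)
    {i : Fin 3} {u : SL23} (e : B.v zV ^ i.val * B.sl u = w) : w = B.sl u ∧ u ^ 8 = 1 := by
  have hc : Commute (B.v zV ^ i.val) (B.sl u) := (Commute.pow_left (B.sl_cent u).1.symm _)
  have h24 : u ^ 24 = 1 := by
    rw [← sl_card, pow_card_eq_one']
  have hw24 : (w ^ 8) ^ 3 = 1 := by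
    rw [← pow_mul, ← e, hc.mul_pow, ← map_pow, h24, map_one, mul_one, ← pow_mul,
      show i.val * 24 = 3 * (i.val * 8) by ring, pow_mul, v_cube', one_pow]
  have hw8 : w ^ 8 = 1 := eq_one_of_coprime hW (pow_mem hw 8) hw24
  rw [← e, hc.mul_pow, ← pow_mul, ← map_pow] at hw8
  have hz : B.v zV ^ (i.val * 8) = B.sl (u ^ 8)⁻¹ := by rw [map_inv]; exact eq_inv_of_mul_eq_one_left hw8
  have hcen : ∀ x, (u ^ 8)⁻¹ * x = x * (u ^ 8)⁻¹ := fun x => B.sl_inj (by
    rw [map_mul, map_mul, ← hz]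
    exact (Commute.pow_left (B.sl_cent x).1.symm _).eq)
  have h8 : u ^ 8 = 1 := by
    rcases sl_center _ hcen with h | h
    · exact inv_eq_one.1 h
    · exfalso
      rw [h, B.sl_neg] at hz
      have h2 : (B.v zV ^ (i.val * 8)) ^ 2 ^ 1 = 1 := by rw [hz, pow_one, pow_two, B.σ_sq]
      rw [eq_one_of_three_two (by rw [← pow_mul, mul_comm, pow_mul, v_cube', one_pow]) h2,
        ← B.sl_neg] at hz
      exact absurd (B.sl_inj ((map_one B.sl).trans hz)) (by decide +kernel)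
  refine ⟨?_, h8⟩
  rw [h8, map_one, mul_one] at hw8
  rw [← e, eq_one_of_three_two (n := 3) (c := B.v zV ^ i.val)
    (by rw [← pow_mul, mul_comm, pow_mul, v_cube', one_pow]) (by rw [← pow_mul]; exact hw8), one_mul]

theorem exists_dec {c : G} (ha : c * B.v zV = B.v zV * c) (hs : c * B.σ = B.σ * c) :
    ∃ i : Fin 3, ∃ u : SL23, B.v zV ^ i.val * B.sl u = c := by
  let H : Subgroup G := centralizer ({B.v zV} : Set G) ⊓ centralizer ({B.σ} : Set G)
  have hmem : ∀ p : Fin 3 × SL23, B.v zV ^ p.1.val * B.sl p.2 ∈ H := fun p =>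
    ⟨mem_centralizer_singleton_iff.2 ((Commute.pow_self _ _).mul_left
        (show Commute (B.sl p.2) (B.v zV) from (B.sl_cent p.2).1)).eq,
      mem_centralizer_singleton_iff.2 ((Commute.pow_left
        (show Commute (B.v zV) B.σ by
          rw [← B.sl_neg]; exact (B.sl_cent (-1)).1.symm) _).mul_left
        (show Commute (B.sl p.2) B.σ from (B.sl_cent p.2).2)).eq⟩
  let f : Fin 3 × SL23 → H := fun p => ⟨_, hmem p⟩
  have hf : Function.Injective f := by
    rintro ⟨i, u⟩ ⟨j, w⟩ e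
    have e' : B.v zV ^ i.val * B.sl u = B.v zV ^ j.val * B.sl w := congrArg Subtype.val e
    have hz : B.sl (w * u⁻¹) = (B.v zV ^ j.val)⁻¹ * B.v zV ^ i.val := by
      rw [map_mul, map_inv, eq_inv_mul_iff_mul_eq, ← mul_assoc, ← e', mul_inv_cancel_right]
    have h3 : ((B.v zV ^ j.val)⁻¹ * B.v zV ^ i.val) ^ 3 = 1 := by
      have hc : Commute ((B.v zV ^ j.val)⁻¹) (B.v zV ^ i.val) := (Commute.pow_pow_self _ _ _).inv_left
      rw [hc.mul_pow, inv_pow, ← pow_mul, ← pow_mul, mul_comm, pow_mul, v_cube', one_pow, inv_one,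
        one_mul, mul_comm, pow_mul, v_cube', one_pow]
    have hcen : ∀ x, w * u⁻¹ * x = x * (w * u⁻¹) := fun x => B.sl_inj (by
      rw [map_mul, map_mul B.sl x, hz]
      exact (((Commute.pow_left (B.sl_cent x).1.symm _).inv_left).mul_left
        (Commute.pow_left (B.sl_cent x).1.symm _)).eq)
    rcases sl_center _ hcen with h | h
    · obtain rfl : w = u := mul_inv_eq_one.1 h
      refine Prod.ext ?_ rfl
      have hij := mul_right_cancel e'
      by_contra hne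
      have : ∀ a b : Fin 3, a ≠ b → a.val + (3 - b.val) = 4 ∨ a.val + (3 - b.val) = 5 ∨
          a.val + (3 - b.val) = 1 ∨ a.val + (3 - b.val) = 2 := by decide
      have h1 : B.v zV ^ (i.val + (3 - j.val)) = 1 := by
        rw [pow_add, hij, ← pow_add, show j.val + (3 - j.val) = 3 by omega, v_cube']
      rcases this i j hne with k | k | k | k <;> rw [k] at h1
      · rw [pow_succ, v_cube', one_mul] at h1; exact v_ne_one B (by decide) h1
      · rw [show (5 : ℕ) = 3 + 2 from rfl, pow_add, v_cube', one_mul] at h1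
        exact v_ne_one B (by decide : zV ≠ 0) (eq_one_of_three_two (n := 1) (v_cube' B _) h1)
      · rw [pow_one] at h1; exact v_ne_one B (by decide) h1
      · exact v_ne_one B (by decide : zV ≠ 0) (eq_one_of_three_two (n := 1) (v_cube' B _) h1)
    · exfalso
      rw [h, B.sl_neg] at hz
      rw [← hz, pow_succ, pow_two, B.σ_sq, one_mul] at h3
      exact absurd (B.sl_inj (B.sl_neg.trans (h3.trans (map_one B.sl).symm))) (by decide +kernel)
  have hbij : Function.Bijective f :=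
    (Nat.bijective_iff_injective_and_card f).2 ⟨hf, by
      rw [Nat.card_prod, sl_card, Nat.card_fin]
      exact B.card_cent_z_σ.symm⟩
  obtain ⟨p, hp⟩ := hbij.2 ⟨c, mem_centralizer_singleton_iff.2 ha, mem_centralizer_singleton_iff.2 hs⟩
  exact ⟨p.1, p.2, congrArg Subtype.val hp⟩

/-- An invariant subgroup in the centraliser of the base contains `q` or meets `C(a)` in `⟨σ⟩`. -/
theorem cent_a_cases {W : Subgroup G} (hW : W ≤ centralizer (U S : Set G))
    (h3 : (Nat.card W).Coprime 3) (hWe : ∀ w ∈ W, B.v eV * w * (B.v eV)⁻¹ ∈ W)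
    (hWσ : B.σ ∈ W) (hq : B.q ∉ W) {w : G} (hw : w ∈ W) (hwa : w * B.v zV = B.v zV * w) : w ∈ U S := by
  have hws : ∀ x ∈ W, x * B.σ = B.σ * x := fun x hx =>
    (mem_centralizer_iff.1 (hW hx) B.σ (σ_mem_U S)).symm
  obtain ⟨i, u, hu⟩ := exists_dec hwa (hws w hw)
  obtain ⟨hwu, hu8⟩ := eight_of_coprime h3 hw hu
  rcases sl_eight u hu8 with rfl | rfl | hu2
  · rw [hwu, map_one]; exact one_mem _
  · rw [hwu, B.sl_neg]; exact σ_mem_U S
  exfalso
  obtain ⟨uq, huq⟩ := B.sl_q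
  have huq2 : uq * uq = -1 := B.sl_inj (by rw [map_mul, huq, B.q_sq, B.sl_neg])
  obtain ⟨k, u₀, he⟩ := exists_dec (c := B.v eV) (v_comm' B _ _) (σ_e (B := B)).symm
  have hck : Commute (B.v zV ^ k.val) (B.sl u₀) := Commute.pow_left (B.sl_cent u₀).1.symm _
  have hu03 : u₀ ^ 3 = 1 := B.sl_inj (by
    have h := e_cube B
    rw [← he, hck.mul_pow, ← pow_mul, mul_comm, pow_mul, v_cube', one_pow, one_mul] at h
    rw [map_pow, h, map_one])
  have hu01 : u₀ ≠ 1 := by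
    rintro rfl
    rw [map_one, mul_one] at he
    have : ∀ k : Fin 3, k.val • zV ≠ eV := by decide
    refine this k (B.v_inj ?_)
    rw [← he]
    have hn : ∀ n : ℕ, B.v (n • zV) = B.v zV ^ n := fun n => by
      induction n with
      | zero => rw [zero_smul, pow_zero, v_zero']
      | succ n ih => rw [succ_nsmul, B.v_add, ih, pow_succ]
    exact hn _
  have hconj : ∀ x, B.sl x ∈ W → B.sl (u₀ * x * u₀⁻¹) ∈ W := fun x hx => by
    have h := hWe _ hx
    rw [← he] at h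
    have hc : Commute (B.v zV ^ k.val) (B.sl u₀ * B.sl x * (B.sl u₀)⁻¹) := by
      rw [← map_inv, ← map_mul, ← map_mul]
      exact Commute.pow_left (B.sl_cent _).1.symm _
    rw [show B.v zV ^ k.val * B.sl u₀ * B.sl x * (B.v zV ^ k.val * B.sl u₀)⁻¹ =
      B.v zV ^ k.val * (B.sl u₀ * B.sl x * (B.sl u₀)⁻¹) * (B.v zV ^ k.val)⁻¹ by group, hc.eq,
      mul_inv_cancel_right] at h
    rwa [map_mul, map_mul, map_inv]
  have hm1 : B.sl u ∈ W := hwu ▸ hw
  have hm2 := hconj _ hm1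
  have hm3 : B.sl (u₀⁻¹ * u * u₀) ∈ W := by
    have h := hconj _ hm2
    have e : u₀⁻¹ = u₀ * u₀ := inv_eq_of_mul_eq_one_right (by
      rw [← hu03, pow_succ, pow_two, mul_assoc])
    rwa [show u₀ * (u₀ * u * u₀⁻¹) * u₀⁻¹ = (u₀ * u₀) * u * (u₀ * u₀)⁻¹ by group, ← e, inv_inv] at h
  apply hq
  rw [← huq]
  have hneg : ∀ x, B.sl x ∈ W → B.sl (-1 * x) ∈ W := fun x hx => by
    rw [map_mul, B.sl_neg]; exact mul_mem hWσ hx
  rcases sl_conj u₀ hu03 hu01 uq huq2 u hu2 with h | h | h | h | h | h <;> rw [h]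
  exacts [hm1, hneg _ hm1, hm2, hneg _ hm2, hm3, hneg _ hm3]

theorem gen_plane : ∀ x t : ZMod 3, ((x, t, t) : V3) = x.val • eV + t.val • fV := by decide

theorem plane_cases : ∀ x t : ZMod 3, ((x, t, t) : V3) ≠ 0 → (t = 0 ∧ (x = 1 ∨ -x = 1)) ∨
    (x = 0 ∧ (t = 1 ∨ -t = 1)) ∨ ((x = 1 ∧ t = 1) ∨ (-x = 1 ∧ -t = 1)) ∨
    ((x = -1 ∧ t = 1) ∨ (-x = -1 ∧ -t = 1)) := by decide

theorem bound {W : Subgroup G} (hW : W ≤ centralizer (U S : Set G)) (h3 : (Nat.card W).Coprime 3)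
    (hUW : U S ≤ W) (hWe : ∀ w ∈ W, B.v eV * w * (B.v eV)⁻¹ ∈ W)
    (hWf : ∀ w ∈ W, B.v fV * w * (B.v fV)⁻¹ ∈ W) (hL : Loc8 B)
    (hq : B.q ∉ centralizer (U S : Set G)) : W ≤ U S := by
  haveI : Fact (Nat.Prime 3) := ⟨Nat.prime_three⟩
  let A : Subgroup G :=
    { carrier := {c | ∃ x t : ZMod 3, c = B.v (x, t, t)}
      one_mem' := ⟨0, 0, (v_zero' B).symm⟩
      mul_mem' := by
        rintro _ _ ⟨x, t, rfl⟩ ⟨x', t', rfl⟩
        exact ⟨x + x', t + t', by rw [← B.v_add]; rfl⟩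
      inv_mem' := by
        rintro _ ⟨x, t, rfl⟩
        exact ⟨-x, -t, by rw [v_inv']; rfl⟩ }
  haveI : IsMulCommutative A := ⟨⟨fun a b => by
    obtain ⟨x, t, ha⟩ := a.2
    obtain ⟨x', t', hb⟩ := b.2
    exact Subtype.ext (by rw [coe_mul, coe_mul, ha, hb, v_comm'])⟩⟩
  have hA9 : Nat.card A = 9 := by
    rw [← Nat.card_congr (Equiv.ofBijective (fun p : ZMod 3 × ZMod 3 =>
      (⟨B.v (p.1, p.2, p.2), p.1, p.2, rfl⟩ : A)) ⟨fun p r h => ?_, fun c => ?_⟩)]
    · simp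
    · have := B.v_inj (congrArg Subtype.val h)
      simp only [Prod.mk.injEq] at this
      exact Prod.ext this.1 this.2.1
    · obtain ⟨x, t, hc⟩ := c.2
      exact ⟨(x, t), Subtype.ext hc.symm⟩
  refine CfsgLib.Coprime.le_of_centralizer_le_of_not_isCyclic (A := A) ?_ ?_ ?_ ?_
  · intro hc
    obtain ⟨c, hc⟩ := hc.exists_generator
    have h9 := orderOf_eq_card_of_forall_mem_zpowers hc
    rw [hA9] at h9
    have h3' : c ^ 3 = 1 := Subtype.ext (by
      obtain ⟨x, t, hx⟩ := c.2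
      rw [coe_pow, hx, v_cube']; rfl)
    have := Nat.le_of_dvd (by norm_num) (orderOf_dvd_of_pow_eq_one h3')
    omega
  · rintro _ ⟨x, t, rfl⟩
    have hn : ∀ (y : V3) (n : ℕ), B.v (n • y) = B.v y ^ n := fun y n => by
      induction n with
      | zero => rw [zero_smul, pow_zero, v_zero']
      | succ n ih => rw [succ_nsmul, B.v_add, ih, pow_succ]
    rw [gen_plane, B.v_add, hn, hn]
    exact mul_mem (pow_mem (mem_normalizer_of_maps hWe) _) (pow_mem (mem_normalizer_of_maps hWf) _)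
  · rw [hA9, show 9 = 3 ^ 2 by norm_num]
    exact (Nat.Coprime.pow_right 2 h3).symm
  rintro _ ⟨x, t, rfl⟩ hne w ⟨hwW, hwc⟩
  have hwc' : w * B.v (x, t, t) = B.v (x, t, t) * w := mem_centralizer_singleton_iff.1 hwc
  have hneg : w * B.v (-x, -t, -t) = B.v (-x, -t, -t) * w := by
    rw [show ((-x, -t, -t) : V3) = -(x, t, t) from rfl, ← v_inv']
    exact (Commute.inv_right (show Commute w _ from hwc')).eq
  -- the case of `e`
  have he : ∀ w ∈ W, w * B.v eV = B.v eV * w → w ∈ U S := by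
    intro w hw hwe
    obtain ⟨i, π, hπ, rfl⟩ := cent_U_e S (hW hw) hwe
    have hU : S.φ π ∈ U S := ⟨π, hπ, rfl⟩
    have h1 : B.v eV ^ i ∈ W := by
      have := mul_mem hw (inv_mem (hUW hU))
      rwa [mul_inv_cancel_right] at this
    rw [eq_one_of_coprime h3 h1 (by rw [← pow_mul, mul_comm, pow_mul, e_cube, one_pow]), one_mul]
    exact hU
  -- the case of `f`
  have hf : w * B.v fV = B.v fV * w → w ∈ U S := fun hwf => by
    refine he w hwW ?_
    have hn : w ∈ normalizer (B.J : Set G) := hL.cent_f (mem_centralizer_singleton_iff.2 hwf)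
    have hJ : w * B.v eV * w⁻¹ * (B.v eV)⁻¹ ∈ B.J :=
      mul_mem ((mem_normalizer_iff.1 hn _).1 (v_mem' B _)) (inv_mem (v_mem' B _))
    have hWm : w * B.v eV * w⁻¹ * (B.v eV)⁻¹ ∈ W := by
      rw [show w * B.v eV * w⁻¹ * (B.v eV)⁻¹ = w * (B.v eV * w⁻¹ * (B.v eV)⁻¹) by group]
      exact mul_mem hwW (hWe _ (inv_mem hwW))
    obtain ⟨y, hy⟩ := (B.mem_J _).1 hJ
    have h1 := eq_one_of_coprime h3 hWm (by rw [← hy, v_cube'])
    rwa [mul_inv_eq_one, mul_inv_eq_iff_eq_mul] at h1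
  have hq' : B.q ∉ W := fun h => hq (hW h)
  rcases plane_cases x t (fun h => hne (by rw [h, v_zero'])) with
    ⟨ht, hx | hx⟩ | ⟨hx, ht | ht⟩ | (⟨hx, ht⟩ | ⟨hx, ht⟩) | (⟨hx, ht⟩ | ⟨hx, ht⟩)
  · rw [hx, ht] at hwc'; exact he w hwW hwc'
  · rw [hx, ht, neg_zero] at hneg; exact he w hwW hneg
  · rw [hx, ht] at hwc'; exact hf hwc'
  · rw [hx, ht, neg_zero] at hneg; exact hf hneg
  · rw [hx, ht] at hwc'; exact cent_a_cases S hW h3 hWe (hUW (σ_mem_U S)) hq' hwW hwc'
  · rw [hx, ht] at hneg; exact cent_a_cases S hW h3 hWe (hUW (σ_mem_U S)) hq' hwW hneg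
  all_goals
    have hwa : w * B.v (-1, 1, 1) = B.v (-1, 1, 1) * w := by
      first
        | (rw [hx, ht] at hwc'; exact hwc')
        | (rw [hx, ht] at hneg; exact hneg)
    -- conjugate by `ε`
    obtain ⟨W', hW'⟩ : ∃ W' : Subgroup G, W' = W.map (MulAut.conj E.ε).toMonoidHom := ⟨_, rfl⟩
    have hmem : ∀ x, x ∈ W' ↔ E.ε * x * E.ε ∈ W := fun x => by
      rw [hW', mem_map_equiv, MulAut.conj_symm_apply, ε_inv]
    have hfix : ∀ y ∈ U S, E.ε * y * E.ε = y := fun y hy => by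
      rw [← U_comm_ε S hy, mul_assoc, E.ε_sq, mul_one]
    have hεe : E.ε * B.v eV * E.ε = (B.v eV)⁻¹ := by
      conv_lhs => arg 2; rw [← ε_inv (E := E)]
      exact ε_e
    have h1 : W' ≤ centralizer (U S : Set G) := fun x hx => mem_centralizer_iff.2 fun y hy => by
      have h := mem_centralizer_iff.1 (hW ((hmem x).1 hx)) y hy
      rw [← hfix y hy] at h
      have h' := congrArg (fun c => E.ε * c * E.ε) h
      simp only [← mul_assoc, E.ε_sq, one_mul] at h'
      simpa [mul_assoc, E.ε_sq, ← mul_assoc E.ε E.ε] using h'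
    have hq'' : B.q ∉ W' := fun h => hq (h1 h)
    have h2 : (Nat.card W').Coprime 3 := by
      rw [hW', card_map_of_injective (MulAut.conj E.ε).injective]; exact h3
    have h4 : ∀ x ∈ W', B.v eV * x * (B.v eV)⁻¹ ∈ W' := fun x hx => by
      rw [hmem]
      have hinv := hWe _ (hWe _ ((hmem x).1 hx))
      have e2 : (B.v eV)⁻¹ = B.v eV * B.v eV :=
        inv_eq_of_mul_eq_one_right (by rw [← e_cube B, pow_succ, pow_two, mul_assoc])
      have e3 : B.v eV * (B.v eV * (E.ε * x * E.ε) * (B.v eV)⁻¹) * (B.v eV)⁻¹ =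
          (B.v eV)⁻¹ * (E.ε * x * E.ε) * B.v eV := by
        rw [show B.v eV * (B.v eV * (E.ε * x * E.ε) * (B.v eV)⁻¹) * (B.v eV)⁻¹ =
          (B.v eV * B.v eV) * (E.ε * x * E.ε) * (B.v eV * B.v eV)⁻¹ by group, ← e2, inv_inv]
      rw [e3, ← hεe] at hinv
      have e4 : E.ε * (B.v eV * x * (B.v eV)⁻¹) * E.ε =
          E.ε * B.v eV * E.ε * (E.ε * x * E.ε) * (E.ε * B.v eV * E.ε)⁻¹ := by
        simp only [mul_inv_rev, ε_inv]
        simp [mul_assoc, ← mul_assoc E.ε E.ε, E.ε_sq]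
      rw [e4]
      convert hinv using 2
      rw [hεe, inv_inv]
    have h5 : B.σ ∈ W' := by rw [hmem, hfix _ (σ_mem_U S)]; exact hUW (σ_mem_U S)
    have hxW : E.ε * w * E.ε ∈ W' := by
      rw [hmem]
      simpa [mul_assoc, E.ε_sq, ← mul_assoc E.ε E.ε] using hwW
    have hzε : E.ε * B.v (-1, 1, 1) * E.ε = B.v zV := by
      conv_lhs => arg 2; rw [← ε_inv (E := E)]
      rw [E.conj_ε]
      rfl
    have h6 := cent_a_cases S h1 h2 h4 h5 hq'' hxW (by
      rw [← hzε]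
      simp only [mul_assoc, ← mul_assoc E.ε E.ε, E.ε_sq, one_mul]
      rw [← mul_assoc w, hwa, mul_assoc])
    have := hfix _ h6
    simp only [mul_assoc, ← mul_assoc E.ε E.ε, E.ε_sq, one_mul, mul_one] at this
    rw [this]
    simpa [mul_assoc] using h6

/-- The centraliser of the base normalises `⟨e⟩` unless it contains `q`. -/
theorem cent_base (hL : Loc8 B) (hq : B.q ∉ centralizer (U S : Set G)) :
    ∀ c ∈ centralizer (U S : Set G), c * B.v eV * c⁻¹ ∈ zpowers (B.v eV) := by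
  haveI : Fact (Nat.Prime 3) := ⟨Nat.prime_three⟩
  obtain ⟨N, hN⟩ : ∃ N : Subgroup G, N = normalizer (U S : Set G) := ⟨_, rfl⟩
  have hUN : U S ≤ N := hN ▸ le_normalizer
  have hCN : centralizer (U S : Set G) ≤ N := hN ▸ centralizer_le_normalizer _
  have heN : B.v eV ∈ N := hCN (mem_centralizer_iff.2 fun w hw => U_comm_e S hw)
  have hfN : B.v fV ∈ N := hN ▸ mem_normalizer_of_maps (f_normalizes S)
  let R : Subgroup N := (U S).subgroupOf N
  haveI : R.Normal := by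
    subst hN
    exact Subgroup.normal_subgroupOf_of_le_normalizer le_rfl
  let E2 : Subgroup N :=
    { carrier := {c | ∃ x t : ZMod 3, (c : G) = B.v (x, t, t)}
      one_mem' := ⟨0, 0, (v_zero' B).symm⟩
      mul_mem' := by
        rintro a b ⟨x, t, ha⟩ ⟨x', t', hb⟩
        exact ⟨x + x', t + t', by rw [coe_mul, ha, hb, ← B.v_add]; rfl⟩
      inv_mem' := by
        rintro a ⟨x, t, ha⟩
        exact ⟨-x, -t, by rw [coe_inv, ha, v_inv']; rfl⟩ }
  have hE2 : IsPGroup 3 E2 := fun c => ⟨1, Subtype.ext (Subtype.ext (by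
    obtain ⟨x, t, hc⟩ := c.2
    rw [pow_one]
    show ((c : N) : G) ^ 3 = 1
    rw [hc, v_cube']))⟩
  let M : Subgroup N := (centralizer (U S : Set G)).subgroupOf N
  have hR3 : (Nat.card R).Coprime 3 := by
    rw [Nat.card_congr (subgroupOfEquivOfLe hUN).toEquiv]; exact U_coprime S
  have hMn : M.Normal := by
    subst hN
    exact Subgroup.normal_subgroupOf_centralizer_normalizer _
  obtain ⟨O, hRO, -, hOU, -, -, hMX⟩ := CfsgLib.SNineThree.CentTau.self_three_mod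
    CfsgLib.SNineThree.self_three R M E2 R (⟨B.v eV, heN⟩ : N) hR3
    (fun w hw => U_le_cent S hw) hE2
    (by rw [normalizer_eq_top_iff.2 hMn]; exact le_top)
    (mem_centralizer_iff.2 fun w hw => U_comm_e S hw)
    (orderOf_eq_prime (Subtype.ext (e_cube B)) fun h => e_ne B (congrArg Subtype.val h))
    (fun c hc hcomm => by
      obtain ⟨r, hr⟩ : ∃ r, r = (c : G) * B.v eV * (c : G)⁻¹ * (B.v eV)⁻¹ := ⟨_, rfl⟩
      have hrU : r ∈ U S := hr ▸ hcomm
      have hrc : Commute r (B.v eV) := U_comm_e S hrU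
      have e : (c : G) * B.v eV * (c : G)⁻¹ = r * B.v eV := by rw [hr]; group
      have h3 := congrArg (· ^ 3) e
      simp only [conj_pow, e_cube, mul_one, mul_inv_cancel, hrc.mul_pow] at h3
      rw [eq_one_of_coprime (U_coprime S) hrU h3.symm, one_mul, mul_inv_eq_iff_eq_mul] at e
      obtain ⟨i, π, hπ, hcπ⟩ := cent_U_e S hc e
      have : c = (⟨B.v eV, heN⟩ : N) ^ i * ⟨S.φ π, hUN ⟨π, hπ, rfl⟩⟩ := Subtype.ext hcπ
      rw [this]
      exact mul_mem (mem_sup_left (pow_mem (mem_zpowers _) _)) (mem_sup_right ⟨π, hπ, rfl⟩))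
    hR3
    (fun W hWM hW hWn => by
      -- enlarge by the base
      have hWR : (Nat.card (W ⊔ R : Subgroup N)).Coprime 3 := by
        have h := Subgroup.relIndex_mul_relIndex ⊥ R (W ⊔ R) bot_le le_sup_right
        rw [Subgroup.relIndex_bot_left, Subgroup.relIndex_bot_left] at h
        rw [← h]
        refine Nat.Coprime.mul_left hR3 ?_
        have hd : R.relIndex (W ⊔ R) ∣ Nat.card W := by
          rw [Subgroup.relIndex_sup_right, Subgroup.relIndex]
          exact Subgroup.index_dvd_card _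
        exact Nat.Coprime.coprime_dvd_left hd hW
      have hnorm : E2 ≤ normalizer ((W ⊔ R : Subgroup N) : Set N) :=
        (le_inf hWn (le_trans le_top (normalizer_eq_top_iff.2 inferInstance).ge)).trans
          (Subgroup.normalizer_inf_normalizer_le_normalizer_sup _ _)
      intro w hw
      refine bound S (W := (W ⊔ R).map N.subtype) ?_ ?_ ?_ ?_ ?_ hL hq ⟨w, mem_sup_left hw, rfl⟩
      · rintro _ ⟨x, hx, rfl⟩
        exact (sup_le hWM fun y hy => U_le_cent S hy : W ⊔ R ≤ M) hx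
      · rw [card_map_of_injective (subtype_injective _)]; exact hWR
      · intro y hy
        exact ⟨⟨y, hUN hy⟩, mem_sup_right hy, rfl⟩
      · rintro _ ⟨x, hx, rfl⟩
        exact ⟨_, (mem_normalizer_iff.1 (hnorm (show (⟨B.v eV, heN⟩ : N) ∈ E2 from ⟨1, 0, rfl⟩)) x).1 hx,
          rfl⟩
      · rintro _ ⟨x, hx, rfl⟩
        exact ⟨_, (mem_normalizer_iff.1 (hnorm (show (⟨B.v fV, hfN⟩ : N) ∈ E2 from ⟨0, 1, rfl⟩)) x).1 hx,
          rfl⟩)
  intro c hc
  have h := (mem_normalizer_iff.1 (hMX (show (⟨c, hCN hc⟩ : N) ∈ M from hc)) _).1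
    (mem_sup_left (mem_zpowers (⟨B.v eV, heN⟩ : N)))
  obtain ⟨a, ha, r, hr, he⟩ := mem_sup_of_normal_right.1
    ((sup_le_sup_left hOU _ : zpowers (⟨B.v eV, heN⟩ : N) ⊔ O ≤ _ ⊔ R) h)
  obtain ⟨j, rfl⟩ := mem_zpowers_iff.1 ha
  have e : B.v eV ^ j * (r : G) = c * B.v eV * c⁻¹ := by
    have := congrArg (fun x : N => (x : G)) he
    simpa using this
  have hcomm : Commute (B.v eV ^ j) (r : G) := (show Commute (B.v eV) (r : G) from (U_comm_e S hr).symm).zpow_left j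
  have h3 := congrArg (· ^ 3) e
  simp only [hcomm.mul_pow, conj_pow, e_cube, mul_one, mul_inv_cancel] at h3
  rw [← zpow_natCast, ← zpow_mul, mul_comm, zpow_mul, zpow_natCast, e_cube, one_zpow, one_mul] at h3
  rw [eq_one_of_coprime (U_coprime S) (c := (r : G)) hr h3, mul_one] at e
  exact ⟨j, e⟩

end CfsgLib.SpSixThree.KeyProof
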