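import Cfsg.Agent.Lib.SpSixThree.LocBase
import Cfsg.Agent.Lib.CharsMore.NineTI.Klein.Main

/-!
# Statement S3342, local centralizers: the planes of `J` and the centralizer of `f`
-/

set_option autoImplicit false
set_option maxRecDepth 100000
set_option maxHeartbeats 800000
set_option linter.unusedSectionVars false
set_option linter.style.haveILetI false

namespace CfsgLib.SpSixThree.Loc

open Subgroup
open CfsgLib.PSpAmalgam (V3 zV eV fV gV actR actS card_dvd_six)
open scoped Pointwise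

universe u

/-- A linear combination. -/
def comb (i j : Fin 3) (x y : V3) : V3 := i.val • x + j.val • y

/-- All three coordinates are non-zero. -/
def Full (w : V3) : Prop := w.1 ≠ 0 ∧ w.2.1 ≠ 0 ∧ w.2.2 ≠ 0

instance : DecidablePred Full := fun w => by unfold Full; infer_instance

/-- Two vectors are independent. -/
def Indep (x y : V3) : Prop := x ≠ 0 ∧ ∀ t : ZMod 3, y ≠ (t * x.1, t * x.2.1, t * x.2.2)

instance (x y : V3) : Decidable (Indep x y) := by unfold Indep; infer_instance

/-- A vector in the span. -/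
def InSpan (x y w : V3) : Prop := ∃ i j, comb i j x y = w

instance (x y w : V3) : Decidable (InSpan x y w) := by unfold InSpan; infer_instance

theorem plane_cases : ∀ x y : V3, Indep x y →
    (∃ i j, Full (comb i j x y)) ∨ ∃ r : Fin 3, InSpan x y (actR^[r.val] eV) ∧
      InSpan x y (actR^[r.val] (0, 1, 0)) := by decide +kernel

theorem shift_sum : ∀ w y : V3, vsum y ≠ 0 → ∃ i : Fin 3, vsum (w - i.val • y) = 0 := by
  decide +kernel

theorem third_ne : ((0, 0, 1) : V3) ≠ 0 := by decide +kernel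

theorem basis_split : ∀ y : V3,
    y = y.1.val • eV + (y.2.1.val • (0, 1, 0) + y.2.2.val • (0, 0, 1)) := by decide +kernel

theorem third_line : ∀ y : V3, (y.1, y.2.1) = ((0 : ZMod 3), (0 : ZMod 3)) →
    ∃ i : Fin 3, i.val • ((0, 0, 1) : V3) = y := by decide +kernel

theorem two_ne : (1 : ZMod 3) + 1 ≠ 0 := by decide

theorem zV_ne : ((1, 2, 2) : V3) ≠ 0 := by decide +kernel

theorem full_sign : ∀ w : V3, Full w → ∃ i j l : Fin 2,
    act8 ((i, j, l), 0, 0) w = zV ∧ (∀ u, act8 ((i, j, l), 0, 0) (act8 ((i, j, l), 0, 0) u) = u) ∧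
    ∀ t : ZMod 3, act8 ((i, j, l), 0, 0) (t, t, t) = (t * w.1, t * w.2.1, t * w.2.2) := by
  decide +kernel

theorem sq_one : ∀ t : ZMod 3, t ≠ 0 → t * t = 1 := by decide

theorem val_nsmul : ∀ t : ZMod 3, ∀ x : V3, t.val • x = (t * x.1, t * x.2.1, t * x.2.2) := by
  decide +kernel

theorem val_nsmul' : ∀ t s : ZMod 3, t.val • s = t * s := by decide

theorem sum_zero_diag : ∀ y : V3, vsum y = 0 → (∀ t : ZMod 3, y ≠ (t, t, t)) →
    ∃ i j : Fin 3, comb i j zV y = gV := by decide +kernel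

theorem actR_fix : ∀ y : V3, actR y = y → y = (y.1, y.1, y.1) := by decide +kernel

theorem actR_sum : ∀ y : V3, vsum (actR y) = vsum y := by decide +kernel

theorem sl_three_normal : ∀ u : Matrix.SpecialLinearGroup (Fin 2) (ZMod 3), u ^ 3 = 1 → u ≠ 1 →
    ∃ w : Matrix.SpecialLinearGroup (Fin 2) (ZMod 3), (u * (w * u * w⁻¹)) ^ 3 ≠ 1 := by
  decide +kernel

theorem sl_invol : ∀ u : Matrix.SpecialLinearGroup (Fin 2) (ZMod 3), u * u = 1 →
    u = 1 ∨ u = -1 := by decide +kernel

theorem sl_card : Fintype.card (Matrix.SpecialLinearGroup (Fin 2) (ZMod 3)) = 24 := by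
  decide +kernel

theorem vsum_facts : vsum gV = 0 ∧ vsum zV = 0 ∧ vsum ((1, 2, 2) : V3) ≠ 0 ∧
    gV + gV ≠ 0 := by decide +kernel

variable {G : Type u} [Group G] (B : Base G)

theorem comm_comb {c : G} {x y : V3} (hx : c * B.v x = B.v x * c) (hy : c * B.v y = B.v y * c)
    (i j : Fin 3) : c * B.v (comb i j x y) = B.v (comb i j x y) * c := by
  rw [comb, B.v_add, v_nsmul, v_nsmul]
  exact ((show Commute c (B.v x) from hx).pow_right _).mul_right
    ((show Commute c (B.v y) from hy).pow_right _)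

theorem comm_conj {n c : G} {x x' : V3} (hn : n * B.v x * n⁻¹ = B.v x')
    (hc : c * B.v x' = B.v x' * c) : n⁻¹ * c * n * B.v x = B.v x * (n⁻¹ * c * n) := by
  rw [← hn] at hc
  calc n⁻¹ * c * n * B.v x = n⁻¹ * (c * (n * B.v x * n⁻¹)) * n := by group
    _ = n⁻¹ * (n * B.v x * n⁻¹ * c) * n := by rw [hc]
    _ = _ := by group

theorem normalizer_conj {n c : G} (hn : n ∈ normalizer (B.J : Set G))
    (hc : n⁻¹ * c * n ∈ normalizer (B.J : Set G)) : c ∈ normalizer (B.J : Set G) := by
  rw [show c = n * (n⁻¹ * c * n) * n⁻¹ by group]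
  exact mul_mem (mul_mem hn hc) (inv_mem hn)

theorem β_normalizer : B.β ∈ normalizer (B.J : Set G) :=
  mem_normalizer_of_conj B (fun x => ⟨(x.2.1, x.2.2, x.1), rfl⟩) B.conj_β

/-- `R ∩ C(v y)` lies in `J` unless `y` is diagonal. -/
theorem R_cent_le {y : V3} (hy : ∀ t : ZMod 3, y ≠ (t, t, t)) {r : G} (hr : r ∈ B.R)
    (hc : r * B.v y = B.v y * r) : r ∈ B.J := by
  haveI : Fact (Nat.Prime 3) := ⟨Nat.prime_three⟩
  by_contra hrJ
  set H := B.R ⊓ centralizer ({B.v y} : Set G) with hH
  haveI : Finite B.R := Nat.finite_of_card_ne_zero (by rw [B.card_R]; norm_num)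
  have hHR : H = B.R := by
    have hle : H ≤ B.R := inf_le_left
    haveI : Finite H := Finite.of_injective (inclusion hle) (inclusion_injective hle)
    refine eq_of_le_of_card_ge hle ?_
    obtain ⟨k, -, hk⟩ := (Nat.dvd_prime_pow Nat.prime_three).1
      (show Nat.card H ∣ 3 ^ 3 by rw [show (3 : ℕ) ^ 3 = 27 by norm_num, ← B.card_R]
                                  exact card_dvd_of_le hle)
    -- more than nine elements
    let f : Option (ZMod 3 × ZMod 3) → H := fun o => match o with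
      | none => ⟨r, hr, mem_centralizer_singleton_iff.2 hc⟩
      | some p => ⟨B.v (p.1, p.2, -p.1 - p.2), (B.v_mem_R _).2 (by simp [vsum]),
          mem_centralizer_singleton_iff.2 (v_comm B _ _)⟩
    have h10 : Nat.card (Option (ZMod 3 × ZMod 3)) ≤ Nat.card H := by
      refine Nat.card_le_card_of_injective f ?_
      rintro (_ | p) (_ | q) h
      · rfl
      · exact absurd (show r = _ from congrArg Subtype.val h) fun e => hrJ (e ▸ v_mem B _)
      · exact absurd (show _ = r from congrArg Subtype.val h) fun e => hrJ (e ▸ v_mem B _)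
      · have := B.v_inj (congrArg Subtype.val h)
        simp only [Prod.ext_iff] at this
        rw [show p = q from Prod.ext this.1 this.2.1]
    simp only [Nat.card_eq_fintype_card, Fintype.card_option, Fintype.card_prod, ZMod.card] at h10
    rw [B.card_R]
    have : 3 ≤ k := by
      by_contra h
      interval_cases k <;> omega
    rw [hk]
    exact (by norm_num : (27 : ℕ) = 3 ^ 3).le.trans (Nat.pow_le_pow_right (by norm_num) this)
  have hβ : B.β ∈ H := hHR.symm ▸ B.β_mem
  have e : actR y = y := B.v_inj (by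
    rw [← B.conj_β]
    exact mul_inv_eq_iff_eq_mul.2 (mem_centralizer_singleton_iff.1 hβ.2))
  exact hy y.1 (actR_fix y e)

variable [Finite G]

theorem mem_normalizer_of_image {n : G} (h : ∀ y, n * B.v y * n⁻¹ ∈ B.J) :
    n ∈ normalizer (B.J : Set G) := by
  have hle : B.J.map (MulAut.conj n).toMonoidHom ≤ B.J := by
    rintro _ ⟨q, hq, rfl⟩
    obtain ⟨y, rfl⟩ := (B.mem_J q).1 hq
    exact h y
  have heq := Subgroup.eq_of_le_of_card_ge hle (by
    rw [Subgroup.card_map_of_injective (f := (MulAut.conj n).toMonoidHom) (MulAut.conj n).injective])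
  exact mem_normalizer_iff.2 fun z => by
    conv_rhs => rw [← heq]
    exact (mem_map_iff_mem (f := (MulAut.conj n).toMonoidHom) (MulAut.conj n).injective).symm

/-- `C(a) = R SL₂(3)`. -/
theorem exists_rs {c : G} (hc : c * B.v zV = B.v zV * c) :
    ∃ r ∈ B.R, ∃ u, c = r * B.sl u := by
  have hinter : ∀ u, B.sl u ∈ B.R → u = 1 := fun u hu => by
    by_contra hne
    have h3 : ∀ w, B.sl w ∈ B.R → w ^ 3 = 1 := fun w hw =>
      B.sl_inj (by rw [map_pow, B.R_cube _ hw, map_one])
    obtain ⟨w, hw⟩ := sl_three_normal u (h3 u hu) hne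
    refine hw (h3 _ ?_)
    rw [map_mul, map_mul, map_mul, map_inv]
    exact mul_mem hu ((mem_normalizer_iff.1
      (B.R_normal (mem_centralizer_singleton_iff.2 (B.sl_cent w).1)) _).1 hu)
  let f : B.R × Matrix.SpecialLinearGroup (Fin 2) (ZMod 3) → centralizer ({B.v zV} : Set G) :=
    fun p => ⟨(p.1 : G) * B.sl p.2, mem_centralizer_singleton_iff.2
      ((show Commute (p.1 : G) (B.v zV) from B.R_comm _ p.1.2).mul_left (B.sl_cent p.2).1).eq⟩
  have hf : Function.Injective f := by
    rintro ⟨r, u⟩ ⟨r', u'⟩ h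
    have h' : (r : G) * B.sl u = r' * B.sl u' := congrArg Subtype.val h
    have e : B.sl (u * u'⁻¹) = (r : G)⁻¹ * r' := by
      rw [map_mul, map_inv, eq_inv_mul_iff_mul_eq, ← mul_assoc, h', mul_inv_cancel_right]
    have hu : u = u' := mul_inv_eq_one.1 (hinter _ (e ▸ mul_mem (inv_mem r.2) r'.2))
    subst hu
    exact Prod.ext (Subtype.ext (mul_right_cancel h')) rfl
  have hb := Function.Injective.bijective_of_nat_card_le hf (by
    rw [Nat.card_prod, B.card_R, B.card_cent_z, Nat.card_eq_fintype_card, sl_card])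
  obtain ⟨⟨r, u⟩, h⟩ := hb.2 ⟨c, mem_centralizer_singleton_iff.2 hc⟩
  exact ⟨r, r.2, u, (congrArg Subtype.val h).symm⟩

/-- **A plane through `a`.** -/
theorem cent_a_pair {y : V3} (hy : ∀ t : ZMod 3, y ≠ (t, t, t)) {c : G}
    (hcz : c * B.v zV = B.v zV * c) (hcy : c * B.v y = B.v y * c) :
    c ∈ normalizer (B.J : Set G) := by
  haveI : Fact (Nat.Prime 3) := ⟨Nat.prime_three⟩
  haveI : Fact (Nat.Prime 2) := ⟨Nat.prime_two⟩
  have hJR : B.J ≤ normalizer (B.R : Set G) := fun g hg => by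
    obtain ⟨w, rfl⟩ := (B.mem_J g).1 hg
    exact B.R_normal (mem_centralizer_singleton_iff.2 (v_comm B _ _))
  have hcR : c ∈ normalizer (B.R : Set G) := B.R_normal (mem_centralizer_singleton_iff.2 hcz)
  set S := B.R ⊔ B.J with hS
  have hmemS : ∀ {g}, g ∈ S → ∃ r ∈ B.R, ∃ w, g = r * B.v w := fun {g} hg => by
    have h : g ∈ ((B.R ⊔ B.J : Subgroup G) : Set G) := hg
    rw [coe_mul_of_right_le_normalizer_left _ _ hJR] at h
    obtain ⟨r, hr, j, hj, rfl⟩ := h
    obtain ⟨w, rfl⟩ := (B.mem_J j).1 hj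
    exact ⟨r, hr, w, rfl⟩
  -- it is enough to normalise `R J`
  have key : (∀ w, c * B.v w * c⁻¹ ∈ S) → c ∈ normalizer (B.J : Set G) := fun h => by
    refine mem_normalizer_of_image B fun w => ?_
    obtain ⟨r, hr, w', e⟩ := hmemS (h w)
    have hcomm : Commute (c * B.v w * c⁻¹) (B.v y) :=
      ((show Commute c (B.v y) from hcy).mul_left (v_comm B w y)).mul_left
        (show Commute c (B.v y) from hcy).inv_left
    have hr' : r = c * B.v w * c⁻¹ * (B.v w')⁻¹ := by rw [e, mul_inv_cancel_right]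
    have hry : r * B.v y = B.v y * r := by
      rw [hr']
      exact (hcomm.mul_left (show Commute (B.v w') (B.v y) from v_comm B w' y).inv_left).eq
    rw [e]
    exact mul_mem (R_cent_le B hy hr hry) (v_mem B _)
  by_cases hs : vsum y = 0
  · -- `v y` may be replaced by `gV`
    obtain ⟨i, j, hij⟩ := sum_zero_diag y hs hy
    have hcg : c * B.v gV = B.v gV * c := by
      rw [← hij]; exact comm_comb B hcz hcy i j
    set D := centralizer ({B.v zV, B.v gV} : Set G) with hD
    have hDmem : ∀ {g}, g ∈ D ↔ g * B.v zV = B.v zV * g ∧ g * B.v gV = B.v gV * g := by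
      intro g
      rw [hD, mem_centralizer_iff]
      simp [eq_comm]
    have hDR : D ≤ normalizer (B.R : Set G) := fun d hd =>
      B.R_normal (mem_centralizer_singleton_iff.2 (hDmem.1 hd).1)
    set H := (B.R ⊔ D).comap B.sl with hH
    have hodd : Odd (Nat.card H) := by
      rw [← Nat.not_even_iff_odd, even_iff_two_dvd]
      intro h2
      obtain ⟨⟨u, hu⟩, huo⟩ := exists_prime_orderOf_dvd_card' (G := H) 2 h2
      rw [Subgroup.orderOf_mk] at huo
      have hu2 : u * u = 1 := by
        have := pow_orderOf_eq_one u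
        rwa [huo, pow_two] at this
      have hm : B.σ ∈ ((B.R ⊔ D : Subgroup G) : Set G) := by
        rcases sl_invol u hu2 with rfl | rfl
        · simp at huo
        · rw [← B.sl_neg]; exact hu
      rw [coe_mul_of_right_le_normalizer_left _ _ hDR] at hm
      obtain ⟨r, hr, d, hd, e⟩ := hm
      have hdg := (hDmem.1 hd).2
      have hσg : B.σ * B.v gV * B.σ⁻¹ = (B.v gV)⁻¹ := by
        rw [B.conj_σ, ← v_neg]
        congr 1
      have h1 : r * B.v gV * r⁻¹ = (B.v gV)⁻¹ := by
        rw [← hσg, ← e]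
        show r * B.v gV * r⁻¹ = r * d * B.v gV * (r * d)⁻¹
        calc r * B.v gV * r⁻¹ = r * (B.v gV * d * d⁻¹) * r⁻¹ := by group
          _ = r * (d * B.v gV * d⁻¹) * r⁻¹ := by rw [hdg]
          _ = _ := by group
      have h2 : r * (B.v gV)⁻¹ * r⁻¹ = B.v gV := by
        calc r * (B.v gV)⁻¹ * r⁻¹ = (r * B.v gV * r⁻¹)⁻¹ := by group
          _ = B.v gV := by rw [h1, inv_inv]
      have h3 : r ^ 3 * B.v gV * (r ^ 3)⁻¹ = (B.v gV)⁻¹ := by
        calc r ^ 3 * B.v gV * (r ^ 3)⁻¹ = r * (r * (r * B.v gV * r⁻¹) * r⁻¹) * r⁻¹ := by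
              simp only [pow_succ, pow_zero, one_mul, mul_inv_rev, mul_assoc]
          _ = _ := by rw [h1, h2, h1]
      rw [B.R_cube r hr, one_mul, inv_one, mul_one, ← v_neg] at h3
      exact vsum_facts.2.2.2 (add_eq_zero_iff_eq_neg.2 (B.v_inj h3))
    obtain ⟨u0, hu0⟩ := B.sl_z'
    have hu0H : u0 ∈ H := by
      show B.sl u0 ∈ B.R ⊔ D
      rw [hu0]
      exact mem_sup_right (hDmem.2 ⟨v_comm B _ _, v_comm B _ _⟩)
    have hu0ne : u0 ≠ 1 := fun e => by
      rw [e, map_one] at hu0
      exact zV_ne ((v_eq_one B).1 hu0.symm)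
    have hu03 : orderOf u0 = 3 := by
      refine orderOf_eq_prime (B.sl_inj ?_) hu0ne
      rw [map_pow, hu0, v_cube, map_one]
    have hHeq : H ≤ zpowers u0 := by
      refine (eq_of_le_of_card_ge (zpowers_le.2 hu0H) ?_).ge
      rw [Nat.card_zpowers, hu03]
      have hdvd : Nat.card H ∣ 3 := by
        have h24 : Nat.card H ∣ 8 * 3 := by
          have := H.card_subgroup_dvd_card
          rwa [Nat.card_eq_fintype_card (α := Matrix.SpecialLinearGroup (Fin 2) (ZMod 3)), sl_card] at this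
        exact (Nat.Coprime.pow_right 3 (Nat.coprime_two_right.2 hodd) :
          (Nat.card H).Coprime 8).dvd_of_dvd_mul_left h24
      exact Nat.le_of_dvd (by norm_num) hdvd
    have hDS : D ≤ S := fun d hd => by
      obtain ⟨r, hr, u, rfl⟩ := exists_rs B (hDmem.1 hd).1
      have huH : u ∈ H := by
        show B.sl u ∈ B.R ⊔ D
        have e : B.sl u = r⁻¹ * (r * B.sl u) := (inv_mul_cancel_left _ _).symm
        rw [e]
        exact mul_mem (inv_mem (mem_sup_left hr)) (mem_sup_right hd)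
      obtain ⟨n, rfl⟩ := mem_zpowers_iff.1 (hHeq huH)
      rw [map_zpow, hu0]
      exact mul_mem (mem_sup_left hr) (zpow_mem (mem_sup_right (v_mem B _)) _)
    have hcS : c ∈ S := hDS (hDmem.2 ⟨hcz, hcg⟩)
    exact key fun w => mul_mem (mul_mem hcS (mem_sup_right (v_mem B w))) (inv_mem hcS)
  · -- `R J = R ⟨v y⟩`
    refine key fun w => ?_
    obtain ⟨i, hi⟩ : ∃ i : Fin 3, vsum (w - i.val • y) = 0 :=
      shift_sum w y hs
    have e : B.v w = B.v (w - i.val • y) * B.v y ^ i.val := by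
      rw [← v_nsmul, ← B.v_add, sub_add_cancel]
    rw [e, show c * (B.v (w - i.val • y) * B.v y ^ i.val) * c⁻¹ =
        c * B.v (w - i.val • y) * c⁻¹ * (c * B.v y * c⁻¹) ^ i.val by rw [conj_pow]; group,
      hcy, mul_inv_cancel_right]
    exact mul_mem (mem_sup_left ((mem_normalizer_iff.1 hcR _).1 ((B.v_mem_R _).2 hi)))
      (pow_mem (mem_sup_right (v_mem B y)) _)

variable {B} (E : Eight B)

include E in
/-- **A coordinate plane.** -/
theorem cent_eg {c : G} (h1 : c * B.v eV = B.v eV * c)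
    (h2 : c * B.v (0, 1, 0) = B.v (0, 1, 0) * c) : c ∈ normalizer (B.J : Set G) := by
  haveI : Fact (Nat.Prime 3) := ⟨Nat.prime_three⟩
  set U := centralizer (B.v '' ({eV, (0, 1, 0)} : Set V3))
  have hU : ∀ {g}, g ∈ U ↔ g * B.v eV = B.v eV * g ∧ g * B.v (0, 1, 0) = B.v (0, 1, 0) * g := by
    intro g
    simp [U, mem_centralizer_iff, eq_comm]
  let π : V3 →+ ZMod 3 × ZMod 3 := AddMonoidHom.mk' (fun y => (y.1, y.2.1)) fun _ _ => rfl
  obtain ⟨K, hKU, hUK, hKv, hcov, -, -⟩ := exists_transfer E U (J_le_centralizer B _)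
    (IsPGroup.of_card (n := 2) (by
      rw [Nat.card_congr Multiplicative.toAdd, Nat.card_prod, Nat.card_zmod]; norm_num)) π
    fun n hn _ k hk => by
      have he := code_fix (hk eV) (hU.1 hn).1
      exact ⟨(fix_single k he).1, fun y =>
        Prod.ext (fix_pair k he (code_fix (hk _) (hU.1 hn).2) y).1
          (fix_pair k he (code_fix (hk _) (hU.1 hn).2) y).2⟩
  have hgne := third_ne
  obtain ⟨-, hKN⟩ := card_dvd_six (isPGroup_J B) B.sig (K := K)
    ((J_le_centralizer B _).trans hUK) ((hKv (0, 0, 1)).2 rfl) (orderOf_v B hgne) fun k hk hkh => by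
      have hkJ : k ∈ B.J := by
        rw [← B.cent_J]
        refine mem_centralizer_iff.2 fun g hg => ?_
        obtain ⟨y, rfl⟩ := (B.mem_J g).1 hg
        have e := basis_split y
        rw [e, B.v_add, B.v_add, v_nsmul, v_nsmul, v_nsmul]
        exact (((show Commute k _ from (hU.1 (hKU hk)).1).pow_right _).mul_right
          (((show Commute k _ from (hU.1 (hKU hk)).2).pow_right _).mul_right
            ((show Commute k _ from hkh).pow_right _))).eq.symm
      obtain ⟨y, rfl⟩ := (B.mem_J k).1 hkJ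
      obtain ⟨i, rfl⟩ := third_line y ((hKv y).1 hk)
      rw [v_nsmul]
      exact pow_mem (mem_zpowers _) _
  obtain ⟨y, hy⟩ := hcov c (hU.2 ⟨h1, h2⟩)
  set k := (B.v y)⁻¹ * c with hk
  have hkU := hU.1 (hKU hy)
  rw [show c = B.v y * k by rw [hk]; group]
  refine mul_mem (le_normalizer (v_mem B y)) (mem_normalizer_of_image B fun w => ?_)
  have e := basis_split w
  have hfix : ∀ x, k * B.v x = B.v x * k → k * B.v x * k⁻¹ ∈ B.J := fun x hx => by
    rw [hx, mul_inv_cancel_right]; exact v_mem B x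
  have h3 : k * B.v (0, 0, 1) * k⁻¹ ∈ B.J :=
    (zpowers_le.2 (v_mem B _)) ((mem_normalizer_iff.1 (hKN hy) _).1 (mem_zpowers _))
  rw [e, B.v_add, B.v_add, v_nsmul, v_nsmul, v_nsmul, show ∀ a b d : G,
    k * (a * (b * d)) * k⁻¹ = k * a * k⁻¹ * (k * b * k⁻¹ * (k * d * k⁻¹)) from
      fun a b d => by group, ← conj_pow, ← conj_pow, ← conj_pow]
  exact mul_mem (pow_mem (hfix _ hkU.1) _) (mul_mem (pow_mem (hfix _ hkU.2) _) (pow_mem h3 _))

include E in
/-- **The centralizers of the planes of `J`.** -/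
theorem plane (x y : V3) (hx : x ≠ 0)
    (hy : ∀ t : ZMod 3, y ≠ (t * x.1, t * x.2.1, t * x.2.2)) :
    centralizer ({B.v x, B.v y} : Set G) ≤ normalizer (B.J : Set G) := by
  intro c hc
  rw [mem_centralizer_iff] at hc
  have hcx : c * B.v x = B.v x * c := (hc _ (Set.mem_insert _ _)).symm
  have hcy : c * B.v y = B.v y * c := (hc _ (Set.mem_insert_of_mem _ rfl)).symm
  rcases plane_cases x y ⟨hx, hy⟩ with ⟨i, j, hw⟩ | ⟨r, ⟨i, j, h1⟩, i', j', h2⟩
  · obtain ⟨a, b, d, e1, e2, e3⟩ := full_sign _ hw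
    set k : K8 := ((a, b, d), 0, 0)
    have hn : w8 E k ∈ normalizer (B.J : Set G) :=
      mem_normalizer_of_conj B (fun u => ⟨act8 k u, e2 u⟩) (conj_w8 E k)
    have hpre : ∀ u, c * B.v u = B.v u * c →
        (w8 E k)⁻¹ * c * w8 E k * B.v (act8 k u) = B.v (act8 k u) * ((w8 E k)⁻¹ * c * w8 E k) :=
      fun u hu => comm_conj B (by rw [conj_w8, e2]) hu
    have hz := hpre _ (comm_comb B hcx hcy i j)
    rw [e1] at hz
    refine normalizer_conj B hn ?_
    by_cases hd : ∃ t : ZMod 3, act8 k x = (t, t, t)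
    · obtain ⟨t, ht⟩ := hd
      refine cent_a_pair B (fun s hs => ?_) hz (hpre y hcy)
      have ex : x = (t * (comb i j x y).1, t * (comb i j x y).2.1, t * (comb i j x y).2.2) := by
        rw [← e3, ← ht, e2]
      have ey : y = (s * (comb i j x y).1, s * (comb i j x y).2.1, s * (comb i j x y).2.2) := by
        rw [← e3, ← hs, e2]
      have ht0 : t ≠ 0 := fun e => hx (by rw [ex, e]; simp)
      refine hy (s * t) (ey.trans ?_)
      conv_rhs => rw [ex]
      ext <;> simp [mul_assoc, ← mul_assoc t t, sq_one t ht0]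
    · exact cent_a_pair B (fun s hs => hd ⟨s, hs⟩) hz (hpre x hcx)
  · have hn : B.β ^ r.val ∈ normalizer (B.J : Set G) := pow_mem (β_normalizer B) _
    have hconj := conj_iterate B B.conj_β r.val
    refine normalizer_conj B hn (cent_eg E (comm_conj B (hconj eV) ?_)
      (comm_conj B (hconj (0, 1, 0)) ?_))
    · rw [← h1]; exact comm_comb B hcx hcy i j
    · rw [← h2]; exact comm_comb B hcx hcy i' j'

/-- A hyperplane of `J` in a normal subgroup of the centralizer of a complementary vector. -/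
theorem exists_nine {x0 : V3} {π : V3 →+ ZMod 3} (hx0 : π x0 ≠ 0) {K : Subgroup G}
    (hKc : ∀ k ∈ K, k * B.v x0 = B.v x0 * k) (hKv : ∀ y, B.v y ∈ K ↔ π y = 0)
    (hsyl : ∃ R : Sylow 3 K, B.J.subgroupOf K = R) (E : Eight B) :
    CfsgLib.CharsMore.NineTI.Nine K (B.J.subgroupOf K) ∧
      ∀ n : K, n ∈ normalizer ((B.J.subgroupOf K : Subgroup K) : Set K) ↔
        (n : G) ∈ normalizer (B.J : Set G) := by
  have hx : x0 ≠ 0 := fun e => hx0 (by rw [e, map_zero])
  have hsplit : ∀ y, π (y - (π y * π x0).val • x0) = 0 := fun y => by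
    rw [map_sub, map_nsmul, val_nsmul', mul_assoc, sq_one _ hx0, mul_one, sub_self]
  have hmem : ∀ p : K, p ∈ B.J.subgroupOf K → ∃ y, π y = 0 ∧ B.v y = p := fun p hp => by
    obtain ⟨y, hy⟩ := (B.mem_J _).1 (mem_subgroupOf.1 hp)
    exact ⟨y, (hKv y).1 (by rw [hy]; exact p.2), hy⟩
  have hcard : Nat.card (B.J.subgroupOf K) = 9 := by
    let f : V3 → ZMod 3 × B.J.subgroupOf K := fun y =>
      (π y, ⟨⟨B.v (y - (π y * π x0).val • x0), (hKv _).2 (hsplit y)⟩, v_mem B _⟩)
    have hf : Function.Bijective f := by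
      refine ⟨fun y z h => ?_, fun p => ?_⟩
      · simp only [f, Prod.ext_iff] at h
        have h' := B.v_inj (congrArg (fun w : B.J.subgroupOf K => ((w : K) : G)) h.2)
        rw [h.1] at h'
        exact sub_left_inj.1 h'
      · obtain ⟨t, ⟨q, hq⟩⟩ := p
        obtain ⟨y, hy0, hy⟩ := hmem q hq
        refine ⟨y + (t * π x0).val • x0, ?_⟩
        have e : π (y + (t * π x0).val • x0) = t := by
          rw [map_add, map_nsmul, hy0, zero_add, val_nsmul', mul_assoc, sq_one _ hx0, mul_one]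
        refine Prod.ext e (Subtype.ext (Subtype.ext ?_))
        show B.v (_ - (π _ * π x0).val • x0) = (q : G)
        rw [e, add_sub_cancel_right, hy]
    have := Nat.card_eq_of_bijective f hf
    rw [Nat.card_prod, Nat.card_prod, Nat.card_prod, Nat.card_zmod] at this
    omega
  have hnorm : ∀ n : K, n ∈ normalizer ((B.J.subgroupOf K : Subgroup K) : Set K) ↔
      (n : G) ∈ normalizer (B.J : Set G) := fun n => by
    refine ⟨fun hn => mem_normalizer_of_image B fun y => ?_, fun hn => mem_normalizer_iff.2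
      fun p => by rw [mem_subgroupOf, mem_subgroupOf]; exact mem_normalizer_iff.1 hn p⟩
    have e : B.v y = B.v (y - (π y * π x0).val • x0) * B.v x0 ^ (π y * π x0).val := by
      rw [← v_nsmul, ← B.v_add, sub_add_cancel]
    rw [e, show (n : G) * (B.v (y - (π y * π x0).val • x0) * B.v x0 ^ (π y * π x0).val) * (n : G)⁻¹
        = (n : G) * B.v (y - (π y * π x0).val • x0) * (n : G)⁻¹ *
          ((n : G) * B.v x0 * (n : G)⁻¹) ^ (π y * π x0).val by rw [conj_pow]; group,
      hKc n n.2, mul_inv_cancel_right]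
    exact mul_mem ((mem_normalizer_iff.1 hn ⟨_, (hKv _).2 (hsplit y)⟩).1 (v_mem B _))
      (pow_mem (v_mem B _) _)
  refine ⟨⟨hcard, fun p hp => ?_, ?_, fun p hp hp1 n hn => ?_, hsyl⟩, hnorm⟩
  · obtain ⟨y, -, hy⟩ := hmem p hp
    exact Subtype.ext (by rw [SubgroupClass.coe_pow, ← hy, v_cube, OneMemClass.coe_one])
  · refine le_antisymm (fun n hn => ?_) fun n hn => mem_centralizer_iff.2 fun p hp => ?_
    · show (n : G) ∈ B.J
      rw [← B.cent_J]
      refine mem_centralizer_iff.2 fun g hg => ?_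
      obtain ⟨y, rfl⟩ := (B.mem_J g).1 hg
      have h1 : Commute (B.v (y - (π y * π x0).val • x0)) (n : G) := congrArg Subtype.val
        (mem_centralizer_iff.1 hn ⟨_, (hKv _).2 (hsplit y)⟩ (v_mem B _))
      have e : B.v y = B.v (y - (π y * π x0).val • x0) * B.v x0 ^ (π y * π x0).val := by
        rw [← v_nsmul, ← B.v_add, sub_add_cancel]
      rw [e]
      exact (h1.mul_left ((show Commute (B.v x0) n from (hKc n n.2).symm).pow_left _)).eq
    · obtain ⟨y, -, hy⟩ := hmem p hp
      obtain ⟨z, -, hz⟩ := hmem n hn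
      refine Subtype.ext ?_
      rw [Subgroup.coe_mul, Subgroup.coe_mul, ← hy, ← hz, v_comm]
  · obtain ⟨y, hy0, hy⟩ := hmem p hp
    refine (hnorm n).2 (plane E x0 y hx (fun t e => ?_) (mem_centralizer_iff.2 ?_))
    · have ht : t = 0 := by
        have h := congrArg π (e.trans (val_nsmul t x0).symm)
        rw [hy0, map_nsmul, val_nsmul', eq_comm, mul_eq_zero] at h
        exact h.resolve_right hx0
      refine hp1 (Subtype.ext ?_)
      rw [← hy, e, ht, OneMemClass.coe_one, v_eq_one]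
      simp
    · have hn' : (n : G) * B.v y = B.v y * n := by
        rw [hy]; exact congrArg Subtype.val (mem_centralizer_singleton_iff.1 hn)
      rintro m (rfl | rfl)
      exacts [(hKc n n.2).symm, hn'.symm]

include E in
/-- **The centralizer of `f`.** -/
theorem cent_f : centralizer ({B.v fV} : Set G) ≤ normalizer (B.J : Set G) := by
  haveI : Fact (Nat.Prime 3) := ⟨Nat.prime_three⟩
  intro c hc
  let π : V3 →+ ZMod 3 := AddMonoidHom.mk' (fun y => y.2.1 + y.2.2) fun p q => by
    show p.2.1 + q.2.1 + (p.2.2 + q.2.2) = p.2.1 + p.2.2 + (q.2.1 + q.2.2)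
    ring
  have hJU : B.J ≤ centralizer ({B.v fV} : Set G) := fun g hg => by
    obtain ⟨y, rfl⟩ := (B.mem_J g).1 hg
    exact mem_centralizer_singleton_iff.2 (v_comm B _ _)
  obtain ⟨K, hKU, -, hKv, hcov, -, hsyl⟩ := exists_transfer E _ hJU
    (IsPGroup.of_card (n := 1) (by
      rw [Nat.card_congr Multiplicative.toAdd, Nat.card_zmod, pow_one])) π
    fun n hn _ k hk => by
      have hf := fix_f k (code_fix (hk fV) (mem_centralizer_singleton_iff.1 hn))
      exact ⟨hf.1, hf.2.2⟩
  have hKc : ∀ k ∈ K, k * B.v fV = B.v fV * k := fun k hk =>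
    mem_centralizer_singleton_iff.1 (hKU hk)
  obtain ⟨hnine, hnorm⟩ := exists_nine (x0 := fV) (π := π)
    two_ne hKc hKv hsyl E
  have htop := CfsgLib.CharsMore.NineTI.Klein.normalizer_eq_top _ K (B.J.subgroupOf K) rfl hnine
    fun n hn => by
      obtain ⟨-, k, -, hk⟩ := exists_code E ((hnorm n).1 hn)
      have hinv := (fix_f k (code_fix (hk fV) (hKc n n.2))).2.1
      show ((n * n : K) : G) ∈ B.J
      rw [← B.cent_J]
      refine mem_centralizer_iff.2 fun g hg => ?_
      obtain ⟨y, rfl⟩ := (B.mem_J g).1 hg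
      refine (mul_inv_eq_iff_eq_mul.1 ?_).symm
      rw [Subgroup.coe_mul]
      calc (n : G) * n * B.v y * ((n : G) * n)⁻¹
          = (n : G) * ((n : G) * B.v y * (n : G)⁻¹) * (n : G)⁻¹ := by group
        _ = B.v y := by rw [hk, hk, hinv]
  obtain ⟨y, hy⟩ := hcov c hc
  rw [show c = B.v y * ((B.v y)⁻¹ * c) by group]
  exact mul_mem (le_normalizer (v_mem B y)) ((hnorm ⟨_, hy⟩).1 (htop ▸ mem_top _))

/-- **The local centralizers.** -/
theorem loc8 : StmtLoc8.{u} := fun _ E => ⟨plane E, cent_f E⟩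

end CfsgLib.SpSixThree.Loc
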