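import Cfsg.Agent.Lib.SpSixThree.Defs
import Cfsg.Agent.Lib.PSpAmalgam.Small
import Cfsg.Agent.Lib.Transfer.Alperin

/-!
# Statement S3342, local centralizers: coordinates, the normalizer of `J`, and the transfer
-/

set_option autoImplicit false
set_option maxRecDepth 100000
set_option linter.unusedSectionVars false
set_option linter.style.haveILetI false

namespace CfsgLib.SpSixThree.Loc

open Subgroup
open CfsgLib.PSpAmalgam (V3 zV eV fV gV actR actS exists_transfer_kernel)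
open scoped Pointwise

universe u

theorem three_smul : ∀ x : V3, x + x + x = 0 := by decide +kernel

variable {G : Type u} [Group G] (B : Base G)

theorem v_zero : B.v 0 = 1 := by
  have h := B.v_add 0 0
  rw [add_zero] at h
  exact left_eq_mul.1 h

theorem v_neg (x : V3) : B.v (-x) = (B.v x)⁻¹ := by
  refine eq_inv_of_mul_eq_one_left ?_
  rw [← B.v_add, neg_add_cancel, v_zero]

theorem v_comm (x y : V3) : B.v x * B.v y = B.v y * B.v x := by
  rw [← B.v_add, add_comm, B.v_add]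

theorem v_mem (x : V3) : B.v x ∈ B.J := (B.mem_J _).2 ⟨x, rfl⟩

theorem v_eq_one {x : V3} : B.v x = 1 ↔ x = 0 :=
  ⟨fun h => B.v_inj (h.trans (v_zero B).symm), fun h => h ▸ v_zero B⟩

theorem v_nsmul (x : V3) : ∀ n : ℕ, B.v (n • x) = B.v x ^ n
  | 0 => by rw [zero_smul, pow_zero, v_zero]
  | n + 1 => by rw [succ_nsmul, B.v_add, v_nsmul x n, pow_succ]

theorem v_cube (x : V3) : B.v x ^ 3 = 1 := by
  rw [pow_succ, pow_two, ← B.v_add, ← B.v_add, three_smul, v_zero]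

theorem orderOf_v {x : V3} (hx : x ≠ 0) : orderOf (B.v x) = 3 :=
  haveI := Fact.mk Nat.prime_three
  orderOf_eq_prime (v_cube B x) fun h => hx ((v_eq_one B).1 h)

theorem card_J : Nat.card B.J = 27 := by
  rw [← Nat.card_congr (Equiv.ofBijective (fun x : V3 => (⟨B.v x, v_mem B x⟩ : B.J))
    ⟨fun x y e => B.v_inj (congrArg Subtype.val e), fun ⟨g, hg⟩ => by
      obtain ⟨x, hx⟩ := (B.mem_J g).1 hg
      exact ⟨x, Subtype.ext hx⟩⟩)]
  simp [Nat.card_prod, Nat.card_zmod]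

theorem isPGroup_J : IsPGroup 3 B.J := IsPGroup.of_card (n := 3) (by rw [card_J]; norm_num)

theorem J_le_centralizer (T : Set V3) : B.J ≤ centralizer (B.v '' T) := fun g hg => by
  obtain ⟨x, rfl⟩ := (B.mem_J g).1 hg
  rintro _ ⟨y, -, rfl⟩
  exact v_comm B y x

theorem mem_normalizer_of_conj {w : G} {φ : V3 → V3} (hφ : Function.Surjective φ)
    (h : ∀ x, w * B.v x * w⁻¹ = B.v (φ x)) : w ∈ normalizer (B.J : Set G) := by
  refine mem_normalizer_iff.2 fun g => ⟨fun hg => ?_, fun hg => ?_⟩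
  · obtain ⟨x, rfl⟩ := (B.mem_J g).1 hg
    rw [h]; exact v_mem B _
  · obtain ⟨y, hy⟩ := (B.mem_J _).1 hg
    obtain ⟨x, rfl⟩ := hφ y
    rw [← h] at hy
    rw [← mul_left_cancel (mul_right_cancel hy)]
    exact v_mem B x

theorem conj_iterate {w : G} {φ : V3 → V3} (h : ∀ x, w * B.v x * w⁻¹ = B.v (φ x)) :
    ∀ (n : ℕ) (x : V3), w ^ n * B.v x * (w ^ n)⁻¹ = B.v (φ^[n] x)
  | 0, x => by simp
  | n + 1, x => by
    rw [Function.iterate_succ_apply', ← h, ← conj_iterate h n, pow_succ']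
    group

variable {B} (E : Eight B)

theorem conj_ε2 (x : V3) : E.ε2 * B.v x * E.ε2⁻¹ = B.v (x.1, -x.2.1, x.2.2) := by
  obtain ⟨y, rfl⟩ : ∃ y, actR y = x := ⟨(x.2.1, x.2.2, x.1), rfl⟩
  have e : B.v ((actR y).1, -(actR y).2.1, (actR y).2.2) =
      B.β * (E.ε * B.v y * E.ε⁻¹) * B.β⁻¹ := by rw [E.conj_ε, B.conj_β]; rfl
  rw [e, ← B.conj_β y, Eight.ε2]; group

theorem conj_ε3 (x : V3) : E.ε3 * B.v x * E.ε3⁻¹ = B.v (x.1, x.2.1, -x.2.2) := by
  have e : B.v x = B.β⁻¹ * B.v (actR x) * B.β := by rw [← B.conj_β]; group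
  have e' : B.v (x.1, x.2.1, -x.2.2) = B.β⁻¹ * B.v (actR (x.1, x.2.1, -x.2.2)) * B.β := by
    rw [← B.conj_β]; group
  rw [e, e', show actR (x.1, x.2.1, -x.2.2) = (-(actR x).1, (actR x).2.1, (actR x).2.2) from rfl,
    ← E.conj_ε, Eight.ε3]; group

/-- The element of the complement with a given code. -/
def w8 (k : K8) : G :=
  E.ε ^ k.1.1.val * E.ε2 ^ k.1.2.1.val * E.ε3 ^ k.1.2.2.val * B.β ^ k.2.1.val * B.σ ^ k.2.2.val

theorem conj_w8 (k : K8) (x : V3) : w8 E k * B.v x * (w8 E k)⁻¹ = B.v (act8 k x) := by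
  obtain ⟨⟨i, j, l⟩, r, s⟩ := k
  have hβ := conj_iterate B B.conj_β r.val
  have hσ := conj_iterate B B.conj_σ s.val
  have h1 : ∀ (i : Fin 2) y, E.ε ^ i.val * B.v y * (E.ε ^ i.val)⁻¹ = B.v (sg i y.1, y.2.1, y.2.2) := by
    intro i y
    fin_cases i
    · simp [sg]
    · simp [sg, E.conj_ε]
  have h2 : ∀ (i : Fin 2) y, E.ε2 ^ i.val * B.v y * (E.ε2 ^ i.val)⁻¹ =
      B.v (y.1, sg i y.2.1, y.2.2) := by
    intro i y
    fin_cases i
    · simp [sg]
    · simp [sg, conj_ε2]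
  have h3 : ∀ (i : Fin 2) y, E.ε3 ^ i.val * B.v y * (E.ε3 ^ i.val)⁻¹ =
      B.v (y.1, y.2.1, sg i y.2.2) := by
    intro i y
    fin_cases i
    · simp [sg]
    · simp [sg, conj_ε3]
  calc w8 E ((i, j, l), r, s) * B.v x * (w8 E ((i, j, l), r, s))⁻¹
      = E.ε ^ i.val * (E.ε2 ^ j.val * (E.ε3 ^ l.val * (B.β ^ r.val * (B.σ ^ s.val * B.v x *
          (B.σ ^ s.val)⁻¹) * (B.β ^ r.val)⁻¹) * (E.ε3 ^ l.val)⁻¹) * (E.ε2 ^ j.val)⁻¹) *
          (E.ε ^ i.val)⁻¹ := by simp only [w8]; group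
    _ = _ := by rw [hσ, hβ, h3, h2, h1]; rfl

theorem exists_code {n : G} (hn : n ∈ normalizer (B.J : Set G)) :
    ∃ (x : V3) (k : K8), n = B.v x * w8 E k ∧ ∀ y, n * B.v y * n⁻¹ = B.v (act8 k y) := by
  obtain ⟨x, i, j, l, r, s, h⟩ := E.normalizer_mem n hn
  have e : n = B.v x * w8 E ((i, j, l), r, s) := by
    rw [h]; simp only [w8, Eight.ε2, Eight.ε3]; group
  refine ⟨x, ((i, j, l), r, s), e, fun y => ?_⟩
  rw [e]
  calc B.v x * w8 E ((i, j, l), r, s) * B.v y * (B.v x * w8 E ((i, j, l), r, s))⁻¹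
      = B.v x * (w8 E ((i, j, l), r, s) * B.v y * (w8 E ((i, j, l), r, s))⁻¹) * (B.v x)⁻¹ := by
        group
    _ = _ := by rw [conj_w8, v_comm, mul_inv_cancel_right]

/-- An element of `N(J)` fixing `x` has a code fixing `x`. -/
theorem code_fix {n : G} {x y : V3} (h : n * B.v y * n⁻¹ = B.v x) (hc : n * B.v y = B.v y * n) :
    x = y := by
  refine B.v_inj ?_
  rw [← h, hc, mul_inv_cancel_right]

theorem act8_four : ∀ k : K8, k.2.1 = 0 → ∀ y, (act8 k)^[4] y = y := by decide +kernel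

theorem fix_single : ∀ k : K8, act8 k eV = eV → k.2.1 = 0 ∧ k.1.1 = 0 := by decide +kernel

theorem fix_single_fst : ∀ k : K8, act8 k eV = eV → ∀ y, (act8 k y).1 = y.1 := by decide +kernel

theorem fix_f : ∀ k : K8, act8 k fV = fV →
    k.2.1 = 0 ∧ (∀ y, act8 k (act8 k y) = y) ∧
      ∀ y, (act8 k y).2.1 + (act8 k y).2.2 = y.2.1 + y.2.2 := by decide +kernel

theorem fix_pair : ∀ k : K8, act8 k eV = eV → act8 k (0, 1, 0) = (0, 1, 0) →
    ∀ y, (act8 k y).1 = y.1 ∧ (act8 k y).2.1 = y.2.1 := by decide +kernel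

variable [Finite G]

/-- An element of three-power order of `N(J)` acting with order dividing four lies in `J`. -/
theorem mem_J_of_act_four {n : G} {k : K8} (hk : ∀ y, n * B.v y * n⁻¹ = B.v (act8 k y))
    (hk0 : k.2.1 = 0) (hn : ∃ m, n ^ 3 ^ m = 1) : n ∈ B.J := by
  obtain ⟨m, hm⟩ := hn
  have h4 : n ^ 4 ∈ B.J := by
    rw [← B.cent_J]
    refine mem_centralizer_iff.2 fun g hg => ?_
    obtain ⟨y, rfl⟩ := (B.mem_J g).1 hg
    have := conj_iterate B hk 4 y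
    rw [act8_four k hk0] at this
    exact (mul_inv_eq_iff_eq_mul.1 this).symm
  have h3 : n ^ 3 ^ m ∈ B.J := hm.symm ▸ one_mem _
  have hcop : Nat.gcd 4 (3 ^ m) = 1 :=
    Nat.Coprime.pow_right m (show Nat.Coprime 4 3 by norm_num)
  have e : n = (n ^ 4) ^ (Nat.gcdA 4 (3 ^ m)) * (n ^ 3 ^ m) ^ (Nat.gcdB 4 (3 ^ m)) := by
    rw [← zpow_natCast n 4, ← zpow_natCast n (3 ^ m), ← zpow_mul, ← zpow_mul, ← zpow_add,
      ← Nat.gcd_eq_gcd_ab, hcop, Nat.cast_one, zpow_one]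
  rw [e]
  exact mul_mem (zpow_mem h4 _) (zpow_mem h3 _)

include E in
/-- `J` is a Sylow subgroup of a subgroup in which it has a three-prime automizer, and transfer
realises invariant forms. -/
theorem exists_transfer (U : Subgroup G) (hJU : B.J ≤ U) {A : Type} [AddCommGroup A] [Finite A]
    (hA : IsPGroup 3 (Multiplicative A)) (π : V3 →+ A)
    (hfour : ∀ n ∈ U, n ∈ normalizer (B.J : Set G) → ∀ k : K8,
      (∀ y, n * B.v y * n⁻¹ = B.v (act8 k y)) → k.2.1 = 0 ∧ ∀ y, π (act8 k y) = π y) :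
    ∃ K : Subgroup G, K ≤ U ∧ U ≤ normalizer (K : Set G) ∧ (∀ y, B.v y ∈ K ↔ π y = 0) ∧
      (∀ c ∈ U, ∃ y, (B.v y)⁻¹ * c ∈ K) ∧ (∀ c ∈ U, c * c = 1 → c ∈ K) ∧
      ∃ R : Sylow 3 K, B.J.subgroupOf K = R := by
  classical
  haveI : Fact (Nat.Prime 3) := ⟨Nat.prime_three⟩
  set JU := B.J.subgroupOf U with hJUdef
  have hJU3 : IsPGroup 3 JU := (isPGroup_J B).comap_of_injective U.subtype U.subtype_injective
  obtain ⟨P, hP⟩ := hJU3.exists_le_sylow
  have hnorm : ∀ n : U, n ∈ normalizer (JU : Set U) → (n : G) ∈ normalizer (B.J : Set G) := by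
    intro n hn
    refine mem_normalizer_iff.2 fun g => ⟨fun hg => ?_, fun hg => ?_⟩
    · exact (mem_normalizer_iff.1 hn ⟨g, hJU hg⟩).1 hg
    · have hgU : g ∈ U := by
        have := mul_mem (mul_mem (inv_mem n.2) (hJU hg)) n.2
        simpa [mul_assoc] using this
      exact (mem_normalizer_iff.1 hn ⟨g, hgU⟩).2 hg
  have hPJ : JU = (P : Subgroup U) := by
    by_contra hne
    obtain ⟨r, hr, hrJ⟩ :=
      SetLike.exists_of_lt (CfsgLib.Transfer.lt_inf_normalizer P.2 (lt_of_le_of_ne hP hne))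
    obtain ⟨hrP, hrN⟩ := mem_inf.1 hr
    obtain ⟨-, k, -, hk⟩ := exists_code E (hnorm r hrN)
    obtain ⟨m, hm⟩ := P.2 ⟨r, hrP⟩
    exact hrJ (mem_J_of_act_four hk (hfour _ r.2 (hnorm r hrN) k hk).1
      ⟨m, by simpa using congrArg (fun z : (P : Subgroup U) => ((z : U) : G)) hm⟩)
  have hPv : ∀ c : (P : Subgroup U), ∃ y, B.v y = ((c : U) : G) := fun c =>
    (B.mem_J _).1 (show (c : U) ∈ JU from hPJ.symm ▸ c.2)
  choose co hco using hPv
  let π' : (P : Subgroup U) →* Multiplicative A :=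
    MonoidHom.mk' (fun c => Multiplicative.ofAdd (π (co c))) fun a b => by
      rw [← ofAdd_add, ← map_add]
      congr 2
      refine B.v_inj ?_
      rw [hco, B.v_add, hco, hco]
      rfl
  haveI hc : IsMulCommutative (P : Subgroup U) := ⟨⟨fun a b => Subtype.ext (Subtype.ext (by
    show ((a : U) : G) * ((b : U) : G) = ((b : U) : G) * ((a : U) : G)
    rw [← hco a, ← hco b, v_comm]))⟩⟩
  obtain ⟨M, hMn, hM, hcov⟩ := exists_transfer_kernel P hc hA π' fun n hn a b hab => by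
    rw [← hPJ] at hn
    obtain ⟨-, k, -, hk⟩ := exists_code E (hnorm n hn)
    have hb : co b = act8 k (co a) := B.v_inj (by
      rw [hco, show ((b : U) : G) = (n : G) * ((a : U) : G) * (n : G)⁻¹ from
        congrArg Subtype.val hab, ← hco a, hk])
    show Multiplicative.ofAdd (π (co b)) = Multiplicative.ofAdd (π (co a))
    rw [hb, (hfour _ n.2 (hnorm n hn) k hk).2]
  have hvP : ∀ y, (⟨B.v y, hJU (v_mem B y)⟩ : U) ∈ (P : Subgroup U) := fun y => by
    rw [← hPJ]; exact v_mem B y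
  have hKmem : ∀ y, B.v y ∈ M.map U.subtype ↔ π y = 0 := fun y => by
    rw [show B.v y = U.subtype ⟨B.v y, hJU (v_mem B y)⟩ from rfl,
      mem_map_iff_mem U.subtype_injective, hM ⟨_, hvP y⟩]
    show Multiplicative.ofAdd (π (co ⟨_, hvP y⟩)) = 1 ↔ _
    rw [B.v_inj (hco ⟨_, hvP y⟩), ← ofAdd_zero, Multiplicative.ofAdd.injective.eq_iff]
  have hcov' : ∀ c ∈ U, ∃ y, (B.v y)⁻¹ * c ∈ M.map U.subtype := fun c hcU => by
    obtain ⟨p, hp⟩ := hcov ⟨c, hcU⟩
    exact ⟨co p, ⟨_, hp, by rw [hco p]; rfl⟩⟩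
  refine ⟨M.map U.subtype, map_subtype_le M, ?_, hKmem, hcov', ?_, ?_⟩
  · intro c hcU
    refine mem_normalizer_iff.2 fun g => ⟨?_, ?_⟩
    · rintro ⟨m, hm, rfl⟩
      exact ⟨⟨c, hcU⟩ * m * ⟨c, hcU⟩⁻¹, hMn.conj_mem m hm _, rfl⟩
    · rintro ⟨m, hm, e⟩
      refine ⟨⟨c, hcU⟩⁻¹ * m * ⟨c, hcU⟩, by simpa using hMn.conj_mem m hm ⟨c, hcU⟩⁻¹, ?_⟩
      show c⁻¹ * (m : G) * c = g
      rw [show (m : G) = c * g * c⁻¹ from e]; group
  · intro c hcU h2
    obtain ⟨y, hy⟩ := hcov' c hcU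
    obtain ⟨m, hm, hmy⟩ := hy
    haveI := hMn
    refine ⟨⟨c, hcU⟩, ?_, rfl⟩
    show (⟨c, hcU⟩ : U) ∈ M
    set q : U ⧸ M := QuotientGroup.mk ⟨c, hcU⟩ with hq
    have e : q = QuotientGroup.mk ⟨B.v y, hJU (v_mem B y)⟩ := by
      refine (QuotientGroup.eq.2 ?_).symm
      have hm' : m = ⟨B.v y, hJU (v_mem B y)⟩⁻¹ * ⟨c, hcU⟩ := Subtype.ext hmy
      rwa [← hm']
    have q2 : q * q = 1 := by
      rw [hq, ← QuotientGroup.mk_mul, show (⟨c, hcU⟩ : U) * ⟨c, hcU⟩ = 1 from Subtype.ext h2,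
        QuotientGroup.mk_one]
    have q3 : q ^ 3 = 1 := by
      rw [e, ← QuotientGroup.mk_pow, show (⟨B.v y, hJU (v_mem B y)⟩ : U) ^ 3 = 1 from
        Subtype.ext (v_cube B y), QuotientGroup.mk_one]
    rw [pow_succ, pow_two, q2, one_mul] at q3
    exact (QuotientGroup.eq_one_iff _).1 q3
  · set K := M.map U.subtype
    obtain ⟨R, hR⟩ :=
      ((isPGroup_J B).comap_of_injective K.subtype K.subtype_injective).exists_le_sylow
    refine ⟨R, Subgroup.eq_of_le_of_card_ge hR ?_⟩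
    let ι : K →* U := inclusion (map_subtype_le M)
    obtain ⟨S', hS'⟩ := (R.isPGroup'.map ι).exists_le_sylow
    obtain ⟨d, hd⟩ := MulAction.exists_smul_eq U S' P
    have key : ∀ r : (R : Subgroup K),
        (d : G) * ((r : K) : G) * (d : G)⁻¹ ∈ B.J ∧ (d : G) * ((r : K) : G) * (d : G)⁻¹ ∈ K :=
      fun r => by
        refine ⟨?_, ?_⟩
        · have h : d * ι (r : K) * d⁻¹ ∈ ((d • S' : Sylow 3 U) : Subgroup U) := by
            rw [Sylow.coe_subgroup_smul]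
            exact Subgroup.smul_mem_pointwise_smul (ι (r : K)) (MulAut.conj d) _
              (hS' (mem_map_of_mem ι r.2))
          rw [hd, ← hPJ] at h
          exact h
        · obtain ⟨m, hm, hmr⟩ := (r : K).2
          exact ⟨d * m * d⁻¹, hMn.conj_mem m hm d, by rw [← hmr]; rfl⟩
    refine Nat.card_le_card_of_injective
      (fun r => (⟨⟨_, (key r).2⟩, (key r).1⟩ : B.J.subgroupOf K)) fun r r' e => ?_
    have := congrArg (fun w : B.J.subgroupOf K => ((w : K) : G)) e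
    exact Subtype.ext (Subtype.ext (mul_left_cancel (mul_right_cancel this)))

end CfsgLib.SpSixThree.Loc
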