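import Cfsg.Agent.Lib.SpSixThree.Defs
import Cfsg.Agent.Lib.Fusion.Sp62Census.Tree
import Cfsg.Agent.Lib.Fusion.WholeGroupSylow

/-!
# The census in the model (S3342, seat 10)
-/

set_option autoImplicit false
set_option maxRecDepth 100000

namespace CfsgLib.SpSixThree

open Subgroup

universe u
open CfsgLib.DFour.Census (cjS Clean Ext OddBound mem_cjS cj_mem_cjS cjS_inv_cjS oddBound_cj isConj_cj)

/-- the codes of the named generators -/
def namedC : List ℕ := [0x812204081, 0x810204481, 0x996204081, 0x810224081, 0x910204081, 0x810244081, 0x810204089, 0x808404042, 0x5cfff9d63]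

/-- the code of `σ` -/
def sigC : ℕ := 0x84210801

/-- its conjugator -/
def sigH : ℕ := 0x7132f78b6

/-- involutions of the flag group with commuting elements of order three -/
def invW : List (ℕ × ℕ) := [
  (0x810244081, 0x550e75cc1),
  (0x8106040c1, 0x150b745c1),
  (0x8106440c1, 0x950a60081),
  (0x810a05081, 0x833af4441),
  (0x810a45081, 0x8236774c1),
  (0x810e050c1, 0x9967c4541),
  (0x810e450c1, 0x1b63e5081),
  (0x811284081, 0x157b66081),
  (0x8112c4081, 0x950a60081),
  (0x8116840c1, 0x147b76541),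
  (0x8116c40c1, 0x950a60081),
  (0x811a85081, 0xd477445c1),
  (0x811ac5081, 0x550a65dc1),
  (0x811e850c1, 0x9837445c1),
  (0x811ec50c1, 0x1b63e5081),
  (0x812204081, 0xb9b34408a),
  (0x812244081, 0x9f3ae0081),
  (0x812a05081, 0x711ec0a1),
  (0x812a45081, 0x84c4bb823),
  (0x813284081, 0x9b2220081),
  (0x8132c4081, 0x750c7def8),
  (0x813a85081, 0xd91ee0a3),
  (0x813ac5081, 0x715bd8a1),
  (0x830206081, 0x83a8ee0ab),
  (0x830246081, 0x862b5881),
  (0x830a07081, 0x80b24465a),
  (0x830a47081, 0x8d6bb0841),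
  (0x831286081, 0x39396a0af),
  (0x8312c6081, 0x8b5ff3841),
  (0x831a87081, 0x72e238fbd),
  (0x831ac7081, 0x85bd48c1),
  (0x832206081, 0x810a6c088),
  (0x832246081, 0x74cbc862),
  (0x832a07081, 0xdd9af0a1),
  (0x832a47081, 0xf8e5c471f),
  (0x833286081, 0x3be9ea0af),
  (0x8332c6081, 0x8c2bf8a1),
  (0x833a87081, 0x8db38a0a0),
  (0x833ac7081, 0x810465eb9),
  (0x850304081, 0x9837445c1),
  (0x850344081, 0x9d73c4541),
  (0x8507040c1, 0x822af64c1),
  (0x8507440c1, 0x1f2be6081),
  (0x850b05081, 0x8126c4441),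
  (0x850b45081, 0x1c2be3dc1),
  (0x850f050c1, 0x157b66081),
  (0x850f450c1, 0x1077f7541),
  (0x851384081, 0x812236c01),
  (0x8513c4081, 0x510375cc1),
  (0x8517840c1, 0x833af4441),
  (0x8517c40c1, 0x1f2be6081),
  (0x851b85081, 0x150b745c1),
  (0x851bc5081, 0x1077f7541),
  (0x851f850c1, 0x833af4441),
  (0x851fc50c1, 0x9f23e1081),
  (0x852304081, 0xb158c1085),
  (0x852344081, 0x62f505107),
  (0x852b05081, 0xa751e80a5),
  (0x852b45081, 0x68c4bf927),
  (0x853384081, 0x2bba85086),
  (0x8533c4081, 0xf55c81185),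
  (0x853b85081, 0xa591ea0a7),
  (0x853bc5081, 0xe355b99a5),
  (0x894204081, 0x95f34408e),
  (0x894244081, 0x5f5286101),
  (0x895284081, 0x39396a0af),
  (0x8952c4081, 0xde57c31c1),
  (0x896204081, 0xb10344088),
  (0x896244081, 0xf324c1146),
  (0x897284081, 0x3be22c0a9),
  (0x8972c4081, 0xfed302185),
  (0x8b4206081, 0x39396a0af),
  (0x8b4246081, 0xc61b33981),
  (0x8b5286081, 0xb9314408f),
  (0x8b52c6081, 0x497eb4941),
  (0x8b6206081, 0x3bebea088),
  (0x8b6246081, 0xe70db8966),
  (0x8b7286081, 0x81086c0a9),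
  (0x8b72c6081, 0xf94218927),
  (0x8d4304081, 0x80a4c461b),
  (0x8d4344081, 0x470bc7141),
  (0x8d5384081, 0x7d2dfbf7e),
  (0x8d53c4081, 0x4716c7101),
  (0x8d6304081, 0xbf9983085),
  (0x8d6344081, 0x7efdfceb9),
  (0x8d7384081, 0xb73981087),
  (0x8d73c4081, 0x95044479d),
  (0x8f4b07081, 0x18a222fbd),
  (0x8f4b47081, 0xd72a52941),
  (0x8f5b87081, 0x82a23ceb9),
  (0x8f5bc7081, 0x470ff6901),
  (0x8f6b07081, 0xa1d8ab0a5),
  (0x8f6b47081, 0x11023c79d),
  (0x8f7b87081, 0xa308290a7),
  (0x8f7bc7081, 0x8102446d8),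
  (0x910204081, 0xb5e2c408c),
  (0x910244081, 0xd93744501),
  (0x9106040c1, 0xc411c4691),
  (0x9106440c1, 0x304391bd4),
  (0x911284081, 0x8cc6040c2),
  (0x9112c4081, 0x2bb743106),
  (0x9116840c1, 0xcd91c4613),
  (0x9116c40c1, 0x2bb812a17),
  (0x912204081, 0xb10344088),
  (0x912244081, 0x327581102),
  (0x913284081, 0x6a7c811c3),
  (0x9132c4081, 0x99620471f),
  (0x950304081, 0xd57744401),
  (0x950344081, 0x750c7def8),
  (0x9507040c1, 0xa451c4795),
  (0x9507440c1, 0x801894a91),
  (0x951384081, 0xa595c4147),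
  (0x9513c4081, 0x8286070c2),
  (0x9517840c1, 0xa591c4717),
  (0x9517c40c1, 0x828617ed2),
  (0x952304081, 0x4eec87045),
  (0x952344081, 0x83b8ec0a9),
  (0x953384081, 0x812cffe7a),
  (0x9533c4081, 0xf27382183),
  (0x994204081, 0x810044089),
  (0x994244081, 0xdb88c3046),
  (0x995284081, 0xfdd5c4143),
  (0x9952c4081, 0x810c7ceb9),
  (0x996204081, 0x5ab17fe4c),
  (0x996244081, 0x8222f5cc1),
  (0x996e050c1, 0x8210fceb1),
  (0x996e450c1, 0xff9f2c776),
  (0x997284081, 0x8dad47043),
  (0x9972c4081, 0xf558810c5),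
  (0x997e850c1, 0x8190fee33),
  (0x997ec50c1, 0xf64fac7f4),
  (0x9d4304081, 0xf0e20479d),
  (0x9d4344081, 0x6b9306103),
  (0x9d5384081, 0xd9d4c4047),
  (0x9d53c4081, 0x81086c0a9),
  (0x9d6304081, 0xb15cc11c5),
  (0x9d6344081, 0x84ef860c2),
  (0x9d6f050c1, 0x7250f8fb5),
  (0x9d6f450c1, 0x4fde28772),
  (0x9d7384081, 0x823e75cc1),
  (0x9d73c4081, 0x5a2236c01),
  (0x9d7f850c1, 0x7990faf37),
  (0x9d7fc50c1, 0x460ea87f0)]

open CfsgLib.Fusion.Sp62Census in
/-- one witness -/
def threeB (p : ℕ × ℕ) : Bool :=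
  okC p.1 && symOK p.2 && Nat.beq (mm p.2 p.1) (mm p.1 p.2) &&
    Nat.beq (mm p.2 (mm p.2 p.2)) oneC && !Nat.beq p.2 oneC && Nat.blt p.2 (2 ^ 36)

open CfsgLib.Fusion.Sp62Census in
theorem named_eq : ∀ i : Fin 9, symOK (namedC.getD i.1 0) = true ∧
    ofCols (namedCols.getD i.1 []) = dec (namedC.getD i.1 0) := by decide +kernel

open CfsgLib.Fusion.Sp62Census in
theorem named_phi {i : ℕ} (h : i < 9) : named i = phi (namedC.getD i 0) := by
  obtain ⟨h1, h2⟩ := named_eq ⟨i, h⟩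
  rw [named, dif_pos h]
  exact Subtype.ext (h2.trans (coe_phi h1).symm)

open CfsgLib.Fusion.Sp62Census in
theorem prod_named : ∀ w : List ℕ, (∀ i ∈ w, i < 9) →
    symOK (w.foldr (fun i c => mm (namedC.getD i 0) c) oneC) = true ∧
      (w.map named).prod = phi (w.foldr (fun i c => mm (namedC.getD i 0) c) oneC)
  | [], _ => ⟨okC_sym okC_one, phi_one.symm⟩
  | i :: w, h => by
    have hi := h i List.mem_cons_self
    obtain ⟨h1, h2⟩ := prod_named w fun j hj => h j (List.mem_cons_of_mem _ hj)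
    have hs := (named_eq ⟨i, hi⟩).1
    refine ⟨symOK_mm hs h1, ?_⟩
    rw [List.map_cons, List.prod_cons, List.foldr_cons, h2, named_phi hi, phi_mul hs h1]

open CfsgLib.Fusion.Sp62Census in
theorem mSig_eq : mSig = phi sigC :=
  (prod_named wSig (by decide)).2.trans (congrArg phi (by decide +kernel))

open CfsgLib.Fusion.Sp62Census in
theorem mSig_conj : phi sigH * z0 * (phi sigH)⁻¹ = mSig := by
  have hs : symOK sigH = true := by decide +kernel
  have hg : symOK sigC = true := by decide +kernel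
  rw [mSig_eq, z0, ← phi_mul hs (okC_sym z0C_ok), show mm sigH z0C = mm sigC sigH by decide +kernel,
    phi_mul hg hs, mul_inv_cancel_right]

open CfsgLib.Fusion.Sp62Census in
theorem isConj_mSig (x : MSp) : IsConj mSig x ↔ IsConj z0 x := by
  have h : IsConj z0 mSig := isConj_iff.2 ⟨_, mSig_conj⟩
  exact ⟨h.trans, h.symm.trans⟩

open CfsgLib.Fusion.Sp62Census in
/-- What the census needs from the model. -/
theorem censusModel : StmtCensusModel := by
  set h := phi sigH with hh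
  have hz : mSig * mSig = 1 := (isA2_of_isConj ((isConj_mSig _).1 (IsConj.refl _))).1
  refine ⟨hz, fun e => ?_, cjS h Syl, ?_, ?_, ?_⟩
  · have e0 : phi z0C = phi oneC := by
      have := mSig_conj
      rw [e] at this
      exact (conj_eq_one_iff.1 this).trans phi_one.symm
    exact absurd (phi_inj z0C_ok okC_one e0) (by decide)
  · intro t ht
    obtain ⟨a, ha, rfl⟩ := mem_cjS.1 ht
    calc mSig * (h * a * h⁻¹) = h * (z0 * a) * h⁻¹ := by rw [← mSig_conj, ← hh]; group
      _ = h * (a * z0) * h⁻¹ := by rw [z0_central ha]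
      _ = _ := by rw [← mSig_conj, ← hh]; group
  · intro K hK
    obtain ⟨g, hg⟩ := sylow_conj K hK
    refine ⟨h * g, fun k hk => ?_⟩
    rw [show h * g * k * (h * g)⁻¹ = h * (g * k * g⁻¹) * h⁻¹ by group]
    exact cj_mem_cjS h (hg k hk)
  · intro K hKT hab hfree
    have hKS : cjS h⁻¹ K ≤ Syl := (map_mono hKT).trans (cjS_inv_cjS (J := Syl) h).le
    have hsyl2 : IsPGroup 2 Syl := IsPGroup.of_card (n := 9) (by rw [card_Syl]; norm_num)
    have hcl : Clean z0 K := ⟨(hsyl2.map (MulAut.conj h).toMonoidHom).to_le hKT, hab,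
      fun k hk e => hfree k hk ((isConj_mSig k).2 e)⟩
    have hback : cjS h (cjS h⁻¹ K) = K := by
      simpa using cjS_inv_cjS (J := K) h⁻¹
    rcases census_Syl _ hKS (hcl.cj h⁻¹) with ⟨k, hk⟩ | hb
    · left
      have hk' := hk.cj h
      rw [hback] at hk'
      exact ⟨_, hk'.notMem, hk'.comm, hk'.sq, fun c hc e => hk'.free c hc ((isConj_mSig _).1 e)⟩
    · right
      have hb' := oddBound_cj hb h
      rw [hback] at hb'
      exact hb'

open CfsgLib.Fusion.Sp62Census in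
theorem invW_ok : invW.all threeB = true := by decide +kernel

open CfsgLib.Fusion.Sp62Census in
theorem invW_all : TL.all (fun c => !Nat.beq (mm c c) oneC || Nat.beq c oneC ||
    memB c (invW.map Prod.fst)) = true := by decide +kernel

open CfsgLib.Fusion.Sp62Census in
/-- Every involution of the model commutes with an element of order three. -/
theorem modelInvol : StmtModelInvol := by
  intro x hx
  have hx2 : IsPGroup 2 (zpowers x) := IsPGroup.of_card (n := 1) (by
    rw [Nat.card_zpowers, hx, pow_one])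
  obtain ⟨g, hg⟩ := sylow_conj _ hx2
  obtain ⟨c, hc, e⟩ := exists_ok (hg x (mem_zpowers x))
  have hxx : x * x = 1 := by
    have := pow_orderOf_eq_one x
    rwa [hx, pow_two] at this
  have hcc : mm c c = oneC := phi_inj (okC_mm hc hc) okC_one (by
    rw [phi_mul (okC_sym hc) (okC_sym hc), e, phi_one,
      show g * x * g⁻¹ * (g * x * g⁻¹) = g * (x * x) * g⁻¹ by group, hxx, mul_one,
      mul_inv_cancel])
  have hc1 : c ≠ oneC := fun e1 => by
    rw [e1, phi_one] at e
    rw [conj_eq_one_iff.1 e.symm, orderOf_one] at hx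
    omega
  have h := List.all_eq_true.1 invW_all c (mem_TL hc)
  simp only [Bool.or_eq_true, Bool.not_eq_true', memB_iff, List.mem_map] at h
  rcases h with (h | h) | ⟨p, hp, rfl⟩
  · rw [Nat.beq_eq.mpr hcc] at h; exact Bool.noConfusion h
  · exact absurd (Nat.beq_eq.mp h) hc1
  have hw := List.all_eq_true.1 invW_ok p hp
  simp only [threeB, Bool.and_eq_true, Bool.not_eq_true', Nat.beq_eq, Nat.blt_eq, and_assoc] at hw
  obtain ⟨h1, h2, h3, h4, h5, h6⟩ := hw
  have hne : phi p.2 ≠ 1 := fun e1 => by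
    have : p.2 = oneC := dec_inj h6 (okC_lt okC_one) (by
      rw [← coe_phi h2, ← coe_ok okC_one, e1, phi_one])
    rw [this] at h5
    exact absurd h5 (by decide)
  haveI : Fact (Nat.Prime 3) := ⟨Nat.prime_three⟩
  have ho : orderOf (phi p.2) = 3 := orderOf_eq_prime (by
    rw [pow_succ', pow_two, ← phi_mul h2 h2, ← phi_mul h2 (symOK_mm h2 h2), h4, phi_one]) hne
  refine ⟨g⁻¹ * phi p.2 * g, ?_, ?_⟩
  · rw [← orderOf_injective (MulAut.conj g).toMonoidHom (MulAut.conj g).injective,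
      show (MulAut.conj g).toMonoidHom (g⁻¹ * phi p.2 * g) = phi p.2 by simp [mul_assoc], ho]
  · have hcm : phi p.2 * (g * x * g⁻¹) = g * x * g⁻¹ * phi p.2 := by
      rw [← e, ← phi_mul h2 (okC_sym hc), h3, phi_mul (okC_sym hc) h2]
    calc g⁻¹ * phi p.2 * g * x = g⁻¹ * (phi p.2 * (g * x * g⁻¹)) * g := by group
      _ = g⁻¹ * (g * x * g⁻¹ * phi p.2) * g := by rw [hcm]
      _ = _ := by group

/-- The census. -/
theorem census : StmtCensus.{u} := by
  rintro ⟨hsq, hne, T, hcentT, hsylT, hcrit⟩ G _ _ ι hinj hcent hfus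
  have hord : orderOf mSig = 2 := orderOf_eq_prime (by rw [pow_two, hsq]) hne
  have hconj : ∀ y : MSp, IsConj (ι mSig) (ι y) → IsConj mSig y := fun y => hfus mSig y hord
  refine CfsgLib.Fusion.WholeGroup.eq_top_of_sylow (z := ι mSig) (S := T.map ι)
    (by rw [← map_mul, hsq, map_one]) hcent ?_ ?_ ?_ ?_
  · rintro _ ⟨y, rfl⟩ hy
    obtain ⟨c, hc⟩ := isConj_iff.1 (hconj y hy)
    exact ⟨ι c, ⟨c, rfl⟩, by rw [← hc, map_mul, map_mul, map_inv]⟩
  · rintro _ ⟨t, ht, rfl⟩
    rw [← map_mul, hcentT t ht, map_mul]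
  · intro J hJ hJ2
    obtain ⟨h, hh⟩ := hsylT (J.comap ι) (hJ2.comap_of_injective ι hinj)
    refine ⟨ι h, ⟨h, rfl⟩, fun a ha => ?_⟩
    obtain ⟨y, rfl⟩ := hJ ha
    exact ⟨_, hh y ha, by rw [map_mul, map_mul, map_inv]⟩
  · intro J hJT hJH hJ2 hab hfree
    set K := J.comap ι with hK
    have hKT : K ≤ T := fun k hk => by
      obtain ⟨t, ht, e⟩ := hJT hk
      exact hinj e ▸ ht
    have hJK : K.map ι = J := map_comap_eq_self hJH
    rcases hcrit K hKT (fun c hc d hd => hinj (by rw [map_mul, map_mul]; exact hab _ hc _ hd))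
      (fun k hk e => hfree _ hk (ι.map_isConj e)) with ⟨k, h1, h2, h3, h4⟩ | hb
    · left
      refine ⟨ι k, ⟨k, rfl⟩, h1, fun a ha => ?_, by rw [← map_mul]; exact h3, fun a ha => ?_⟩
      · obtain ⟨y, rfl⟩ := hJH ha
        rw [← map_mul, h2 y ha, map_mul]
      · obtain ⟨y, rfl⟩ := hJH ha
        rw [← map_mul]
        exact fun e => h4 y ha (hconj _ e)
    · right
      intro L hL hodd
      have hLr : L ≤ ι.range := fun l hl => (hL hl).1
      have hcard : Nat.card (L.comap ι) = Nat.card L := by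
        rw [← card_map_of_injective hinj, map_comap_eq_self hLr]
      have hKc : Nat.card K = Nat.card J := by
        rw [← card_map_of_injective hinj, hJK]
      have := hb (L.comap ι) (fun l hl => mem_centralizer_iff.2 fun k hk => hinj (by
        rw [map_mul, map_mul]; exact mem_centralizer_iff.1 (hL hl).2 _ hk)) (hcard ▸ hodd)
      rw [hcard, hKc] at this
      refine lt_of_lt_of_le this (Nat.card_le_card_of_injective (fun x => ⟨ι x.1, ?_⟩) ?_)
      · refine ⟨⟨⟨x.1, rfl⟩, mem_centralizer_iff.2 fun a ha => ?_⟩, x.2.2.1,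
          by rw [← map_mul]; exact x.2.2.2⟩
        obtain ⟨y, rfl⟩ := hJH ha
        rw [← map_mul, mem_centralizer_iff.1 x.2.1 y ha, map_mul]
      · intro a b e
        exact Subtype.ext (hinj (congrArg Subtype.val e :))

end CfsgLib.SpSixThree
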