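import Cfsg.Agent.Lib.SpSixThree.Defs
import Cfsg.Agent.Lib.SpSixThree.Pres.TopCert
import Cfsg.Agent.Lib.SpSixThree.Pres.CoxCert
import Cfsg.Agent.Lib.SpSixThree.Pres.DihCert
import Cfsg.Agent.Lib.J1Unique.Pres
import Cfsg.Agent.Lib.Spor.Co2Invol.Card
import Cfsg.Agent.Lib.Classical.SympSimple

/-!
# The relators present `Sp₆(2)` (statement S3342)
-/

set_option autoImplicit false
set_option maxRecDepth 100000
set_option synthInstance.maxSize 512
set_option linter.style.haveILetI false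

namespace CfsgLib.SpSixThree

open Matrix
open CfsgLib.J1Unique (PG pg pg_rel toG toG_pg presModel closure_pg wv)
open CfsgLib.Classical (stv)
open CfsgLib.PresCert

universe u

theorem top_facts : (∀ w ∈ Top.cert.rels, ∀ x ∈ w, x < Top.cert.g) ∧
    (∀ x < Top.cert.g, Top.cert.iv x < Top.cert.g ∧
      ([x, Top.cert.iv x] ∈ Top.cert.rels ∨
        [Top.cert.iv x, x] ∈ Top.cert.rels)) ∧
    (∀ w ∈ Top.cert.rels, w ∈ rels) ∧
    (∀ r ∈ Top.cert.subs, ∃ x < 7, r = [x]) ∧ Top.cert.g = 9 ∧ Top.cert.n = 336 := by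
  decide +kernel

theorem cox_facts : (∀ w ∈ Cox.cert.rels, ∀ x ∈ w, x < Cox.cert.g) ∧
    (∀ x < Cox.cert.g, Cox.cert.iv x < Cox.cert.g ∧
      ([x, Cox.cert.iv x] ∈ Cox.cert.rels ∨
        [Cox.cert.iv x, x] ∈ Cox.cert.rels)) ∧
    (∀ w ∈ Cox.cert.rels, w ∈ Top.cert.rels) ∧
    (∀ r ∈ Cox.cert.subs, r = [0 + 5] ∨ r = [1 + 5]) ∧ Cox.cert.g = 7 ∧
      Cox.cert.n = 720 := by
  decide +kernel

theorem dih_facts : (∀ w ∈ Dih.cert.rels, ∀ x ∈ w, x < Dih.cert.g) ∧
    (∀ x < Dih.cert.g, Dih.cert.iv x < Dih.cert.g ∧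
      ([x, Dih.cert.iv x] ∈ Dih.cert.rels ∨
        [Dih.cert.iv x, x] ∈ Dih.cert.rels)) ∧
    (∀ w ∈ Dih.cert.rels, w.map (· + 5) ∈ Cox.cert.rels) ∧
    Dih.cert.subs = [] ∧ Dih.cert.g = 2 ∧ Dih.cert.n = 6 := by
  decide +kernel

/-- The group presented by the relators. -/
abbrev PT : Type := PG Top.cert.g Top.cert.rels

/-- A presented group is bounded by the table and the group covering the subgroup. -/
theorem pg_bound (C : Cert) {js : List Cert.Just} (hlt : ∀ w ∈ C.rels, ∀ x ∈ w, x < C.g)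
    (hinv : ∀ x < C.g, C.iv x < C.g ∧ ([x, C.iv x] ∈ C.rels ∨ [C.iv x, x] ∈ C.rels))
    (hv : Cert.Valid C js) {m : ℕ} {H : Type*} [Group H] (hH : Finite H ∧ Nat.card H ≤ m)
    (ψ : H →* PG C.g C.rels) (hsub : ∀ r ∈ C.subs, wv (pg C.g C.rels) r ∈ ψ.range) :
    Finite (PG C.g C.rels) ∧ Nat.card (PG C.g C.rels) ≤ m * C.n := by
  haveI := hH.1
  obtain ⟨hi, hfi⟩ := Cert.index_le (presModel C hlt hinv ψ.range hsub) hv
  haveI : Finite ψ.range := Finite.of_surjective _ ψ.rangeRestrict_surjective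
  have hr : Nat.card ψ.range ≤ m :=
    (Nat.card_le_card_of_surjective ψ.rangeRestrict ψ.rangeRestrict_surjective).trans hH.2
  have hne : Nat.card (PG C.g C.rels) ≠ 0 := by
    rw [← ψ.range.card_mul_index]
    exact mul_ne_zero Nat.card_pos.ne' hfi.index_ne_zero
  refine ⟨Nat.finite_of_card_ne_zero hne, ?_⟩
  rw [← ψ.range.card_mul_index]
  exact Nat.mul_le_mul hr hi

theorem card_PT : Finite PT ∧ Nat.card PT ≤ 1451520 := by
  obtain ⟨dl, di, dr, ds, dg, dn⟩ := dih_facts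
  obtain ⟨cl, ci, cr, cs, cg, cn⟩ := cox_facts
  obtain ⟨tl, ti, -, ts, tg, tn⟩ := top_facts
  have h6 := pg_bound (m := 1) Dih.cert dl di Dih.valid
    (H := PUnit.{1}) ⟨inferInstance, by simp⟩ 1 (fun r hr => by rw [ds] at hr; simp at hr)
  rw [dn, one_mul] at h6
  let ψ₁ : PG Dih.cert.g Dih.cert.rels →* PG Cox.cert.g Cox.cert.rels :=
    toG _ _ (fun x => pg Cox.cert.g Cox.cert.rels (x + 5)) dl fun w hw => by
      have h := pg_rel (n := Cox.cert.g) (dr w hw)
      simpa [wv, List.map_map, Function.comp_def] using h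
  have h4320 := pg_bound (m := 6) Cox.cert cl ci Cox.valid h6 ψ₁ (fun r hr => by
    rcases cs r hr with rfl | rfl
    · exact ⟨pg _ _ 0, (toG_pg _ _ _ (by rw [dg]; norm_num)).trans (by simp [wv])⟩
    · exact ⟨pg _ _ 1, (toG_pg _ _ _ (by rw [dg]; norm_num)).trans (by simp [wv])⟩)
  rw [cn] at h4320
  let ψ₂ : PG Cox.cert.g Cox.cert.rels →* PT :=
    toG _ _ (pg Top.cert.g Top.cert.rels) cl fun w hw => pg_rel (cr w hw)
  have h := pg_bound (m := 6 * 720) Top.cert tl ti Top.valid h4320 ψ₂ (fun r hr => by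
    obtain ⟨x, hx, rfl⟩ := ts r hr
    exact ⟨pg _ _ x, (toG_pg _ _ _ (cg ▸ hx)).trans (by simp [wv])⟩)
  rw [tn] at h
  exact h

/-! ## The named generators -/

/-- A vector from its bit mask. -/
def vec (n : ℕ) : I6 → ZMod 2 := fun i => if n.testBit (pos i) then 1 else 0

/-- The action of columns on bit masks. -/
def appC (c : List ℕ) (v : ℕ) : ℕ :=
  (List.range 6).foldl (fun r j => if v.testBit j then r ^^^ c.getD j 0 else r) 0

theorem appC_spec : ∀ i < 9, ∀ v < 64, appC (namedCols.getD i []) v < 64 ∧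
    ofCols (namedCols.getD i []) *ᵥ vec v = vec (appC (namedCols.getD i []) v) := by
  decide +kernel

theorem named_val {i : ℕ} (hi : i < 9) : (named i).1 = ofCols (namedCols.getD i []) := by
  simp [named, dif_pos hi]

theorem word_mulVec : ∀ (w : List ℕ), (∀ x ∈ w, x < 9) → ∀ v < 64,
    w.foldr (fun x u => appC (namedCols.getD x []) u) v < 64 ∧
    ((w.map named).prod).1 *ᵥ vec v = vec (w.foldr (fun x u => appC (namedCols.getD x []) u) v)
  | [], _, v, hv => ⟨hv, by simp⟩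
  | x :: w, h, v, hv => by
    obtain ⟨h1, h2⟩ := word_mulVec w (fun y hy => h y (List.mem_cons_of_mem _ hy)) v hv
    obtain ⟨h3, h4⟩ := appC_spec x (h x (List.mem_cons_self ..)) _ h1
    refine ⟨h3, ?_⟩
    rw [List.map_cons, List.prod_cons, Submonoid.coe_mul, ← Matrix.mulVec_mulVec, h2,
      named_val (h x (List.mem_cons_self ..)), h4]
    rfl

theorem vec_single : ∀ j : I6, vec (2 ^ pos j) = Pi.single j 1 ∧ 2 ^ pos j < 64 := by
  decide +kernel

theorem eq_of_basis {g h : MSp} (he : ∀ j : I6, g.1 *ᵥ vec (2 ^ pos j) = h.1 *ᵥ vec (2 ^ pos j)) :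
    g = h := Subtype.ext (Matrix.ext fun i j => by
  have := congrFun (he j) i
  simpa [(vec_single j).1] using this)

theorem rels_fix : ∀ w ∈ rels, (∀ x ∈ w, x < 9) ∧ ∀ j : I6,
    w.foldr (fun x u => appC (namedCols.getD x []) u) (2 ^ pos j) = 2 ^ pos j := by
  decide +kernel

/-- The relators hold in the model. -/
theorem rels_named : ∀ w ∈ rels, (w.map named).prod = 1 := fun w hw => eq_of_basis fun j => by
  rw [(word_mulVec w (rels_fix w hw).1 _ (vec_single j).2).2, (rels_fix w hw).2 j]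
  simp

/-- The projection of the presented group. -/
noncomputable def toModel : PT →* MSp :=
  toG _ _ named top_facts.1 fun w hw => rels_named w (top_facts.2.2.1 w hw)

theorem toModel_pg {i : ℕ} (hi : i < 9) :
    toModel (pg Top.cert.g Top.cert.rels i) = named i :=
  toG_pg _ _ _ (by rw [top_facts.2.2.2.2.1]; exact hi)

/-- Words moving the first basis vector to all nonzero vectors. -/
def vecWords : List (List ℕ) :=
  [[], [], [7], [8, 2, 7, 5, 6], [8, 7, 8, 7, 6], [3, 2, 8], [7, 3, 2, 8], [3, 4, 8], [5, 6], [6], [1, 2, 8, 6], [5, 1, 2, 8, 6], [7, 2, 7, 6], [8, 2, 8], [8, 1, 8], [8, 7, 5, 6], [7, 5, 6], [7, 1, 2, 8, 6], [7, 6], [2, 3, 8, 7], [2, 7, 6], [3, 8, 7], [2, 7, 5, 6], [3, 0, 8, 7], [2, 0, 8, 6], [7, 2, 8, 6], [2, 8, 6], [5, 2, 8, 6], [8, 6], [5, 8, 6], [0, 8, 6], [3, 8, 5, 6], [2, 7, 2, 8], [4, 2, 8], [7, 4, 2, 8], [8], [8, 7, 8, 7], [2, 8], [7, 2, 8], [4, 8], [2, 7, 8, 7], [6, 4, 2, 8], [5, 6, 8], [6, 8], [5, 6, 2, 8], [6, 2,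 8], [7, 8, 7], [6, 4, 8], [4, 3, 2, 7, 6], [4, 8, 7], [8, 6, 2, 8], [1, 8], [3, 2, 7, 6], [8, 7], [8, 2, 7, 6], [0, 8, 7], [8, 4, 8], [7, 8, 7, 6], [8, 7, 6], [6, 1, 8], [3, 8, 6], [6, 8, 7], [8, 6, 8], [8, 5, 6]]

theorem vecWords_spec : ∀ v < 64, v ≠ 0 → (∀ x ∈ vecWords.getD v [], x < 9) ∧
    (vecWords.getD v []).foldr (fun x u => appC (namedCols.getD x []) u) 1 = v := by
  decide +kernel

theorem vec_surj : ∀ f : I6 → ZMod 2, ∃ n < 64, vec n = f := by decide +kernel

theorem named_five : ∀ j : I6, vec (2 ^ pos j) + (1 * (Classical.sbil (vec 1) (vec (2 ^ pos j)))) •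
    vec 1 = ofCols (namedCols.getD 5 []) *ᵥ vec (2 ^ pos j) := by
  decide +kernel

theorem toModel_surjective : Function.Surjective toModel := by
  rw [← MonoidHom.range_eq_top]
  refine Classical.sp_eq_top_of_stv_mem _ fun a f => ?_
  have hgen : ∀ i < 9, named i ∈ toModel.range := fun i hi => ⟨_, toModel_pg hi⟩
  obtain rfl | rfl : a = 0 ∨ a = 1 := by revert a; decide
  · rw [Classical.stv_zero]
    exact one_mem _
  obtain ⟨n, hn, rfl⟩ := vec_surj f
  by_cases h0 : n = 0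
  · rw [h0, show stv (1 : ZMod 2) (vec 0) = 1 from Classical.sp_ext fun x => by
      simp [show vec 0 = 0 from funext fun i => by simp [vec]]]
    exact one_mem _
  obtain ⟨hx, hw⟩ := vecWords_spec n hn h0
  have hv := (word_mulVec _ hx 1 (by norm_num)).2
  rw [hw] at hv
  rw [← hv, ← Classical.stv_conj]
  have hk : ((vecWords.getD n []).map named).prod ∈ toModel.range :=
    Subgroup.list_prod_mem _ fun b hb => by
      obtain ⟨x, hx', rfl⟩ := List.mem_map.1 hb
      exact hgen x (hx x hx')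
  have h5 : stv (1 : ZMod 2) (vec 1) = named 5 := eq_of_basis fun j => by
    rw [Classical.stv_mulVec, named_val (by norm_num), named_five j]
  rw [h5]
  exact mul_mem (mul_mem hk (hgen 5 (by norm_num))) (inv_mem hk)

theorem normal_eq_bot_or_top (N : Subgroup MSp) [N.Normal] : N = ⊥ ∨ N = ⊤ := by
  have hperf := Classical.sp_commutator_eq_top' (l := Fin 3) (F := ZMod 2) (Or.inl (by simp))
  rcases Classical.normal_sp_le_center_or_eq_top (by simp) hperf N with h | h
  · left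
    have hc : Subgroup.center MSp = ⊥ := Subgroup.card_eq_one.1 (by
      rw [Classical.card_center_sp, Nat.card_zmod]; norm_num)
    exact eq_bot_iff.2 (hc ▸ h)
  · exact Or.inr h

/-- The piece P6: the relators present the model. -/
theorem present : StmtPresent.{u} := by
  intro G _ X hX h0
  obtain ⟨hfin, hle⟩ := card_PT
  haveI := hfin
  have hbij : Function.Bijective toModel :=
    (Nat.bijective_iff_surjective_and_card toModel).2 ⟨toModel_surjective,
      le_antisymm (hle.trans Spor.Co2Invol.natCard_sp.ge)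
        (Nat.card_le_card_of_surjective _ toModel_surjective)⟩
  let e := MulEquiv.ofBijective toModel hbij
  let φ : PT →* G := toG _ _ X top_facts.1 fun w hw => hX w (top_facts.2.2.1 w hw)
  have hι : ∀ i < 9, (φ.comp e.symm.toMonoidHom) (named i) = X i := fun i hi => by
    have he : e.symm (named i) = pg _ _ i := by
      rw [MulEquiv.symm_apply_eq]
      exact (toModel_pg hi).symm
    show φ (e.symm (named i)) = X i
    rw [he]
    exact toG_pg _ _ _ (by rw [top_facts.2.2.2.2.1]; exact hi)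
  refine ⟨φ.comp e.symm.toMonoidHom, ?_, hι⟩
  rw [← MonoidHom.ker_eq_bot_iff]
  refine (normal_eq_bot_or_top _).resolve_right fun h => h0 ?_
  rw [← hι 0 (by norm_num)]
  exact MonoidHom.mem_ker.1 (h ▸ Subgroup.mem_top _)

end CfsgLib.SpSixThree
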