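import Cfsg.Agent.Lib.SpSixThree.Assembly

/-!
# The relators hold on the named elements (statement S3342)
-/

set_option autoImplicit false
set_option maxRecDepth 100000

namespace CfsgLib.SpSixThree

open Subgroup
open CfsgLib.PSpAmalgam (V3 zV eV fV gV actR actS)

universe u

namespace RelsAux

variable {G : Type u} [Group G] {B : Base G} {E : Eight B} (S : Six E)

/-- The value of a word on the named elements. -/
def wp (w : List ℕ) : G := (w.map (gen S)).prod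

theorem wp_append (u w : List ℕ) : wp S (u ++ w) = wp S u * wp S w := by
  rw [wp, wp, wp, List.map_append, List.prod_append]

/-- The transposition of a letter. -/
def sw (i : ℕ) : Equiv.Perm (Fin 6) :=
  Equiv.swap ⟨i % 6, Nat.mod_lt _ (by norm_num)⟩ ⟨(i + 1) % 6, Nat.mod_lt _ (by norm_num)⟩

theorem gen_sw (i : ℕ) (hi : i < 5) : gen S i = S.φ (sw i) := by
  interval_cases i <;> rfl

theorem wp_perm (w : List ℕ) (hw : ∀ i ∈ w, i < 5) : wp S w = S.φ ((w.map sw).prod) := by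
  rw [wp, map_list_prod, List.map_map]
  congr 1
  exact List.map_congr_left fun i hi => gen_sw S i (hw i hi)

theorem wp_sig : wp S wSig = B.σ := by
  rw [wp_perm S _ (by decide), show (wSig.map sw).prod =
    Equiv.swap (0 : Fin 6) 3 * Equiv.swap 1 4 * Equiv.swap 2 5 by decide +kernel, S.φ_σ]

theorem wp_sig_rev : wp S wSig.reverse = B.σ := by
  rw [wp_perm S _ (by decide), show (wSig.reverse.map sw).prod =
    Equiv.swap (0 : Fin 6) 3 * Equiv.swap 1 4 * Equiv.swap 2 5 by decide +kernel, S.φ_σ]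

theorem wp_t : wp S wT14 = S.φ (Equiv.swap 0 3) := by
  rw [wp_perm S _ (by decide),
    show (wT14.map sw).prod = Equiv.swap (0 : Fin 6) 3 by decide +kernel]

theorem v_zero : B.v 0 = 1 := by
  have h := B.v_add 0 0
  rw [add_zero] at h
  exact left_eq_mul.1 h

theorem v_neg (x : V3) : B.v (-x) = (B.v x)⁻¹ :=
  eq_inv_of_mul_eq_one_left (by rw [← B.v_add, neg_add_cancel, v_zero])

theorem eps_eps : E.ε⁻¹ = E.ε := inv_eq_of_mul_eq_one_left E.ε_sq

theorem sig_sig : B.σ⁻¹ = B.σ := inv_eq_of_mul_eq_one_left B.σ_sq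

/-- `ε` inverts `e`. -/
theorem eps_e : E.ε * B.v eV * E.ε = (B.v eV)⁻¹ := by
  conv_lhs => arg 2; rw [← eps_eps (E := E)]
  rw [E.conj_ε, ← v_neg]; rfl

theorem gen_eq5 : gen S 5 = E.ε := rfl
theorem gen_eq6 : gen S 6 = E.ε * B.v eV := rfl
theorem gen_eq7 : gen S 7 = B.β * B.σ := rfl
theorem gen_eq8 : gen S 8 = E.δ * B.q := rfl

theorem gen_comm5 (i : ℕ) (hi : i < 5) : gen S i * E.ε = E.ε * gen S i := by
  rw [gen_sw S i hi]; exact S.φ_ε _

theorem gen_comm6 (i : ℕ) (hi : i < 5) : gen S i * gen S 6 = gen S 6 * gen S i := by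
  rw [gen_eq6, gen_sw S i hi, ← mul_assoc, S.φ_ε, mul_assoc, S.φ_e, ← mul_assoc]

theorem sq_gen (i : ℕ) (hi : i < 5) : gen S i * gen S i = 1 := by
  rw [gen_sw S i hi, ← map_mul, sw, Equiv.swap_mul_self, map_one]

include S in
theorem eps2_eps2 : E.ε2 * E.ε2 = 1 := by
  rw [← S.φ_ε2, ← map_mul, Equiv.swap_mul_self, map_one]

include S in
theorem eps3_eps3 : E.ε3 * E.ε3 = 1 := by
  rw [← S.φ_ε3, ← map_mul, Equiv.swap_mul_self, map_one]

include S in
theorem delta_sq : E.δ * E.δ = 1 := by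
  have h : E.ε2 * E.ε3 = S.φ (Equiv.swap 0 1 * Equiv.swap 3 4) := by
    rw [map_mul, S.φ_ε2, S.φ_ε3]
  rw [Eight.δ, mul_assoc E.ε, h]
  calc E.ε * S.φ (Equiv.swap 0 1 * Equiv.swap 3 4) * (E.ε * S.φ (Equiv.swap 0 1 * Equiv.swap 3 4))
      = E.ε * (S.φ (Equiv.swap 0 1 * Equiv.swap 3 4) * E.ε) *
          S.φ (Equiv.swap 0 1 * Equiv.swap 3 4) := by group
    _ = S.φ ((Equiv.swap 0 1 * Equiv.swap 3 4) * (Equiv.swap 0 1 * Equiv.swap 3 4)) := by
        rw [S.φ_ε, ← mul_assoc, E.ε_sq, one_mul, ← map_mul]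
    _ = 1 := by
        rw [show ((Equiv.swap 0 1 * Equiv.swap 3 4) * (Equiv.swap 0 1 * Equiv.swap 3 4) :
          Equiv.Perm (Fin 6)) = 1 by decide +kernel, map_one]

theorem wp_delta : wp S [5, 0, 3] = E.δ := by
  simp only [wp, List.map_cons, List.map_nil, List.prod_cons, List.prod_nil, mul_one]
  rw [Eight.δ, mul_assoc, show gen S 0 = E.ε2 from S.φ_ε2, show gen S 3 = E.ε3 from S.φ_ε3,
    gen_eq5]

include S in
theorem delta_q : E.δ * B.q * E.δ = B.q⁻¹ := by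
  have h := E.q_inv
  conv_lhs => arg 2; rw [← inv_eq_of_mul_eq_one_left (delta_sq S)]
  exact h

theorem wp_q : wp S [5, 0, 3, 8] = B.q := by
  rw [show ([5, 0, 3, 8] : List ℕ) = [5, 0, 3] ++ [8] from rfl, wp_append, wp_delta]
  simp only [wp, List.map_cons, List.map_nil, List.prod_cons, List.prod_nil, mul_one]
  rw [gen_eq8, ← mul_assoc, delta_sq S, one_mul]

theorem wp_q_inv : wp S [8, 5, 0, 3] = B.q⁻¹ := by
  rw [show ([8, 5, 0, 3] : List ℕ) = [8] ++ [5, 0, 3] from rfl, wp_append, wp_delta]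
  simp only [wp, List.map_cons, List.map_nil, List.prod_cons, List.prod_nil, mul_one]
  exact delta_q S

theorem wp_e : wp S [5, 6] = B.v eV := by
  simp only [wp, List.map_cons, List.map_nil, List.prod_cons, List.prod_nil, mul_one]
  rw [gen_eq5, gen_eq6, ← mul_assoc, E.ε_sq, one_mul]

theorem wp_e_inv : wp S [6, 5] = (B.v eV)⁻¹ := by
  simp only [wp, List.map_cons, List.map_nil, List.prod_cons, List.prod_nil, mul_one]
  rw [gen_eq5, gen_eq6]; exact eps_e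

theorem gen01 : gen S 0 * gen S 1 = B.v (0, 1, 0) := by
  rw [← S.φ_g, map_mul]; rfl

theorem gen34 : gen S 3 * gen S 4 = B.v (0, 0, 1) := by
  rw [← S.φ_h, map_mul]; rfl

theorem gen43 : gen S 4 * gen S 3 = B.v (0, 0, -1) := by
  rw [show ((0, 0, -1) : V3) = -(0, 0, 1) by decide, v_neg, ← gen34 S, mul_inv_rev,
    inv_eq_of_mul_eq_one_left (sq_gen S 3 (by norm_num)),
    inv_eq_of_mul_eq_one_left (sq_gen S 4 (by norm_num))]

theorem gen10 : gen S 1 * gen S 0 = B.v (0, -1, 0) := by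
  rw [show ((0, -1, 0) : V3) = -(0, 1, 0) by decide, v_neg, ← gen01 S, mul_inv_rev,
    inv_eq_of_mul_eq_one_left (sq_gen S 1 (by norm_num)),
    inv_eq_of_mul_eq_one_left (sq_gen S 0 (by norm_num))]

/-- The conjugate of a letter by `β σ`. -/
theorem conj7 (y : G) : gen S 7 * y * gen S 7 = B.β * (B.σ * y * B.σ) * B.β⁻¹ := by
  have h : B.σ * B.β * B.σ = B.β⁻¹ := B.σ_β
  rw [gen_eq7, ← h]
  calc B.β * B.σ * y * (B.β * B.σ)
      = B.β * B.σ * y * (B.σ * B.σ) * (B.β * B.σ) := by rw [B.σ_sq, mul_one]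
    _ = B.β * (B.σ * y * B.σ) * (B.σ * B.β * B.σ) := by group

theorem gen7_sq : gen S 7 * gen S 7 = 1 := by
  have h := conj7 S 1
  rw [mul_one, mul_one, B.σ_sq, mul_one, mul_inv_cancel] at h
  exact h

theorem gen8_sq : gen S 8 * gen S 8 = 1 := by
  rw [gen_eq8, ← mul_assoc, delta_q S, inv_mul_cancel]

theorem gen6_sq : gen S 6 * gen S 6 = 1 := by
  rw [gen_eq6, ← mul_assoc, eps_e, inv_mul_cancel]

theorem sig_swap (i j : Fin 6) :
    B.σ * S.φ (Equiv.swap i j) * B.σ = S.φ (Equiv.swap 0 3 * Equiv.swap 1 4 * Equiv.swap 2 5 *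
      Equiv.swap i j * (Equiv.swap 0 3 * Equiv.swap 1 4 * Equiv.swap 2 5)) := by
  rw [← S.φ_σ, ← map_mul, ← map_mul]

theorem conj_beta_v (x : V3) : B.β * B.v x * B.β⁻¹ = B.v (actR x) := B.conj_β x

theorem beta_eps2 : B.β * E.ε2 * B.β⁻¹ = E.ε3 := by
  have h3 : B.β * B.β = B.β⁻¹ := eq_inv_of_mul_eq_one_left B.β_cube
  rw [Eight.ε2, Eight.ε3]
  calc B.β * (B.β * E.ε * B.β⁻¹) * B.β⁻¹ = (B.β * B.β) * E.ε * (B.β * B.β)⁻¹ := by group
    _ = B.β⁻¹ * E.ε * B.β := by rw [h3, inv_inv]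

theorem conj7_3 : gen S 7 * gen S 3 * gen S 7 = gen S 3 := by
  rw [conj7, show gen S 3 = S.φ (Equiv.swap 3 4) from rfl, sig_swap,
    show ((Equiv.swap 0 3 * Equiv.swap 1 4 * Equiv.swap 2 5) * Equiv.swap 3 4 *
      (Equiv.swap 0 3 * Equiv.swap 1 4 * Equiv.swap 2 5) : Equiv.Perm (Fin 6)) = Equiv.swap 0 1
      by decide +kernel, S.φ_ε2, beta_eps2, S.φ_ε3]

theorem conj7_4 : gen S 7 * gen S 4 * gen S 7 = gen S 4 := by
  rw [conj7, show gen S 4 = S.φ (Equiv.swap 4 5) from rfl, sig_swap,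
    show ((Equiv.swap 0 3 * Equiv.swap 1 4 * Equiv.swap 2 5) * Equiv.swap 4 5 *
      (Equiv.swap 0 3 * Equiv.swap 1 4 * Equiv.swap 2 5) : Equiv.Perm (Fin 6)) =
      Equiv.swap 0 1 * (Equiv.swap 0 1 * Equiv.swap 1 2) by decide +kernel,
    map_mul, S.φ_ε2, S.φ_g]
  calc B.β * (E.ε2 * B.v (0, 1, 0)) * B.β⁻¹
      = (B.β * E.ε2 * B.β⁻¹) * (B.β * B.v (0, 1, 0) * B.β⁻¹) := by group
    _ = E.ε3 * B.v (actR (0, 1, 0)) := by rw [beta_eps2, B.conj_β]
    _ = S.φ (Equiv.swap 3 4) * S.φ (Equiv.swap 3 4 * Equiv.swap 4 5) := by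
        rw [S.φ_ε3, S.φ_h]; rfl
    _ = S.φ (Equiv.swap 4 5) := by
        rw [← map_mul, ← mul_assoc, Equiv.swap_mul_self, one_mul]

theorem conj7_5 : gen S 7 * gen S 5 * gen S 7 = gen S 0 := by
  rw [conj7, gen_eq5, show gen S 0 = E.ε2 from S.φ_ε2, ← E.ε_σ, mul_assoc E.ε, B.σ_sq, mul_one,
    Eight.ε2]

theorem conj7_6 : gen S 7 * gen S 6 * gen S 7 = gen S 1 := by
  have h1 : B.σ * (E.ε * B.v eV) * B.σ = E.ε * B.v eV := by
    conv_lhs => arg 2; rw [← sig_sig (B := B)]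
    calc B.σ * (E.ε * B.v eV) * B.σ⁻¹ = (B.σ * E.ε * B.σ⁻¹) * (B.σ * B.v eV * B.σ⁻¹) := by group
      _ = E.ε * B.v eV := by rw [B.conj_σ, ← E.ε_σ, mul_inv_cancel_right]; rfl
  rw [conj7, gen_eq6, h1, show B.β * (E.ε * B.v eV) * B.β⁻¹ =
      (B.β * E.ε * B.β⁻¹) * (B.β * B.v eV * B.β⁻¹) by group, B.conj_β,
    show B.β * E.ε * B.β⁻¹ = E.ε2 from rfl,
    show gen S 1 = S.φ (Equiv.swap 1 2) from rfl, ← S.φ_ε2,
    show actR eV = ((0, 1, 0) : V3) from rfl, ← S.φ_g, ← map_mul, ← mul_assoc,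
    Equiv.swap_mul_self, one_mul]

theorem beta_sig_sig : wp S (7 :: wSig) = B.β := by
  rw [show (7 :: wSig) = [7] ++ wSig from rfl, wp_append, wp_sig]
  simp only [wp, List.map_cons, List.map_nil, List.prod_cons, List.prod_nil, mul_one]
  rw [gen_eq7, mul_assoc, B.σ_sq, mul_one]

theorem wp_two (i j : ℕ) : wp S [i, j] = gen S i * gen S j := by
  simp only [wp, List.map_cons, List.map_nil, List.prod_cons, List.prod_nil, mul_one]

theorem wp_pure (w : List ℕ) (hw : ∀ i ∈ w, i < 5) (h : (w.map sw).prod = 1) : wp S w = 1 := by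
  rw [wp_perm S w hw, h, map_one]

theorem wp_comm_pair (i j : ℕ) (hi : gen S i * gen S i = 1) (hj : gen S j * gen S j = 1)
    (h : gen S i * gen S j = gen S j * gen S i) : wp S [i, j, i, j] = 1 := by
  rw [show [i, j, i, j] = [i, j] ++ [i, j] from rfl, wp_append, wp_two]
  calc gen S i * gen S j * (gen S i * gen S j)
      = gen S i * gen S j * (gen S j * gen S i) := by rw [h]
    _ = 1 := by rw [mul_assoc, ← mul_assoc (gen S j), hj, one_mul, hi]

theorem wp_conj_pair (i j : ℕ) (hj : gen S j * gen S j = 1)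
    (h : gen S 7 * gen S i * gen S 7 = gen S j) : wp S [7, i, 7, j] = 1 := by
  rw [show [7, i, 7, j] = [7, i] ++ [7, j] from rfl, wp_append, wp_two, wp_two,
    ← mul_assoc, h, hj]

theorem wp_seven_cube : wp S ((7 :: wSig) ++ ((7 :: wSig) ++ (7 :: wSig))) = 1 := by
  rw [wp_append, wp_append, beta_sig_sig, ← mul_assoc, B.β_cube]

theorem wp_r35 : wp S (([5, 0, 3, 8] ++ [5, 0, 3, 8]) ++ wSig) = 1 := by
  rw [wp_append, wp_append, wp_q, wp_sig, B.q_sq, B.σ_sq]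

theorem v_z_split : B.v zV = B.v eV * B.v (0, 1, 0) * B.v (0, 0, 1) := by
  rw [← B.v_add, ← B.v_add]; rfl

theorem wp_r36 :
    wp S ([5, 0, 3, 8] ++ ([5, 6] ++ ([0, 1] ++ ([3, 4] ++ ([8, 5, 0, 3] ++
      ([4, 3] ++ ([1, 0] ++ [6, 5]))))))) = 1 := by
  simp only [wp_append, wp_q, wp_q_inv, wp_e, wp_e_inv, wp_two S 0 1, wp_two S 3 4,
    wp_two S 4 3, wp_two S 1 0, gen01, gen34, gen43, gen10]
  have e1 : B.v (0, 0, -1) = (B.v (0, 0, 1))⁻¹ := by rw [← v_neg]; rfl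
  have e2 : B.v (0, -1, 0) = (B.v (0, 1, 0))⁻¹ := by rw [← v_neg]; rfl
  rw [e1, e2]
  calc _ = B.q * (B.v eV * B.v (0, 1, 0) * B.v (0, 0, 1)) * B.q⁻¹ *
        (B.v eV * B.v (0, 1, 0) * B.v (0, 0, 1))⁻¹ := by group
    _ = 1 := by rw [← v_z_split, B.q_a, mul_inv_cancel_right, mul_inv_cancel]

theorem v_g_split : B.v gV = B.v (0, 1, 0) * B.v (0, 0, -1) := by
  rw [← B.v_add]; exact congrArg B.v (by decide)

theorem wp_r37 :
    wp S ([5, 0, 3, 8] ++ ([0, 1] ++ ([4, 3] ++ ([8, 5, 0, 3] ++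
      (wSig.reverse ++ [7]))))) = 1 := by
  simp only [wp_append, wp_q, wp_q_inv, wp_sig_rev, wp_two S 0 1, wp_two S 4 3, gen01, gen43]
  simp only [wp, List.map_cons, List.map_nil, List.prod_cons, List.prod_nil, mul_one, gen_eq7]
  calc _ = (B.q * (B.v (0, 1, 0) * B.v (0, 0, -1)) * B.q⁻¹) * (B.σ * B.β * B.σ) := by group
    _ = 1 := by rw [← v_g_split, B.q_gV, B.σ_β, mul_inv_cancel]

theorem wp_r38 :
    wp S ([5, 0, 3, 8] ++ ((7 :: wSig) ++ ([8, 5, 0, 3] ++ ([0, 1] ++ [4, 3])))) = 1 := by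
  simp only [wp_append, wp_q, wp_q_inv, beta_sig_sig, wp_two S 0 1, wp_two S 4 3, gen01, gen43]
  calc _ = (B.q * B.β * B.q⁻¹) * (B.v (0, 1, 0) * B.v (0, 0, -1)) := by group
    _ = 1 := by rw [← v_g_split, B.q_β, inv_mul_cancel]

theorem wp_r39 :
    wp S ([5, 0, 3, 8] ++ ([6, 5] ++ ([5, 0, 3, 8] ++ ([6, 5] ++
      ([5, 0, 3, 8] ++ [6, 5]))))) = 1 := by
  simp only [wp_append, wp_q, wp_e_inv]
  calc _ = B.q * (B.v eV)⁻¹ * (B.q * (B.v eV)⁻¹) * (B.q * (B.v eV)⁻¹) := by group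
    _ = 1 := B.q_e

theorem wp_r40 (hK : Key S) :
    wp S ([5, 0, 3, 8] ++ (wT14 ++ ([8, 5, 0, 3] ++ [2, 1, 0, 1, 2]))) = 1 := by
  simp only [wp_append, wp_q, wp_q_inv, show ([2, 1, 0, 1, 2] : List ℕ) = wT14 from rfl, wp_t]
  rw [← mul_assoc, ← mul_assoc, show B.q * S.φ (Equiv.swap 0 3) = S.φ (Equiv.swap 0 3) * B.q
    from hK, mul_inv_cancel_right, ← map_mul, Equiv.swap_mul_self, map_one]

theorem wp_r30 : wp S ([5, 6] ++ ([5, 6] ++ [5, 6])) = 1 := by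
  rw [wp_append, wp_append, wp_e, ← B.v_add, ← B.v_add, ← v_zero (B := B)]
  rfl

end RelsAux

open RelsAux in
/-- The relators hold on the named elements. -/
theorem rels_hold : StmtRels.{u} := by
  intro G _ _ B E S hK
  have key : ∀ w ∈ rels, wp S w = 1 := by
    have s5 : gen S 5 * gen S 5 = 1 := E.ε_sq
    simp only [rels, List.forall_mem_cons, List.not_mem_nil, IsEmpty.forall_iff, implies_true,
      and_true]
    refine ⟨?_, ?_, ?_, ?_, ?_, ?_, ?_, ?_, ?_, ?_, ?_, ?_, ?_, ?_, ?_, ?_, ?_, ?_, ?_, ?_, ?_,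
      ?_, ?_, ?_, ?_, ?_, ?_, ?_, ?_, ?_, ?_, ?_, ?_, ?_, ?_, ?_, ?_, ?_, ?_, ?_, ?_⟩
    all_goals first
      | exact wp_pure S _ (by decide) (by decide +kernel)
      | exact wp_comm_pair S _ 5 (sq_gen S _ (by norm_num)) s5 (gen_comm5 S _ (by norm_num))
      | exact wp_comm_pair S _ 6 (sq_gen S _ (by norm_num)) (gen6_sq S)
          (gen_comm6 S _ (by norm_num))
      | skip
    · rw [wp_two]; exact s5
    · rw [wp_two]; exact gen6_sq S
    · rw [wp_two]; exact gen7_sq S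
    · rw [wp_two]; exact gen8_sq S
    · exact wp_r30 S
    · exact wp_conj_pair S 3 3 (sq_gen S 3 (by norm_num)) (conj7_3 S)
    · exact wp_conj_pair S 5 0 (sq_gen S 0 (by norm_num)) (conj7_5 S)
    · exact wp_conj_pair S 6 1 (sq_gen S 1 (by norm_num)) (conj7_6 S)
    · exact wp_conj_pair S 4 4 (sq_gen S 4 (by norm_num)) (conj7_4 S)
    · exact wp_seven_cube S
    · exact wp_r35 S
    · exact wp_r36 S
    · exact wp_r37 S
    · exact wp_r38 S
    · exact wp_r39 S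
    · exact wp_r40 S hK
  exact key

end CfsgLib.SpSixThree
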