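import Cfsg.Agent.Lib.SpSixThree.Defs
import Cfsg.Agent.Lib.Transfer.Fusion

/-!
# Basic facts on `J`, `R` and `S = J R` (statement S3342, the cases without sign changes)
-/

set_option autoImplicit false
set_option linter.unusedSectionVars false

namespace CfsgLib.SpSixThree.Small

open Subgroup
open CfsgLib.PSpAmalgam (V3 zV eV fV gV zV' actR actS)

universe u

variable {G : Type u} [Group G] (B : Base G)

theorem v_zero : B.v 0 = 1 := by
  have h := B.v_add 0 0
  rw [add_zero] at h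
  exact left_eq_mul.1 h

theorem v_neg (x : V3) : B.v (-x) = (B.v x)⁻¹ := by
  refine eq_inv_of_mul_eq_one_left ?_
  rw [← B.v_add, neg_add_cancel, v_zero]

theorem v_comm (x y : V3) : B.v x * B.v y = B.v y * B.v x := by
  rw [← B.v_add, ← B.v_add, add_comm]

theorem v_cube (x : V3) : B.v x ^ 3 = 1 := by
  rw [pow_succ, pow_two, ← B.v_add, ← B.v_add, ← v_zero B]
  congr 1
  revert x
  decide +kernel

theorem v_ne {x : V3} (hx : x ≠ 0) : B.v x ≠ 1 := fun h => hx (B.v_inj (h.trans (v_zero B).symm))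

theorem orderOf_v {x : V3} (hx : x ≠ 0) : orderOf (B.v x) = 3 :=
  have : Fact (Nat.Prime 3) := ⟨Nat.prime_three⟩
  orderOf_eq_prime (v_cube B x) (v_ne B hx)

theorem zV_ne : (zV : V3) ≠ 0 := by decide +kernel

theorem mem (x : V3) : B.v x ∈ B.J := (B.mem_J _).2 ⟨x, rfl⟩

theorem J_comm : ∀ g ∈ B.J, ∀ h ∈ B.J, g * h = h * g := fun g hg h hh => by
  obtain ⟨x, rfl⟩ := (B.mem_J g).1 hg
  obtain ⟨y, rfl⟩ := (B.mem_J h).1 hh
  exact v_comm B x y

theorem J_cube : ∀ g ∈ B.J, g ^ 3 = 1 := fun g hg => by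
  obtain ⟨x, rfl⟩ := (B.mem_J g).1 hg
  exact v_cube B x

theorem card_J : Nat.card B.J = 27 := by
  have e : Nat.card V3 = Nat.card B.J := Nat.card_congr (Equiv.ofBijective (fun x => ⟨B.v x, mem B x⟩)
    ⟨fun x y h => B.v_inj (congrArg Subtype.val h), fun g => by
      obtain ⟨x, hx⟩ := (B.mem_J _).1 g.2
      exact ⟨x, Subtype.ext hx⟩⟩)
  rw [← e]
  simp [V3]

theorem J_pgroup : IsPGroup 3 B.J := IsPGroup.of_card (n := 3) (card_J B)

theorem R_pgroup : IsPGroup 3 B.R := IsPGroup.of_card (n := 3) B.card_R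

/-- `C(a)` -/
theorem mem_cent {g : G} : g ∈ centralizer ({B.v zV} : Set G) ↔ g * B.v zV = B.v zV * g :=
  mem_centralizer_singleton_iff

theorem J_le_cent : B.J ≤ centralizer ({B.v zV} : Set G) := fun g hg =>
  (mem_cent B).2 (J_comm B g hg _ (mem B _))

theorem R_le_cent : B.R ≤ centralizer ({B.v zV} : Set G) := fun g hg =>
  (mem_cent B).2 (B.R_comm g hg)

theorem J_le_normR : B.J ≤ normalizer (B.R : Set G) := (J_le_cent B).trans B.R_normal

theorem conj_β_pow (j : ℕ) (x : V3) : B.β ^ j * B.v x * (B.β ^ j)⁻¹ = B.v (actR^[j] x) := by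
  induction j with
  | zero => simp
  | succ j ih =>
    rw [Function.iterate_succ_apply', ← B.conj_β, ← ih, pow_succ' B.β j, mul_inv_rev]
    group

theorem β_pow_three : B.β ^ 3 = 1 := by rw [pow_succ, pow_two, B.β_cube]

/-- The elements of `R`. -/
theorem R_form {r : G} (hr : r ∈ B.R) :
    ∃ (y : V3) (j : Fin 3), vsum y = 0 ∧ r = B.v y * B.β ^ j.val := by
  have : Finite B.R := Nat.finite_of_card_ne_zero (by rw [B.card_R]; norm_num)
  let f : {y : V3 // vsum y = 0} × Fin 3 → B.R := fun p =>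
    ⟨B.v p.1.1 * B.β ^ p.2.val, mul_mem ((B.v_mem_R _).2 p.1.2) (pow_mem B.β_mem _)⟩
  have hf : Function.Injective f := fun p p' h => by
    have h' : B.v p.1.1 * B.β ^ p.2.val = B.v p'.1.1 * B.β ^ p'.2.val := congrArg Subtype.val h
    have hact : ∀ x, B.v (actR^[p.2.val] x) = B.v (actR^[p'.2.val] x) := fun x => by
      have e : B.β ^ p.2.val = B.v (-p.1.1 + p'.1.1) * B.β ^ p'.2.val := by
        rw [B.v_add, v_neg, mul_assoc, ← h', inv_mul_cancel_left]
      rw [← conj_β_pow, e, mul_inv_rev, ← conj_β_pow]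
      have h2 : ∀ z w, B.v z * B.v w * (B.v z)⁻¹ = B.v w := fun z w => by
        rw [v_comm B z w, mul_inv_cancel_right]
      rw [conj_β_pow B p'.2.val x, ← h2 (-p.1.1 + p'.1.1) (actR^[p'.2.val] x), ← conj_β_pow]
      group
    have key : ∀ i i' : Fin 3, (∀ x : V3, actR^[i.val] x = actR^[i'.val] x) → i = i' := by
      decide +kernel
    have hj : p.2 = p'.2 := key _ _ fun x => B.v_inj (hact x)
    rw [hj] at h'
    exact Prod.ext (Subtype.ext (B.v_inj (mul_right_cancel h'))) hj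
  have hcard : Nat.card ({y : V3 // vsum y = 0} × Fin 3) = 27 := by
    rw [Nat.card_eq_fintype_card]
    decide +kernel
  obtain ⟨⟨⟨y, hy⟩, j⟩, hp⟩ :=
    (hf.bijective_of_nat_card_le (by rw [hcard, B.card_R])).2 ⟨r, hr⟩
  exact ⟨y, j, hy, (congrArg Subtype.val hp).symm⟩

/-- `S = J R` -/
def SS : Subgroup G := B.J ⊔ B.R

theorem J_le_SS : B.J ≤ SS B := le_sup_left
theorem R_le_SS : B.R ≤ SS B := le_sup_right
theorem SS_le_cent : SS B ≤ centralizer ({B.v zV} : Set G) := sup_le (J_le_cent B) (R_le_cent B)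

theorem SS_form {g : G} (hg : g ∈ SS B) : ∃ (x : V3) (j : Fin 3), g = B.v x * B.β ^ j.val := by
  rw [SS, ← SetLike.mem_coe, coe_mul_of_left_le_normalizer_right _ _ (J_le_normR B)] at hg
  obtain ⟨p, hp, r, hr, rfl⟩ := hg
  obtain ⟨x, rfl⟩ := (B.mem_J p).1 hp
  obtain ⟨y, j, -, rfl⟩ := R_form B hr
  exact ⟨x + y, j, by rw [B.v_add]; simp only [mul_assoc]⟩

/-- An element of order three of `S` lies in `J` or in `R`. -/
theorem mem_J_or_R {g : G} (hg : g ∈ SS B) (h3 : g ^ 3 = 1) : g ∈ B.J ∨ g ∈ B.R := by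
  obtain ⟨x, j, rfl⟩ := SS_form B hg
  have e : (B.v x * B.β ^ j.val) ^ 3 =
      B.v (x + actR^[j.val] x + actR^[j.val] (actR^[j.val] x)) := by
    have h1 : ∀ b p : G, (p * b) ^ 3 = p * (b * p * b⁻¹) * (b * (b * p * b⁻¹) * b⁻¹) * b ^ 3 := by
      intro b p
      rw [pow_succ, pow_two, pow_succ, pow_two]
      group
    rw [h1, conj_β_pow, conj_β_pow, ← pow_mul, mul_comm j.val 3, pow_mul, β_pow_three, one_pow,
      mul_one, ← B.v_add, ← B.v_add]
  rw [e] at h3
  have key : ∀ (y : V3) (i : Fin 3),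
      y + actR^[i.val] y + actR^[i.val] (actR^[i.val] y) = 0 → i = 0 ∨ vsum y = 0 := by
    decide +kernel
  rcases key x j (B.v_inj (h3.trans (v_zero B).symm)) with rfl | hs
  · left
    simpa using mem B x
  · exact Or.inr (mul_mem ((B.v_mem_R x).2 hs) (pow_mem B.β_mem _))

/-- `C(a)` carries `R` into `J`. -/
theorem R_to_J {r : G} (hr : r ∈ B.R) :
    ∃ c ∈ centralizer ({B.v zV} : Set G), ∃ x, c * r * c⁻¹ = B.v x := by
  obtain ⟨y, j, hy, rfl⟩ := R_form B hr
  rcases eq_or_ne j 0 with rfl | hj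
  · exact ⟨1, one_mem _, y, by simp⟩
  have key : ∀ (z : V3) (k : Fin 3), vsum z = 0 → k ≠ 0 → ∃ (i : Fin 3) (s : ZMod 3),
      z + i.val • (eV - actR^[k.val] eV) = (s, s, s) := by decide +kernel
  obtain ⟨i, s, hs⟩ := key y j hy hj
  have he : ∀ i : ℕ, B.v eV ^ i = B.v (i • eV) := fun i => by
    induction i with
    | zero => simp [v_zero]
    | succ n ih => rw [pow_succ, ih, succ_nsmul, B.v_add]
  have e1 : B.v eV ^ i.val * (B.v y * B.β ^ j.val) * (B.v eV ^ i.val)⁻¹ =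
      B.v (s, s, s) * B.β ^ j.val := by
    rw [he, ← v_neg]
    calc B.v (i.val • eV) * (B.v y * B.β ^ j.val) * B.v (-(i.val • eV))
        = B.v (i.val • eV) * B.v y * (B.β ^ j.val * B.v (-(i.val • eV)) * (B.β ^ j.val)⁻¹) *
            B.β ^ j.val := by group
      _ = B.v (i.val • eV + y + actR^[j.val] (-(i.val • eV))) * B.β ^ j.val := by
          rw [conj_β_pow, B.v_add, B.v_add]
      _ = _ := by
          congr 2
          rw [← hs]
          have key2 : ∀ (z : V3) (i' k : Fin 3), i'.val • eV + z + actR^[k.val] (-(i'.val • eV)) =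
              z + i'.val • (eV - actR^[k.val] eV) := by decide +kernel
          exact key2 y i j
  have hq1 : B.q⁻¹ * B.β * B.q = B.v gV := by rw [← B.q_gV]; group
  have hqs : B.q⁻¹ * B.v (s, s, s) * B.q = B.v (s, s, s) := by
    have hs' : ∀ t : ZMod 3, ((t, t, t) : V3) = t.val • zV := by decide +kernel
    rw [hs' s]
    generalize s.val = n
    induction n with
    | zero => simp [v_zero]
    | succ n ih =>
      rw [succ_nsmul, B.v_add]
      calc B.q⁻¹ * (B.v (n • zV) * B.v zV) * B.q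
          = B.q⁻¹ * B.v (n • zV) * (B.v zV * B.q) := by group
        _ = B.q⁻¹ * B.v (n • zV) * (B.q * B.v zV) := by rw [B.q_a]
        _ = B.q⁻¹ * B.v (n • zV) * B.q * B.v zV := by group
        _ = _ := by rw [ih]
  refine ⟨B.q⁻¹ * B.v eV ^ i.val, ?_, (s, s, s) + j.val • gV, ?_⟩
  · refine mul_mem (inv_mem ((mem_cent B).2 B.q_a)) (pow_mem (J_le_cent B (mem B _)) _)
  · have hg : ∀ n : ℕ, B.q⁻¹ * B.β ^ n * B.q = B.v (n • gV) := fun n => by
      induction n with
      | zero => simp [v_zero]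
      | succ n ih =>
        rw [succ_nsmul, B.v_add, ← ih, ← hq1, pow_succ]
        group
    rw [B.v_add, ← hqs, ← hg]
    calc B.q⁻¹ * B.v eV ^ i.val * (B.v y * B.β ^ j.val) * (B.q⁻¹ * B.v eV ^ i.val)⁻¹
        = B.q⁻¹ * (B.v eV ^ i.val * (B.v y * B.β ^ j.val) * (B.v eV ^ i.val)⁻¹) * B.q := by group
      _ = B.q⁻¹ * (B.v (s, s, s) * B.β ^ j.val) * B.q := by rw [e1]
      _ = _ := by group

theorem to_J {g : G} (hg : g ∈ SS B) (h3 : g ^ 3 = 1) :
    ∃ c ∈ centralizer ({B.v zV} : Set G), ∃ x, c * g * c⁻¹ = B.v x := by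
  rcases mem_J_or_R B hg h3 with h | h
  · obtain ⟨x, rfl⟩ := (B.mem_J g).1 h
    exact ⟨1, one_mem _, x, by simp⟩
  · exact R_to_J B h

variable [Finite G]

theorem card_SS : Nat.card (SS B) = 81 := by
  have : Fact (Nat.Prime 3) := ⟨Nat.prime_three⟩
  obtain ⟨n, hn⟩ := IsPGroup.iff_card.1
    (show IsPGroup 3 (SS B) from (J_pgroup B).to_sup_of_normal_right' (R_pgroup B) (J_le_normR B))
  have h4 : n < 5 := by
    by_contra h
    exact B.sylow (((show 3 ^ 5 ∣ 3 ^ n from pow_dvd_pow 3 (by omega)).trans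
      (hn ▸ card_subgroup_dvd_card (SS B))))
  have hlt : 27 < Nat.card (SS B) := by
    rw [← card_J B]
    refine lt_of_le_of_ne (Nat.le_of_dvd Nat.card_pos (card_dvd_of_le (J_le_SS B))) fun e => ?_
    have hJ := eq_of_le_of_card_ge (J_le_SS B) e.ge
    obtain ⟨x, hx⟩ := (B.mem_J _).1 (hJ.symm.le (R_le_SS B B.β_mem))
    have h2 : B.β * B.v eV * B.β⁻¹ = B.v eV := by rw [← hx, v_comm B x eV, mul_inv_cancel_right]
    rw [B.conj_β] at h2
    exact absurd (B.v_inj h2) (by decide +kernel)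
  rw [hn] at hlt ⊢
  interval_cases n <;> norm_num at hlt <;> norm_num

theorem not_dvd_index_SS : ¬ 3 ∣ (SS B).index := fun h => B.sylow (by
  rw [← (SS B).card_mul_index, card_SS]
  obtain ⟨k, hk⟩ := h
  exact ⟨k, by rw [hk]; ring⟩)

/-- `S` as a Sylow subgroup. -/
theorem exists_sylow [Fact (Nat.Prime 3)] : ∃ P : Sylow 3 G, (P : Subgroup G) = SS B :=
  ⟨(IsPGroup.of_card (n := 4) (card_SS B)).toSylow (not_dvd_index_SS B), rfl⟩

/-- The centralizer of `S` is `⟨a⟩`. -/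
theorem cent_SS {g : G} (hg : ∀ s ∈ SS B, g * s = s * g) :
    g = 1 ∨ g = B.v zV ∨ g = B.v (-zV) := by
  have hJ : g ∈ centralizer (B.J : Set G) :=
    mem_centralizer_iff.2 fun s hs => (hg s (J_le_SS B hs)).symm
  rw [B.cent_J] at hJ
  obtain ⟨x, rfl⟩ := (B.mem_J g).1 hJ
  have h : B.β * B.v x * B.β⁻¹ = B.v x := by
    rw [← hg B.β (R_le_SS B B.β_mem), mul_inv_cancel_right]
  rw [B.conj_β] at h
  have key : ∀ y : V3, actR y = y → y = 0 ∨ y = zV ∨ y = -zV := by decide +kernel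
  rcases key x (B.v_inj h) with rfl | rfl | rfl
  · exact Or.inl (v_zero B)
  · exact Or.inr (Or.inl rfl)
  · exact Or.inr (Or.inr rfl)

/-- All of `N(J)` maps `a` to `a^±1`. -/
def Pm : Prop := ∀ n ∈ normalizer (B.J : Set G),
  n * B.v zV * n⁻¹ = B.v zV ∨ n * B.v zV * n⁻¹ = B.v (-zV)

variable {B}

/-- The action of an element of `N(J)`. -/
theorem code (hB : Pm B) {n : G} (hn : n ∈ normalizer (B.J : Set G)) :
    ∃ k : K8, (act8 k zV = zV ∨ act8 k zV = -zV) ∧ ∀ x, n * B.v x * n⁻¹ = B.v (act8 k x) := by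
  obtain ⟨k, hk⟩ := B.monomial n hn
  refine ⟨k, ?_, hk⟩
  have h := hB n hn
  rw [hk] at h
  exact h.imp (fun h => B.v_inj h) (fun h => B.v_inj h)

/-- Weak closure of `⟨a⟩` in `S`. -/
theorem weak (hB : Pm B) {g : G} (hg : g * B.v zV * g⁻¹ ∈ SS B) :
    g * B.v zV * g⁻¹ = B.v zV ∨ g * B.v zV * g⁻¹ = B.v (-zV) := by
  obtain ⟨c, hc, x, hx⟩ := to_J B hg (by rw [conj_pow, v_cube, mul_one, mul_inv_cancel])
  obtain ⟨n, hn, hnx⟩ := B.fusion zV x (isConj_iff.2 ⟨c * g, by rw [← hx]; group⟩)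
  have key : g * B.v zV * g⁻¹ = c⁻¹ * B.v x * c := by rw [← hx]; group
  have hcz : c⁻¹ * B.v zV * c = B.v zV := by
    rw [mul_assoc, ← (mem_cent B).1 hc, inv_mul_cancel_left]
  rw [key, ← hnx]
  rcases hB n hn with h | h <;> rw [h]
  · exact Or.inl hcz
  · right
    rw [v_neg]
    calc c⁻¹ * (B.v zV)⁻¹ * c = (c⁻¹ * B.v zV * c)⁻¹ := by group
      _ = _ := by rw [hcz]

theorem mem_normalizer_zpowers_iff {g : G} :
    g ∈ normalizer (zpowers (B.v zV) : Set G) ↔
      g * B.v zV * g⁻¹ = B.v zV ∨ g * B.v zV * g⁻¹ = B.v (-zV) := by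
  constructor
  · intro hg
    obtain ⟨i, hi⟩ := mem_zpowers_iff.1 ((mem_normalizer_iff.1 hg _).1 (mem_zpowers (B.v zV)))
    rw [← zpow_mod_orderOf, orderOf_v B zV_ne] at hi
    rcases (show i % 3 = 0 ∨ i % 3 = 1 ∨ i % 3 = 2 by omega) with e | e | e <;>
      (push_cast at hi; rw [e] at hi)
    · rw [zpow_zero, eq_comm, conj_eq_one_iff] at hi
      exact absurd hi (v_ne B zV_ne)
    · rw [zpow_one] at hi; exact Or.inl hi.symm
    · right
      rw [show (2 : ℤ) = ((2 : ℕ) : ℤ) from rfl, zpow_natCast, pow_two, ← B.v_add] at hi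
      rw [← hi]
      congr 1
      try decide +kernel
  · intro h
    refine mem_normalizer_iff_map_conj_eq.2 ?_
    rw [MonoidHom.map_zpowers]
    rcases h with h | h
    · exact congrArg zpowers h
    · exact (congrArg zpowers (h.trans (v_neg B zV))).trans zpowers_inv

theorem normalizer_J_le (hB : Pm B) :
    normalizer (B.J : Set G) ≤ normalizer (zpowers (B.v zV) : Set G) := fun n hn =>
  mem_normalizer_zpowers_iff.2 (hB n hn)

theorem cent_le_normalizer :
    centralizer ({B.v zV} : Set G) ≤ normalizer (zpowers (B.v zV) : Set G) := fun n hn =>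
  mem_normalizer_zpowers_iff.2 (Or.inl (by rw [(mem_cent B).1 hn, mul_inv_cancel_right]))

/-- `N(⟨a⟩)` controls the fusion in `S`. -/
theorem control (hB : Pm B) [Fact (Nat.Prime 3)] (P : Sylow 3 G) (hP : (P : Subgroup G) = SS B)
    {x g : G} (hx : x ∈ SS B) (hg : g * x * g⁻¹ ∈ SS B) :
    ∃ n ∈ normalizer (zpowers (B.v zV) : Set G), n * x * n⁻¹ = g * x * g⁻¹ := by
  have hZ : zpowers (B.v zV) ≤ centralizer ((P : Subgroup G) : Set G) := by
    rw [zpowers_le, hP]
    exact mem_centralizer_iff.2 fun s hs => (mem_cent B).1 (SS_le_cent B hs)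
  have hW : Cfsg.IsWeaklyClosed (zpowers (B.v zV)) (P : Subgroup G) := by
    refine ⟨zpowers_le.2 (hP.ge (J_le_SS B (mem B _))), fun g' hle => ?_⟩
    refine mem_normalizer_iff_map_conj_eq.1 (mem_normalizer_zpowers_iff.2 (weak hB ?_))
    exact hP.le (hle ⟨B.v zV, mem_zpowers _, rfl⟩)
  obtain ⟨n, hn, h⟩ := Transfer.exists_mem_normalizer_conj_of_isWeaklyClosed P hZ hW
    (A := {x}) (by simpa [hP] using hx) (g := g) (by simpa [hP] using hg)
  exact ⟨n, hn, h x rfl⟩

end CfsgLib.SpSixThree.Small
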