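import Cfsg.Agent.Lib.SpSixThree.SmallBase
import Cfsg.Agent.Lib.PSpAmalgam.Small
import Cfsg.Agent.Lib.OddOrder.PLengthOne
import Cfsg.Agent.Lib.Transfer.NormalPComplement
import Cfsg.Agent.Lib.Base.Transport
import Cfsg.Agent.S3347

/-!
# The central sign (statement S3342): the centralizers of the elements of order three

For `x ∈ J` outside `⟨a⟩`, `C(x)` is transferred onto the fixed part of its stabiliser in `N(J)`.
The kernel has a self-centralising element of order three, or is handled by S3347; in both cases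
`C(x) ≤ N(J)`.
-/

set_option autoImplicit false
set_option linter.unusedSectionVars false

namespace CfsgLib.SpSixThree.Small

open Subgroup
open CfsgLib.PSpAmalgam (V3 zV eV fV gV zV' actR actS)

universe u

/-- No element of `N(J)` brings another vector to `±a`. -/
theorem key_zV : ∀ (k : K8) (x : V3), (act8 k zV = zV ∨ act8 k zV = -zV) →
    (act8 k x = zV ∨ act8 k x = -zV) → x = zV ∨ x = -zV := by decide +kernel

theorem reps_ne : ∀ x ∈ [eV, fV, zV'], x ≠ 0 ∧ x ≠ zV ∧ x ≠ -zV := by decide +kernel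

theorem gV_ne : (gV : V3) ≠ 0 ∧ (gV : V3) ≠ zV ∧ (gV : V3) ≠ -zV := by decide +kernel

/-- The stabiliser of a plane through `(0,1,2)`. -/
theorem key_plane : ∀ k : K8, ∀ x ∈ [eV, fV, zV'], (act8 k zV = zV ∨ act8 k zV = -zV) →
    act8 k x = x → act8 k gV = gV → act8 k eV = eV ∧ act8 k (0, 1, 0) = (0, 1, 0) ∧
      act8 k (0, 0, 1) = (0, 0, 1) := by decide +kernel

theorem act8_id : ∀ k : K8, act8 k eV = eV → act8 k (0, 1, 0) = (0, 1, 0) →
    act8 k (0, 0, 1) = (0, 0, 1) → ∀ y, act8 k y = y := by decide +kernel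

theorem key_gV : ∀ k : K8, (act8 k zV = zV ∨ act8 k zV = -zV) → act8 k gV = gV →
    (∀ y, act8 k y - actS (act8 k y) = y - actS y) ∧
    ((∀ y : V3, y - actS y = 0 → act8 k y = y) ∨
      ∀ y : V3, y - actS y = 0 → act8 k y = -y) := by decide +kernel

theorem sub_actS_add : ∀ y z : V3, y + z - actS (y + z) = y - actS y + (z - actS z) := by
  decide +kernel

theorem split_gV : ∀ y : V3, ∃ w : V3, w - actS w = 0 ∧
    (y = w ∨ y = w + gV ∨ y = w + -gV) := by decide +kernel

theorem fixed_mem : ∀ p : ZMod 3 × ZMod 3,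
    ((p.1, p.2, p.2) : V3) - actS (p.1, p.2, p.2) = 0 := by decide +kernel

/-- An abelian Sylow 3-subgroup of exponent three and order at least nine, inverted by an
involution, with no other automorphisms induced: a factorisation. -/
theorem core_mul_normalizer {K : Type u} [Group K] [Finite K] [Fact (Nat.Prime 3)] (T : Sylow 3 K)
    (hab : ∀ x ∈ (T : Subgroup K), ∀ y ∈ (T : Subgroup K), x * y = y * x)
    (hexp : ∀ x ∈ (T : Subgroup K), x ^ 3 = 1) (h9 : 9 ≤ Nat.card (T : Subgroup K)) (i : K)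
    (hi : i * i = 1) (hinv : ∀ x ∈ (T : Subgroup K), i * x * i⁻¹ = x⁻¹)
    (hact : ∀ n ∈ normalizer ((T : Subgroup K) : Set K),
      (∀ x ∈ (T : Subgroup K), n * x * n⁻¹ = x) ∨ ∀ x ∈ (T : Subgroup K), n * x * n⁻¹ = x⁻¹)
    (h : K) : ∃ o ∈ Cfsg.pPrimeCore 3 K, ∃ n ∈ normalizer ((T : Subgroup K) : Set K), h = n * o := by
  have hab' : IsMulCommutative (T : Subgroup K) :=
    ⟨⟨fun x y => Subtype.ext (hab x x.2 y y.2)⟩⟩
  have hnc : ¬ IsCyclic (T : Subgroup K) := by
    intro hcyc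
    obtain ⟨g, hg⟩ := IsCyclic.exists_generator (α := (T : Subgroup K))
    rw [← orderOf_eq_card_of_forall_mem_zpowers hg] at h9
    have := Nat.le_of_dvd (by norm_num)
      (orderOf_dvd_of_pow_eq_one (Subtype.ext (hexp g g.2) : g ^ 3 = 1))
    omega
  have hiN : i ∈ normalizer ((T : Subgroup K) : Set K) :=
    mem_normalizer_fintype fun x hx => (hinv x hx).symm ▸ inv_mem hx
  obtain ⟨z, hz, hz1⟩ : ∃ z ∈ (T : Subgroup K), z ≠ 1 := by
    by_contra hcon
    push Not at hcon
    have : (T : Subgroup K) = ⊥ := (eq_bot_iff_forall _).2 hcon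
    rw [this, card_bot] at h9
    omega
  have hzz : z⁻¹ ≠ z := fun e => hz1 (by
    have h2 : z * z = 1 := by nth_rewrite 1 [← e]; exact inv_mul_cancel z
    calc z = z ^ 3 := by rw [pow_succ, pow_two, h2, one_mul]
      _ = 1 := hexp z hz)
  have hcen : ∀ n : K, n ∈ centralizer ((T : Subgroup K) : Set K) ↔
      ∀ x ∈ (T : Subgroup K), n * x * n⁻¹ = x := fun n => by
    rw [mem_centralizer_iff]
    exact forall₂_congr fun x _ => ⟨fun e => by rw [← e, mul_inv_cancel_right],
      fun e => by nth_rewrite 1 [← e]; group⟩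
  have hidx : ((centralizer ((T : Subgroup K) : Set K)).subgroupOf
      (normalizer ((T : Subgroup K) : Set K))).index = 2 := by
    rw [index_eq_two_iff']
    refine ⟨⟨i, hiN⟩, fun b => ?_⟩
    simp only [mem_subgroupOf, coe_mul]
    rw [xor_iff_iff_not]
    constructor
    · intro h1 h2
      have h3 := (hcen _).1 (by simpa using mul_mem h1 (inv_mem h2) :
        i ∈ centralizer ((T : Subgroup K) : Set K)) z hz
      exact hzz ((hinv z hz).symm.trans h3)
    · intro h2
      refine (hcen _).2 fun x hx => ?_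
      rcases hact b b.2 with h3 | h3
      · exact absurd ((hcen _).2 h3) h2
      · calc i * (b : K) * x * (i * (b : K))⁻¹ = i * ((b : K) * x * (b : K)⁻¹) * i⁻¹ := by group
          _ = x := by rw [h3 x hx, hinv _ (inv_mem hx), inv_inv]
  have hres : Cfsg.pResidual 3 K = ⊤ := by
    have hWn : (Cfsg.pResidual 3 K).Normal := Transfer.pResidual_normal
    have hiW : i ∈ Cfsg.pResidual 3 K := Transfer.mem_pResidual_of_coprime
      (Nat.Coprime.coprime_dvd_left (orderOf_dvd_of_pow_eq_one (by rw [pow_two, hi]))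
        (by norm_num))
    have hTW : (T : Subgroup K) ≤ Cfsg.pResidual 3 K := fun x hx => by
      have h1 : x * i * x⁻¹ * i⁻¹ ∈ Cfsg.pResidual 3 K :=
        mul_mem (hWn.conj_mem i hiW x) (inv_mem hiW)
      rw [show x * i * x⁻¹ * i⁻¹ = x * (i * x⁻¹ * i⁻¹) by group, hinv _ (inv_mem hx),
        inv_inv] at h1
      have e : x = (x * x) * (x * x) := by
        calc x = x ^ 3 * x := by rw [hexp x hx, one_mul]
          _ = _ := by rw [pow_succ, pow_two]; group
      rw [e]; exact mul_mem h1 h1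
    obtain ⟨k, hk⟩ := Transfer.exists_index_pResidual (G := K) (p := 3)
    rcases Nat.eq_zero_or_pos k with h0 | h0
    · exact index_eq_one.1 (by rw [hk, h0, pow_zero])
    · exact absurd (((dvd_pow_self 3 h0.ne').trans hk.symm.dvd).trans (index_dvd_of_le hTW))
        T.not_dvd_index
  have hlen : Cfsg.PLengthLE 3 1 K :=
    (Cfsg.Agent.S3347.result 3 (by norm_num) T hab' hnc hidx).resolve_left (not_not.2 hres)
  have h1 := CfsgLib.OddOrder.map_le_pCore_quotient hlen T.isPGroup'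
  set π := QuotientGroup.mk' (Cfsg.pPrimeCore 3 K)
  have heq : (T : Subgroup K).map π = Cfsg.pCore 3 (K ⧸ Cfsg.pPrimeCore 3 K) :=
    le_antisymm h1 (CfsgLib.Base.pCore_le_sylow (T.mapSurjective (QuotientGroup.mk'_surjective _)))
  set Q := (T : Subgroup K) ⊔ Cfsg.pPrimeCore 3 K with hQ
  have hQn : Q.Normal := by
    have : (Cfsg.pCore 3 (K ⧸ Cfsg.pPrimeCore 3 K)).Normal := Cfsg.pCore_normal 3 _
    rw [hQ, ← QuotientGroup.ker_mk' (Cfsg.pPrimeCore 3 K), ← comap_map_eq, heq]
    infer_instance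
  have htop := Sylow.normalizer_sup_eq_top' (N := Q) T le_sup_left
  have hle : normalizer ((T : Subgroup K) : Set K) ⊔ Cfsg.pPrimeCore 3 K = ⊤ := by
    refine top_le_iff.1 (htop.ge.trans (sup_le le_sup_left (sup_le (le_trans ?_ le_sup_left)
      le_sup_right)))
    exact le_normalizer
  obtain ⟨n, hn, o, ho, e⟩ := mem_sup_of_normal_right.1 (hle.ge (mem_top h))
  exact ⟨o, ho, n, hn, e.symm⟩

variable {G : Type u} [Group G] [Finite G] {B : Base G}

/-- Outside `⟨a⟩` no centralizer has order divisible by 81. -/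
theorem not_81 (hB : Pm B) {x : V3} (hx : x ≠ 0 ∧ x ≠ zV ∧ x ≠ -zV) :
    ¬ 81 ∣ Nat.card (centralizer ({B.v x} : Set G)) := by
  intro h
  have : Fact (Nat.Prime 3) := ⟨Nat.prime_three⟩
  obtain ⟨P, hP⟩ := exists_sylow B
  obtain ⟨U, hU⟩ := Sylow.exists_subgroup_card_pow_prime 3 (n := 4) h
  obtain ⟨g, -, hg⟩ := Transfer.exists_conj_le_of_isPGroup (p := 3) (K := (⊤ : Subgroup G))
    (U := SS B) (V := U.map (centralizer ({B.v x} : Set G)).subtype)
    (IsPGroup.of_card (n := 4) (card_SS B)) le_top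
    (by rw [relIndex_top_right]; exact not_dvd_index_SS B)
    ((IsPGroup.of_card hU).map _) le_top
  set V := U.map (centralizer ({B.v x} : Set G)).subtype with hV
  have hcardV : Nat.card V = 81 := by
    rw [hV, card_subtype, hU]; norm_num
  have hsurj : ∀ s ∈ SS B, ∃ v ∈ V, g⁻¹ * v * g = s := by
    intro s hs
    let f : V → SS B := fun v => ⟨g⁻¹ * v * g, hg v v.2⟩
    have hf : Function.Injective f := fun a b e => Subtype.ext (by
      have e' : g⁻¹ * (a : G) * g = g⁻¹ * (b : G) * g := congrArg Subtype.val e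
      simpa using e')
    obtain ⟨v, hv⟩ := (hf.bijective_of_nat_card_le (by rw [hcardV, card_SS])).2 ⟨s, hs⟩
    exact ⟨v, v.2, congrArg Subtype.val hv⟩
  have hy : ∀ s ∈ SS B, g⁻¹ * B.v x * g * s = s * (g⁻¹ * B.v x * g) := by
    intro s hs
    obtain ⟨v, ⟨u, -, rfl⟩, rfl⟩ := hsurj s hs
    have hu : (u : G) * B.v x = B.v x * u := mem_centralizer_singleton_iff.1 u.2
    calc g⁻¹ * B.v x * g * (g⁻¹ * (u : G) * g) = g⁻¹ * (B.v x * u) * g := by group
      _ = g⁻¹ * (u * B.v x) * g := by rw [hu]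
      _ = _ := by simp only [coe_subtype]; group
  have hconj : ∃ y, (y = zV ∨ y = -zV) ∧ g⁻¹ * B.v x * g = B.v y := by
    rcases cent_SS B hy with e | e | e
    · refine absurd (B.v_inj ((?_ : B.v x = 1).trans (v_zero B).symm)) hx.1
      calc B.v x = g * (g⁻¹ * B.v x * g) * g⁻¹ := by group
        _ = 1 := by rw [e]; group
    · exact ⟨_, Or.inl rfl, e⟩
    · exact ⟨_, Or.inr rfl, e⟩
  obtain ⟨y, hy', e⟩ := hconj
  obtain ⟨n, hn, hne⟩ := B.fusion x y (isConj_iff.2 ⟨g⁻¹, by rw [inv_inv]; exact e⟩)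
  obtain ⟨k, hk, hkv⟩ := code hB hn
  have hkx := B.v_inj ((hkv x).symm.trans hne)
  rcases hy' with rfl | rfl
  · rcases key_zV k x hk (Or.inl hkx) with h | h
    · exact hx.2.1 h
    · exact hx.2.2 h
  · rcases key_zV k x hk (Or.inr hkx) with h | h
    · exact hx.2.1 h
    · exact hx.2.2 h

/-- Transfer onto an invariant part of `J`. -/
theorem exists_kernel (hB : Pm B) {x : V3} (hx : x ≠ 0 ∧ x ≠ zV ∧ x ≠ -zV) {H : Subgroup G}
    (hH : H ≤ centralizer ({B.v x} : Set G)) (hJ : B.J ≤ H) (P : V3 → V3)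
    (hadd : ∀ y z, P (y + z) = P y + P z)
    (hP : ∀ n ∈ H, n ∈ normalizer (B.J : Set G) → ∀ y y',
      n * B.v y * n⁻¹ = B.v y' → P y' = P y) :
    ∃ M : Subgroup G, M ≤ H ∧ H ≤ normalizer (M : Set G) ∧ (∀ y, B.v y ∈ M ↔ P y = 0) ∧
      (∀ h ∈ H, ∃ y, (B.v y)⁻¹ * h ∈ M) ∧
      ∀ T : Subgroup G, IsPGroup 3 T → T ≤ M → Nat.card T ≤ Nat.card ↥(B.J ⊓ M) := by
  have : Fact (Nat.Prime 3) := ⟨Nat.prime_three⟩
  set JH := B.J.subgroupOf H with hJHdef
  have hcard : Nat.card JH = 27 := by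
    rw [hJHdef, Nat.card_congr (subgroupOfEquivOfLe hJ).toEquiv, card_J]
  have hndvd : ¬ 3 ∣ JH.index := fun hd => not_81 hB hx (by
    refine dvd_trans ?_ (card_dvd_of_le hH)
    rw [← JH.card_mul_index, hcard]
    obtain ⟨c, hc⟩ := hd
    exact ⟨c, by rw [hc]; ring⟩)
  let T : Sylow 3 H := (IsPGroup.of_card (n := 3) hcard).toSylow hndvd
  have hc : IsMulCommutative (T : Subgroup H) :=
    ⟨⟨fun a b => Subtype.ext (Subtype.ext (J_comm B _ a.2 _ b.2))⟩⟩
  have hT : ∀ t : (T : Subgroup H), ∃ y, B.v y = ((t : H) : G) := fun t => (B.mem_J _).1 t.2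
  choose w hw using hT
  have hP0 : P 0 = 0 := by
    have h := hadd 0 0
    rw [add_zero] at h
    exact left_eq_add.1 h
  let π : (T : Subgroup H) →* Multiplicative V3 :=
    { toFun := fun t => Multiplicative.ofAdd (P (w t))
      map_one' := by
        have : w 1 = 0 := B.v_inj ((hw 1).trans (v_zero B).symm)
        simp [this, hP0]
      map_mul' := fun a b => by
        have : w (a * b) = w a + w b := B.v_inj (by
          rw [B.v_add, hw, hw, hw]; rfl)
        simp [this, hadd] }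
  have hA : IsPGroup 3 (Multiplicative V3) := IsPGroup.of_card (n := 3) (by simp [V3])
  have hπ : ∀ n : H, n ∈ normalizer ((T : Subgroup H) : Set H) → ∀ a b : (T : Subgroup H),
      (b : H) = n * a * n⁻¹ → π b = π a := by
    intro n hn a b e
    refine congrArg Multiplicative.ofAdd (hP n n.2 ?_ (w a) (w b) ?_)
    · refine mem_normalizer_fintype fun j hj => ?_
      exact (mem_normalizer_iff.1 hn ⟨j, hJ hj⟩).1 hj
    · rw [hw, hw, e]; rfl
  obtain ⟨M, hMn, hMT, hMcov⟩ := PSpAmalgam.exists_transfer_kernel T hc hA π hπ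
  set MG := M.map H.subtype with hMG
  have hMv : ∀ y, B.v y ∈ MG ↔ P y = 0 := fun y => by
    let t : (T : Subgroup H) := ⟨⟨B.v y, hJ (mem B y)⟩, mem B y⟩
    have hwt : w t = y := B.v_inj (hw t)
    have h1 : B.v y ∈ MG ↔ (t : H) ∈ M :=
      ⟨fun ⟨m, hm, e⟩ => by rwa [show (t : H) = m from Subtype.ext e.symm],
        fun h => ⟨_, h, rfl⟩⟩
    rw [h1, hMT]
    show Multiplicative.ofAdd (P (w t)) = 1 ↔ _
    rw [hwt]
    exact ofAdd_eq_one
  refine ⟨MG, map_subtype_le _, fun h hh => ?_, hMv, fun h hh => ?_, fun U hU hUM => ?_⟩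
  · refine mem_normalizer_fintype ?_
    rintro _ ⟨m, hm, rfl⟩
    exact ⟨_, hMn.conj_mem m hm ⟨h, hh⟩, rfl⟩
  · obtain ⟨t, ht⟩ := hMcov ⟨h, hh⟩
    exact ⟨w t, ⟨_, ht, by simp [hw]⟩⟩
  · have hUH : U ≤ H := hUM.trans (map_subtype_le _)
    obtain ⟨k, hk, hkU⟩ := Transfer.exists_conj_le_of_isPGroup (p := 3) (K := H) (U := B.J)
      (J_pgroup B) hJ hndvd hU hUH
    refine Nat.card_le_card_of_injective
      (fun z : U => (⟨k⁻¹ * z * k, hkU z z.2, ?_⟩ : ↥(B.J ⊓ MG))) fun a b e => Subtype.ext ?_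
    · obtain ⟨m, hm, e⟩ := hUM z.2
      refine ⟨_, hMn.conj_mem m hm (⟨k, hk⟩⁻¹), ?_⟩
      rw [inv_inv, map_mul, map_mul, map_inv, show H.subtype m = z from e]
      rfl
    · have e' : k⁻¹ * (a : G) * k = k⁻¹ * (b : G) * k := congrArg Subtype.val e
      simpa using e'

/-- A plane with trivial stabiliser is centralised by `J` only. -/
theorem cent_plane (hB : Pm B) {x : V3} (hx : x ≠ 0 ∧ x ≠ zV ∧ x ≠ -zV) (z : V3)
    (hfix : ∀ k : K8, (act8 k zV = zV ∨ act8 k zV = -zV) → act8 k x = x → act8 k z = z →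
      ∀ y, act8 k y = y) :
    centralizer ({B.v x} : Set G) ⊓ centralizer ({B.v z} : Set G) = B.J := by
  set H := centralizer ({B.v x} : Set G) ⊓ centralizer ({B.v z} : Set G) with hH
  have hJ : B.J ≤ H := fun g hg => ⟨mem_centralizer_singleton_iff.2 (J_comm B g hg _ (mem B _)),
    mem_centralizer_singleton_iff.2 (J_comm B g hg _ (mem B _))⟩
  obtain ⟨M, hMH, hnorm, hMv, hcov, hcard⟩ := exists_kernel hB hx inf_le_left hJ (fun y => y)
    (fun _ _ => rfl) fun n hn hnJ y y' e => by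
      obtain ⟨k, hk, hkv⟩ := code hB hnJ
      have h1 : act8 k x = x := B.v_inj (by
        rw [← hkv, mem_centralizer_singleton_iff.1 hn.1, mul_inv_cancel_right])
      have h2 : act8 k z = z := B.v_inj (by
        rw [← hkv, mem_centralizer_singleton_iff.1 hn.2, mul_inv_cancel_right])
      rw [hkv] at e
      rw [← B.v_inj e, hfix k hk h1 h2 y]
  have hbot : B.J ⊓ M = ⊥ := (eq_bot_iff_forall _).2 fun g ⟨hg, hgM⟩ => by
    obtain ⟨y, rfl⟩ := (B.mem_J g).1 hg
    rw [(hMv y).1 hgM, v_zero]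
  have hcop : (Nat.card M).Coprime 3 := by
    rw [Nat.coprime_comm, Nat.prime_three.coprime_iff_not_dvd]
    intro h3
    have : Fact (Nat.Prime 3) := ⟨Nat.prime_three⟩
    obtain ⟨U, hU⟩ := Sylow.exists_subgroup_card_pow_prime 3 (n := 1) (G := M) (by simpa using h3)
    have h := hcard (U.map M.subtype) ((IsPGroup.of_card hU).map _) (map_subtype_le _)
    rw [hbot, card_bot, card_subtype, hU] at h
    omega
  have hM : M = ⊥ := B.sig M hcop (hJ.trans hnorm)
  refine le_antisymm (fun h hh => ?_) hJ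
  obtain ⟨y, hy⟩ := hcov h hh
  rw [hM, mem_bot] at hy
  rw [← inv_mul_eq_one.1 hy]
  exact mem B y

/-- `C(x) ≤ N(J)` when `σ` fixes `x`. -/
theorem cent_le_of_fixed (hB : Pm B) {x : V3} (hx : x ∈ [eV, fV, zV']) :
    centralizer ({B.v x} : Set G) ≤ normalizer (B.J : Set G) := by
  have hx0 := reps_ne x hx
  have hJ : B.J ≤ centralizer ({B.v x} : Set G) := fun g hg =>
    mem_centralizer_singleton_iff.2 (J_comm B g hg _ (mem B _))
  obtain ⟨M, hMH, hnorm, hMv, hcov, -⟩ := exists_kernel hB hx0 le_rfl hJ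
    (fun y => y + actS y) (fun y z => by
      have key : ∀ y z : V3, y + z + actS (y + z) = y + actS y + (z + actS z) := by
        decide +kernel
      exact key y z)
    fun n hn hnJ y y' e => by
      obtain ⟨k, hk, hkv⟩ := code hB hnJ
      have h1 : act8 k x = x := B.v_inj (by
        rw [← hkv, mem_centralizer_singleton_iff.1 hn, mul_inv_cancel_right])
      rw [hkv] at e
      rw [← B.v_inj e]
      have key : ∀ x ∈ [eV, fV, zV'], ∀ k : K8, (act8 k zV = zV ∨ act8 k zV = -zV) →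
          act8 k x = x → ∀ y, act8 k y + actS (act8 k y) = y + actS y := by decide +kernel
      exact key x hx k hk h1 y
  have hplane := cent_plane hB hx0 gV fun k hk h1 h2 => by
    obtain ⟨e1, e2, e3⟩ := key_plane k x hx hk h1 h2
    exact act8_id k e1 e2 e3
  have hg : B.v gV ∈ M := (hMv gV).2 (by decide +kernel)
  obtain ⟨-, hle⟩ := PSpAmalgam.card_dvd_six (J_pgroup B) B.sig (hJ.trans hnorm) hg
    (orderOf_v B (by decide +kernel)) fun k hk hkg => by
      obtain ⟨y, rfl⟩ := (B.mem_J k).1 (hplane ▸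
        (⟨hMH hk, mem_centralizer_singleton_iff.2 hkg⟩ :
          k ∈ centralizer ({B.v x} : Set G) ⊓ centralizer ({B.v gV} : Set G)))
      have key : ∀ y : V3, y + actS y = 0 → y = 0 ∨ y = gV ∨ y = gV + gV := by decide +kernel
      rcases key y ((hMv y).1 hk) with rfl | rfl | rfl
      · rw [v_zero]; exact one_mem _
      · exact mem_zpowers _
      · rw [B.v_add]; exact mul_mem (mem_zpowers _) (mem_zpowers _)
  have hMJ : M ≤ normalizer (B.J : Set G) := fun m hm => mem_normalizer_fintype fun j hj => by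
    rw [← hplane] at hj ⊢
    refine mem_inf.2 ⟨Subgroup.mul_mem _ (Subgroup.mul_mem _ (hMH hm) (mem_inf.1 hj).1)
      (Subgroup.inv_mem _ (hMH hm)), ?_⟩
    obtain ⟨i, hi⟩ := mem_zpowers_iff.1 ((mem_normalizer_iff''.1 (hle hm) _).1 (mem_zpowers (B.v gV)))
    have hc : Commute j (m⁻¹ * B.v gV * m) :=
      hi ▸ (show Commute j (B.v gV) from mem_centralizer_singleton_iff.1 hj.2).zpow_right i
    refine mem_centralizer_singleton_iff.2 ?_
    calc m * j * m⁻¹ * B.v gV = m * (j * (m⁻¹ * B.v gV * m)) * m⁻¹ := by group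
      _ = m * ((m⁻¹ * B.v gV * m) * j) * m⁻¹ := by rw [hc.eq]
      _ = _ := by group
  intro h hh
  obtain ⟨y, hy⟩ := hcov h hh
  rw [← mul_inv_cancel_left (B.v y) h]
  exact mul_mem (le_normalizer (mem B y)) (hMJ hy)

/-- The centraliser of `(0,1,2)`. -/
theorem cent_gV (hB : Pm B) {d : G} (hd : d * d = 1)
    (hdv : ∀ x, d * B.v x * d⁻¹ = B.v (-x)) (hdσ : d * B.σ = B.σ * d) :
    centralizer ({B.v gV} : Set G) ≤ normalizer (B.J : Set G) := by
  have : Fact (Nat.Prime 3) := ⟨Nat.prime_three⟩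
  have hx0 := gV_ne
  have hJ : B.J ≤ centralizer ({B.v gV} : Set G) := fun g hg =>
    mem_centralizer_singleton_iff.2 (J_comm B g hg _ (mem B _))
  have hstab : ∀ n ∈ normalizer (B.J : Set G), n * B.v gV = B.v gV * n →
      ∃ k : K8, (∀ y, act8 k y - actS (act8 k y) = y - actS y) ∧
        ((∀ y : V3, y - actS y = 0 → act8 k y = y) ∨
          ∀ y : V3, y - actS y = 0 → act8 k y = -y) ∧
        ∀ x, n * B.v x * n⁻¹ = B.v (act8 k x) := by
    intro n hn hng
    obtain ⟨k, hk, hkv⟩ := code hB hn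
    have h1 : act8 k gV = gV := B.v_inj (by rw [← hkv, hng, mul_inv_cancel_right])
    exact ⟨k, (key_gV k hk h1).1, (key_gV k hk h1).2, hkv⟩
  obtain ⟨M, hMH, hnorm, hMv, hcov, hcard⟩ := exists_kernel hB hx0 le_rfl hJ
    (fun y => y - actS y) (fun y z => sub_actS_add y z)
    fun n hn hnJ y y' e => by
      obtain ⟨k, hk1, -, hkv⟩ := hstab n hnJ (mem_centralizer_singleton_iff.1 hn)
      rw [hkv] at e
      rw [← B.v_inj e, hk1]
  -- the involution `t = dσ`
  have htv : ∀ y, d * B.σ * B.v y * (d * B.σ)⁻¹ = B.v (-actS y) := fun y => by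
    rw [← hdv, ← B.conj_σ]; group
  have ht2 : d * B.σ * (d * B.σ) = 1 := by
    calc d * B.σ * (d * B.σ) = d * B.σ * (B.σ * d) := by rw [hdσ]
      _ = d * (B.σ * B.σ) * d := by group
      _ = 1 := by rw [B.σ_sq, mul_one, hd]
  have htH : d * B.σ ∈ centralizer ({B.v gV} : Set G) := by
    rw [mem_centralizer_singleton_iff, ← mul_inv_eq_iff_eq_mul, htv]
    congr 1
  have htJ : d * B.σ ∈ normalizer (B.J : Set G) := mem_normalizer_fintype fun j hj => by
    obtain ⟨y, rfl⟩ := (B.mem_J j).1 hj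
    rw [htv]
    exact mem B _
  have htM : d * B.σ ∈ M := by
    obtain ⟨y, hy⟩ := hcov _ htH
    obtain ⟨m, hm⟩ : ∃ m, m = (B.v y)⁻¹ * (d * B.σ) := ⟨_, rfl⟩
    rw [← hm] at hy
    have e1 : d * B.σ = B.v y * m := by rw [hm, mul_inv_cancel_left]
    have h2 : B.v y * B.v y ∈ M := by
      have hn : (B.v y)⁻¹ * m * B.v y ∈ M :=
        (mem_normalizer_iff''.1 (hnorm (hJ (mem B y))) m).1 hy
      rw [show B.v y * B.v y = (((B.v y)⁻¹ * m * B.v y) * m)⁻¹ from ?_]
      · exact inv_mem (mul_mem hn hy)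
      · refine (inv_eq_of_mul_eq_one_left ?_).symm
        calc B.v y * B.v y * ((B.v y)⁻¹ * m * B.v y * m)
            = B.v y * m * (B.v y * m) := by group
          _ = 1 := by rw [← e1, ht2]
    have h3 : B.v y ∈ M := by
      have h4 := pow_mem h2 2
      rwa [pow_two, show B.v y * B.v y * (B.v y * B.v y) = B.v y ^ 3 * B.v y by
        rw [pow_succ, pow_two]; group, v_cube, one_mul] at h4
    rw [e1]
    exact mul_mem h3 hy
  -- the Sylow subgroup `J ∩ M` of `M`
  have hMJ : M ≤ normalizer (B.J : Set G) := by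
    obtain ⟨T, hT⟩ := (((J_pgroup B).to_le (inf_le_left (b := M))).comap_subtype (K := M)).exists_le_sylow
    have hTeq : ((B.J ⊓ M).subgroupOf M : Subgroup M) = T := by
      refine eq_of_le_of_card_ge hT ?_
      rw [Nat.card_congr (subgroupOfEquivOfLe (inf_le_right : B.J ⊓ M ≤ M)).toEquiv,
        ← card_subtype M (T : Subgroup M)]
      exact hcard _ (T.2.map _) (map_subtype_le _)
    have hmemT : ∀ z : M, z ∈ (T : Subgroup M) ↔ ∃ y : V3, y - actS y = 0 ∧ B.v y = z := by
      intro z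
      rw [← hTeq, mem_subgroupOf]
      constructor
      · rintro ⟨h1, -⟩
        obtain ⟨y, hy⟩ := (B.mem_J _).1 h1
        exact ⟨y, (hMv y).1 (hy ▸ z.2), hy⟩
      · rintro ⟨y, -, hy⟩
        exact ⟨hy ▸ mem B y, z.2⟩
    let i : M := ⟨d * B.σ, htM⟩
    have hinv : ∀ z ∈ (T : Subgroup M), i * z * i⁻¹ = z⁻¹ := fun z hz => by
      obtain ⟨y, hy0, hy⟩ := (hmemT z).1 hz
      refine Subtype.ext ?_
      show d * B.σ * (z : G) * (d * B.σ)⁻¹ = (z : G)⁻¹
      rw [← hy, htv, ← v_neg]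
      congr 2
      exact (sub_eq_zero.1 hy0).symm
    have hNJ : ∀ n ∈ normalizer ((T : Subgroup M) : Set M),
        (n : G) ∈ normalizer (B.J : Set G) := by
      intro n hn
      refine mem_normalizer_fintype fun j hj => ?_
      obtain ⟨y, rfl⟩ := (B.mem_J j).1 hj
      obtain ⟨w, hw, hyw⟩ := split_gV y
      have h1 : (n : G) * B.v w * (n : G)⁻¹ ∈ B.J := by
        obtain ⟨y', -, hy'⟩ := (hmemT _).1
          ((mem_normalizer_iff.1 hn ⟨B.v w, (hMv w).2 hw⟩).1 ((hmemT _).2 ⟨w, hw, rfl⟩))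
        exact (B.mem_J _).2 ⟨y', hy'⟩
      have hng : (n : G) * B.v gV = B.v gV * n := mem_centralizer_singleton_iff.1 (hMH n.2)
      have h2 : (n : G) * B.v gV * (n : G)⁻¹ ∈ B.J := by
        rw [hng, mul_inv_cancel_right]; exact mem B _
      rcases hyw with rfl | rfl | rfl
      · exact h1
      · rw [B.v_add, show (n : G) * (B.v w * B.v gV) * (n : G)⁻¹ =
          ((n : G) * B.v w * (n : G)⁻¹) * ((n : G) * B.v gV * (n : G)⁻¹) by group]
        exact mul_mem h1 h2
      · rw [B.v_add, v_neg, show (n : G) * (B.v w * (B.v gV)⁻¹) * (n : G)⁻¹ =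
          ((n : G) * B.v w * (n : G)⁻¹) * ((n : G) * B.v gV * (n : G)⁻¹)⁻¹ by group]
        exact mul_mem h1 (inv_mem h2)
    intro m hm
    obtain ⟨o, ho, n, hn, e⟩ := core_mul_normalizer T
      (fun a ha b hb => Subtype.ext (by
        obtain ⟨y, -, hy⟩ := (hmemT a).1 ha
        obtain ⟨y', -, hy'⟩ := (hmemT b).1 hb
        show (a : G) * b = b * a
        rw [← hy, ← hy', v_comm]))
      (fun a ha => Subtype.ext (by
        obtain ⟨y, -, hy⟩ := (hmemT a).1 ha
        show (a : G) ^ 3 = 1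
        rw [← hy, v_cube]))
      (by
        refine le_trans (by simp) (Nat.card_le_card_of_injective
          (fun p : ZMod 3 × ZMod 3 => (⟨⟨B.v (p.1, p.2, p.2), (hMv _).2 (fixed_mem p)⟩,
            (hmemT _).2 ⟨_, fixed_mem p, rfl⟩⟩ : (T : Subgroup M))) fun p p' e => ?_)
        have e' := B.v_inj (congrArg (fun z : (T : Subgroup M) => ((z : M) : G)) e)
        exact Prod.ext (congrArg (fun t : V3 => t.1) e') (congrArg (fun t : V3 => t.2.1) e'))
      i (Subtype.ext ht2) hinv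
      (fun n hn => by
        obtain ⟨k, -, hk, hkv⟩ := hstab n (hNJ n hn) (mem_centralizer_singleton_iff.1 (hMH n.2))
        rcases hk with hk | hk
        · refine Or.inl fun z hz => Subtype.ext ?_
          obtain ⟨y, hy0, hy⟩ := (hmemT z).1 hz
          show (n : G) * z * (n : G)⁻¹ = z
          rw [← hy, hkv, hk y hy0]
        · refine Or.inr fun z hz => Subtype.ext ?_
          obtain ⟨y, hy0, hy⟩ := (hmemT z).1 hz
          show (n : G) * z * (n : G)⁻¹ = (z : G)⁻¹
          rw [← hy, hkv, hk y hy0, v_neg]) ⟨m, hm⟩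
    have hW : (Cfsg.pPrimeCore 3 M).map M.subtype = ⊥ := B.sig _
      (by rw [card_subtype]; exact CfsgLib.Base.pPrimeCore_coprime 3 M)
      ((hJ.trans hnorm).trans (CfsgLib.Base.normalizer_le_normalizer_map_subtype M _))
    rw [map_eq_bot_iff_of_injective _ M.subtype_injective] at hW
    rw [hW, mem_bot] at ho
    rw [ho, mul_one] at e
    have e' : m = ((n : M) : G) := congrArg Subtype.val e
    rw [e']
    exact hNJ n hn
  intro h hh
  obtain ⟨y, hy⟩ := hcov h hh
  rw [← mul_inv_cancel_left (B.v y) h]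
  exact mul_mem (le_normalizer (mem B y)) (hMJ hy)

/-- The centralizers of the elements of `J` lie in `N(⟨a⟩)`. -/
theorem cent_le (hB : Pm B) {d : G} (hd : d * d = 1)
    (hdv : ∀ x, d * B.v x * d⁻¹ = B.v (-x)) (hdσ : d * B.σ = B.σ * d) {x : V3} (hx : x ≠ 0) :
    centralizer ({B.v x} : Set G) ≤ normalizer (zpowers (B.v zV) : Set G) := by
  have hrep : ∀ r ∈ [zV, eV, fV, zV', gV],
      centralizer ({B.v r} : Set G) ≤ normalizer (zpowers (B.v zV) : Set G) := by
    intro r hr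
    rcases List.mem_cons.1 hr with rfl | hr
    · exact cent_le_normalizer
    by_cases hg : r = gV
    · subst hg
      exact (cent_gV hB hd hdv hdσ).trans (normalizer_J_le hB)
    · refine (cent_le_of_fixed hB ?_).trans (normalizer_J_le hB)
      simp only [List.mem_cons, List.not_mem_nil, or_false] at hr ⊢
      tauto
  have key : ∀ x : V3, x ≠ 0 → ∃ (j : Fin 3) (s : Fin 2),
      actR^[j.val] (if s.val = 0 then x else -x) ∈ [zV, eV, fV, zV', gV] := by decide +kernel
  obtain ⟨j, s, hmem⟩ := key x hx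
  obtain ⟨n, hn, hnx⟩ : ∃ n ∈ normalizer (B.J : Set G),
      n * B.v x * n⁻¹ = B.v (actR^[j.val] (if s.val = 0 then x else -x)) := by
    have hβ : B.β ^ j.val ∈ normalizer (B.J : Set G) := mem_normalizer_fintype fun g hg => by
      obtain ⟨y, rfl⟩ := (B.mem_J g).1 hg
      rw [conj_β_pow]; exact mem B _
    have hdJ : d ∈ normalizer (B.J : Set G) := mem_normalizer_fintype fun g hg => by
      obtain ⟨y, rfl⟩ := (B.mem_J g).1 hg
      rw [hdv]; exact mem B _
    by_cases hs : s.val = 0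
    · exact ⟨_, hβ, by rw [if_pos hs, conj_β_pow]⟩
    · refine ⟨_, mul_mem hβ hdJ, ?_⟩
      rw [if_neg hs, ← conj_β_pow, ← hdv]
      group
  intro c hc
  have hnN := normalizer_J_le hB hn
  have h1 : n * c * n⁻¹ ∈ normalizer (zpowers (B.v zV) : Set G) := by
    refine hrep _ hmem (mem_centralizer_singleton_iff.2 ?_)
    rw [← hnx]
    calc n * c * n⁻¹ * (n * B.v x * n⁻¹) = n * (c * B.v x) * n⁻¹ := by group
      _ = n * (B.v x * c) * n⁻¹ := by rw [mem_centralizer_singleton_iff.1 hc]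
      _ = _ := by group
  simpa [mul_assoc] using mul_mem (mul_mem (inv_mem hnN) h1) hnN

end CfsgLib.SpSixThree.Small
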