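import Cfsg.Agent.Lib.SpSixThree.SmallBase
import Cfsg.Agent.Lib.Chars.Burnside

/-!
# No sign (statement S3342): a normal subgroup of index three

`⟨a⟩` is weakly closed, so `C(a)` controls the fusion in `S`; as `C(a)` is solvable and generated
by its elements of order three, `S ⊄ G'`.
-/

set_option autoImplicit false

namespace CfsgLib.SpSixThree

open Subgroup
open CfsgLib.PSpAmalgam (V3 zV eV fV gV)

universe u

namespace Small

theorem zV_ne_neg : (zV : V3) ≠ -zV := by decide +kernel

/-- A finite abelian group with an element of order three has a subgroup of index three. -/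
theorem exists_index_three {A : Type*} [CommGroup A] [Finite A] {x : A} (hx : orderOf x = 3) :
    ∃ H : Subgroup A, H.index = 3 := by
  have : Fact (Nat.Prime 3) := ⟨Nat.prime_three⟩
  set f : A →* A := powMonoidHom 3 with hf
  have hq : IsPGroup 3 (A ⧸ f.range) := fun q => by
    obtain ⟨y, rfl⟩ := QuotientGroup.mk_surjective q
    exact ⟨1, by
      rw [pow_one, ← QuotientGroup.mk_pow, QuotientGroup.eq_one_iff]
      exact ⟨y, rfl⟩⟩
  obtain ⟨n, hn⟩ := IsPGroup.iff_card.1 hq
  rcases n with _ | n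
  · exfalso
    have htop : f.range = ⊤ := index_eq_one.1 (by rw [index_eq_card, hn, pow_zero])
    have hinj := (Finite.injective_iff_surjective (f := f)).2 (MonoidHom.range_eq_top.1 htop)
    have : x = 1 := hinj (by
      show x ^ 3 = (1 : A) ^ 3
      rw [← hx, pow_orderOf_eq_one, one_pow])
    rw [this, orderOf_one] at hx
    omega
  · obtain ⟨K, hK⟩ := Sylow.exists_subgroup_card_pow_prime 3 (n := n)
      (hn ▸ pow_dvd_pow 3 n.le_succ : 3 ^ n ∣ Nat.card (A ⧸ f.range))
    refine ⟨K.comap (QuotientGroup.mk' f.range), ?_⟩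
    rw [index_comap_of_surjective _ (QuotientGroup.mk'_surjective _)]
    have h := K.card_mul_index
    rw [hn, hK, pow_succ] at h
    exact Nat.eq_of_mul_eq_mul_left (pow_pos (by norm_num) n) h

end Small

open CfsgLib.SpSixThree.Small in
theorem one : StmtOne.{u} := by
  intro G _ _ B hB
  have : Fact (Nat.Prime 3) := ⟨Nat.prime_three⟩
  have hPm : Pm B := fun n hn => Or.inl (by rw [hB n hn, mul_inv_cancel_right])
  obtain ⟨P, hP⟩ := exists_sylow B
  obtain ⟨C, hC⟩ : ∃ C, C = centralizer ({B.v zV} : Set G) := ⟨_, rfl⟩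
  have hSC : SS B ≤ C := hC ▸ SS_le_cent B
  have hNC : normalizer (zpowers (B.v zV) : Set G) = C := by
    refine le_antisymm (fun g hg => ?_) (hC ▸ cent_le_normalizer)
    rw [hC, mem_cent B]
    rcases mem_normalizer_zpowers_iff.1 hg with h | h
    · exact mul_inv_eq_iff_eq_mul.1 h
    · exfalso
      obtain ⟨n, hn, e⟩ := B.fusion zV (-zV) (isConj_iff.2 ⟨g, h⟩)
      rw [hB n hn, mul_inv_cancel_right] at e
      exact zV_ne_neg (B.v_inj e)
  have hfoc := Transfer.commutator_inf_eq_of_fusion P (hP.le.trans hSC) fun x hx g hg => by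
    obtain ⟨n, hn, e⟩ := control hPm P hP (hP.le hx) (hP.le hg)
    exact ⟨n, hNC.le hn, e⟩
  -- some element of `S` is outside `C'`
  obtain ⟨s, hsS, hsD⟩ : ∃ s ∈ SS B, s ∉ ⁅C, C⁆ := by
    by_contra hcon
    push Not at hcon
    set D : Subgroup C := commutator C with hD
    have hmap : D.map C.subtype = ⁅C, C⁆ := map_subtype_commutator C
    have hmemD : ∀ c : C, (c : G) ^ 3 = 1 → c ∈ D := by
      intro c hc
      obtain ⟨k, hk, hkS⟩ := Transfer.exists_conj_le_of_isPGroup (p := 3) (K := C) (U := SS B)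
        (V := zpowers (c : G)) (IsPGroup.of_card (n := 4) (card_SS B)) hSC
        (fun h => not_dvd_index_SS B (h.trans ⟨C.index, (relIndex_mul_index hSC).symm⟩))
        (fun z => by
          obtain ⟨i, hi⟩ := mem_zpowers_iff.1 z.2
          refine ⟨1, Subtype.ext ?_⟩
          rw [SubmonoidClass.coe_pow, ← hi, pow_one, ← zpow_natCast, ← zpow_mul, mul_comm,
            zpow_mul, zpow_natCast, hc, one_zpow]
          rfl)
        (zpowers_le.2 c.2)
      have h := hcon _ (hkS c (mem_zpowers _))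
      rw [← hmap] at h
      obtain ⟨w, hw, hwe⟩ := h
      have hDn : D.Normal := by rw [hD]; infer_instance
      have hkc : c = ⟨k, hk⟩ * w * (⟨k, hk⟩)⁻¹ := Subtype.ext (by
        simp only [coe_mul, coe_inv]
        rw [show (w : G) = k⁻¹ * c * k from hwe]
        group)
      rw [hkc]
      exact hDn.conj_mem w hw _
    have hmem : ∀ c : G, c ∈ C → c ^ 3 = 1 → c ∈ ⁅C, C⁆ := fun c hc h3 =>
      hmap ▸ ⟨⟨c, hc⟩, hmemD ⟨c, hc⟩ h3, rfl⟩
    have hle : C ≤ ⁅C, C⁆ := by
      intro c hc
      rw [hC, mem_cent B] at hc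
      refine (closure_le _).2 ?_ (B.cent_z_gen c hc)
      have he : B.v eV ∈ C := hSC (J_le_SS B (mem B _))
      have hqC : B.q ∈ C := by rw [hC, mem_cent B]; exact B.q_a
      rintro x (rfl | rfl | rfl | rfl | rfl)
      · exact hcon _ (J_le_SS B (mem B _))
      · exact hcon _ (J_le_SS B (mem B _))
      · exact hcon _ (R_le_SS B B.β_mem)
      · have h1 : B.q * (B.v eV)⁻¹ ∈ ⁅C, C⁆ := hmem _ (mul_mem hqC (inv_mem he))
          (by rw [pow_succ, pow_two]; exact B.q_e)
        simpa using mul_mem h1 (hcon _ (J_le_SS B (mem B _)) : B.v eV ∈ ⁅C, C⁆)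
      · exact hcon _ (J_le_SS B (mem B _))
    have hsolv : Group.IsSolvable C :=
      CfsgLib.Chars.isSolvable_of_card_eq_pow_mul_pow (a := 3) (b := 4) Nat.prime_two
        Nat.prime_three (by rw [hC, B.card_cent_z]; norm_num)
    have : Nontrivial C := by
      refine ⟨⟨⟨B.v zV, hSC (J_le_SS B (mem B _))⟩, 1, fun h => v_ne B zV_ne ?_⟩⟩
      exact congrArg Subtype.val h
    refine (Group.IsSolvable.commutator_lt_top_of_nontrivial C).ne ?_
    refine map_injective C.subtype_injective ?_
    rw [← MonoidHom.range_eq_map, range_subtype]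
    exact le_antisymm (map_subtype_le _) (hmap ▸ hle)
  have hsG : s ∉ commutator G := fun h => hsD ((hfoc.le ⟨h, hP.ge hsS⟩).1)
  -- the image of `s` in the abelianisation
  obtain ⟨n, hn⟩ := (IsPGroup.of_card (p := 3) (n := 4) (card_SS B) : IsPGroup 3 (SS B)) ⟨s, hsS⟩
  have hone : orderOf (Abelianization.of s) ∣ 3 ^ n := orderOf_dvd_of_pow_eq_one (by
    rw [← map_pow, show s ^ 3 ^ n = 1 from congrArg Subtype.val hn, map_one])
  obtain ⟨j, -, hj⟩ := (Nat.dvd_prime_pow Nat.prime_three).1 hone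
  have hj0 : j ≠ 0 := by
    intro h0
    rw [h0, pow_zero, orderOf_eq_one_iff] at hj
    exact hsG ((QuotientGroup.eq_one_iff s).1 hj)
  obtain ⟨x, hx⟩ := exists_prime_orderOf_dvd_card' (G := Abelianization G) 3
    ((dvd_pow_self 3 hj0).trans (hj ▸ orderOf_dvd_natCard _))
  obtain ⟨H, hH⟩ := exists_index_three hx
  exact ⟨H.comap Abelianization.of, inferInstance, by
    rw [index_comap_of_surjective _ (QuotientGroup.mk_surjective), hH]⟩

end CfsgLib.SpSixThree
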