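import Cfsg.Agent.Lib.SpSixThree.SmallCent
import Cfsg.Agent.Lib.Involutions.ZStar.Main
import Cfsg.Agent.Lib.Classical.Order
import Cfsg.Agent.S0058

/-!
# The central sign (statement S3342): `⟨a⟩` is normal

`N = N(⟨a⟩)` contains the centralizers of its elements of order three, so an element moving one of
them inside `N` lies in `N`.  By S3347 `C(σ) ≤ N`, hence `σ` is isolated and `G = O(G) C(σ)`; a Sylow
3-subgroup of `O(G)` controls its own fusion, so `O(G) ≤ N`.
-/

set_option autoImplicit false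
set_option linter.unusedSectionVars false

namespace CfsgLib.SpSixThree

open Subgroup
open CfsgLib.PSpAmalgam (V3 zV eV fV gV zV' actR actS)

universe u

namespace Small

/-- The vectors fixed by `σ` with a sign change compared. -/
theorem key_eV : ∀ k : K8, (act8 k zV = zV ∨ act8 k zV = -zV) →
    (actS (act8 k eV) = act8 k eV → act8 k eV = eV ∨ act8 k eV = -eV) ∧
    act8 k zV' ≠ (0, 2, 2) := by decide +kernel

theorem fixed_eq : ∀ y : V3, actS y = y → ∃ a b : Fin 3, y = a.val • zV + b.val • eV := by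
  decide +kernel

theorem zV'_eq : (zV' : V3) = zV + zV + (eV + eV) := by decide +kernel

theorem flip_eq : (zV + zV + (-eV + -eV) : V3) = (0, 2, 2) := by decide +kernel

theorem actS_zV : actS zV = (zV : V3) := by decide +kernel

theorem actS_eV : actS eV = (eV : V3) := by decide +kernel

theorem actS_pair : ∀ p : ZMod 3 × ZMod 3, actS (p.1, p.2, p.2) = (p.1, p.2, p.2) := fun _ => rfl

theorem sl_invol : ∀ u : Matrix.SpecialLinearGroup (Fin 2) (ZMod 3),
    u * u = 1 → u = 1 ∨ u = -1 := by decide +kernel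

theorem zV'_pair : ∀ p : ZMod 3 × ZMod 3, ((p.1 + p.2, p.1 + p.2 + p.2, p.1 + p.2 + p.2) : V3) =
    p.1.val • zV + p.2.val • zV' := by decide +kernel

theorem pair_inj : ∀ p p' : ZMod 3 × ZMod 3,
    ((p.1 + p.2, p.1 + p.2 + p.2, p.1 + p.2 + p.2) : V3) =
      (p'.1 + p'.2, p'.1 + p'.2 + p'.2, p'.1 + p'.2 + p'.2) → p = p' := by decide +kernel

variable {G : Type u} [Group G] (B : Base G)

theorem v_nsmul (n : ℕ) (x : V3) : B.v (n • x) = B.v x ^ n := by
  induction n with
  | zero => rw [zero_nsmul, v_zero, pow_zero]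
  | succ n ih => rw [succ_nsmul, B.v_add, ih, pow_succ]

theorem σ_ne : B.σ ≠ 1 := fun h => by
  have := B.conj_σ gV
  rw [h, one_mul, inv_one, mul_one] at this
  exact (show (gV : V3) ≠ actS gV by decide +kernel) (B.v_inj this)

theorem commute_σ_iff (y : V3) : B.v y * B.σ = B.σ * B.v y ↔ actS y = y := by
  constructor
  · intro h
    apply B.v_inj
    rw [← B.conj_σ, ← h, mul_inv_cancel_right]
  · intro h
    nth_rewrite 1 [← h]
    rw [← B.conj_σ, inv_mul_cancel_right]

variable [Finite G]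

/-- The only involution of `C(a) ∩ C(σ)` is `σ`. -/
theorem invol_eq {w : G} (hwa : w * B.v zV = B.v zV * w) (hws : w * B.σ = B.σ * w)
    (hw : w * w = 1) : w = 1 ∨ w = B.σ := by
  obtain ⟨u', hu'⟩ := B.sl_z'
  have hL : Nat.card B.sl.range = 24 := by
    rw [Nat.card_congr (MonoidHom.ofInjective B.sl_inj).toEquiv.symm,
      CfsgLib.Classical.card_SL_two, Nat.card_zmod]
    norm_num
  have ha : B.v zV ∉ B.sl.range := by
    intro h
    have hmem : ∀ p : ZMod 3 × ZMod 3,
        B.v (p.1 + p.2, p.1 + p.2 + p.2, p.1 + p.2 + p.2) ∈ B.J ⊓ B.sl.range := fun p => by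
      refine mem_inf.2 ⟨mem B _, ?_⟩
      rw [zV'_pair, B.v_add, v_nsmul, v_nsmul]
      exact Subgroup.mul_mem _ (Subgroup.pow_mem _ h _)
        (Subgroup.pow_mem _ (⟨u', hu'⟩ : B.v zV' ∈ B.sl.range) _)
    have h9 : 9 ≤ Nat.card ↥(B.J ⊓ B.sl.range) := by
      refine le_trans (by simp) (Nat.card_le_card_of_injective
        (fun p : ZMod 3 × ZMod 3 => (⟨_, hmem p⟩ : ↥(B.J ⊓ B.sl.range))) fun p p' e => ?_)
      exact pair_inj p p' (B.v_inj (congrArg Subtype.val e))
    have h3 : Nat.card ↥(B.J ⊓ B.sl.range) ∣ Nat.gcd 27 24 :=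
      Nat.dvd_gcd ((card_dvd_of_le inf_le_left).trans (card_J B).dvd)
        ((card_dvd_of_le inf_le_right).trans hL.dvd)
    rw [show Nat.gcd 27 24 = 3 by norm_num] at h3
    have := Nat.le_of_dvd (by norm_num) h3
    omega
  let M0 := centralizer ({B.v zV} : Set G) ⊓ centralizer ({B.σ} : Set G)
  have haσ : B.v zV * B.σ = B.σ * B.v zV := (commute_σ_iff B zV).2 actS_zV
  have hf : ∀ p : Fin 3 × Matrix.SpecialLinearGroup (Fin 2) (ZMod 3),
      B.v zV ^ p.1.val * B.sl p.2 ∈ M0 := fun p =>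
    mem_inf.2 ⟨Subgroup.mul_mem _ (Subgroup.pow_mem _ (mem_centralizer_singleton_iff.2 rfl) _)
        (mem_centralizer_singleton_iff.2 (B.sl_cent p.2).1),
      Subgroup.mul_mem _ (Subgroup.pow_mem _ (mem_centralizer_singleton_iff.2 haσ) _)
        (mem_centralizer_singleton_iff.2 (B.sl_cent p.2).2)⟩
  have h3 : B.v zV ^ 3 = 1 := v_cube B zV
  have hsplit : ∀ n : ℕ, B.v zV ^ n ∈ B.sl.range → n % 3 = 0 := by
    intro n hn
    by_contra hne
    refine ha ?_
    have e : B.v zV ^ n = B.v zV ^ (n % 3) := pow_eq_pow_mod n h3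
    rw [e] at hn
    rcases (show n % 3 = 1 ∨ n % 3 = 2 by omega) with e1 | e1 <;> rw [e1] at hn
    · rwa [pow_one] at hn
    · rw [show B.v zV = (B.v zV ^ 2) ^ 2 by
        rw [← pow_mul]; exact ((pow_eq_pow_mod 4 h3).trans (pow_one _)).symm]
      exact pow_mem hn 2
  have hinj : Function.Injective (fun p => (⟨_, hf p⟩ : M0)) := by
    intro p p' e
    have e' : B.v zV ^ p.1.val * B.sl p.2 = B.v zV ^ p'.1.val * B.sl p'.2 := congrArg Subtype.val e
    have hmem : B.v zV ^ (p.1.val + 2 * p'.1.val) ∈ B.sl.range := by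
      refine ⟨p'.2 * p.2⁻¹, ?_⟩
      rw [map_mul, map_inv, eq_comm, eq_mul_inv_iff_mul_eq, pow_add, mul_assoc,
        ((show Commute (B.sl p.2) (B.v zV) from (B.sl_cent p.2).1).pow_right _).symm.eq,
        ← mul_assoc, e', mul_assoc, ((show Commute (B.sl p'.2) (B.v zV) from
          (B.sl_cent p'.2).1).pow_right _).eq, ← mul_assoc, ← pow_add,
        show p'.1.val + 2 * p'.1.val = 3 * p'.1.val by ring, pow_mul, h3, one_pow, one_mul]
    have := hsplit _ hmem
    have h1 : p.1 = p'.1 := Fin.ext (by omega)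
    rw [h1] at e'
    exact Prod.ext h1 (B.sl_inj (mul_left_cancel e'))
  have hcard : Nat.card M0 ≤ Nat.card (Fin 3 × Matrix.SpecialLinearGroup (Fin 2) (ZMod 3)) := by
    rw [B.card_cent_z_σ, Nat.card_prod, Nat.card_fin, CfsgLib.Classical.card_SL_two, Nat.card_zmod]
    norm_num
  obtain ⟨⟨i, t⟩, hit⟩ := (hinj.bijective_of_nat_card_le hcard).2
    ⟨w, mem_inf.2 ⟨mem_centralizer_singleton_iff.2 hwa, mem_centralizer_singleton_iff.2 hws⟩⟩
  have hwe : B.v zV ^ i.val * B.sl t = w := congrArg Subtype.val hit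
  have h2 : B.v zV ^ (2 * i.val) = B.sl (t * t)⁻¹ := by
    rw [map_inv, eq_inv_iff_mul_eq_one, map_mul]
    have hc : B.sl t * B.v zV ^ i.val = B.v zV ^ i.val * B.sl t :=
      ((show Commute (B.sl t) (B.v zV) from (B.sl_cent t).1).pow_right _).eq
    calc B.v zV ^ (2 * i.val) * (B.sl t * B.sl t)
        = B.v zV ^ i.val * (B.v zV ^ i.val * B.sl t) * B.sl t := by rw [two_mul, pow_add]; group
      _ = B.v zV ^ i.val * (B.sl t * B.v zV ^ i.val) * B.sl t := by rw [hc]
      _ = (B.v zV ^ i.val * B.sl t) * (B.v zV ^ i.val * B.sl t) := by group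
      _ = 1 := by rw [hwe, hw]
  have hi : i.val = 0 := by
    have := hsplit _ (⟨_, h2.symm⟩ : B.v zV ^ (2 * i.val) ∈ B.sl.range)
    omega
  rw [hi, mul_zero, pow_zero, eq_comm, ← map_one B.sl] at h2
  have ht : t * t = 1 := inv_eq_one.1 (B.sl_inj h2)
  rw [hi, pow_zero, one_mul] at hwe
  rcases sl_invol t ht with rfl | rfl
  · exact Or.inl (hwe ▸ map_one _)
  · exact Or.inr (hwe ▸ B.sl_neg)

variable {B}

/-- An element of odd order of `N(⟨a⟩)` centralises `a`. -/
theorem mem_cent_of_odd {g : G} (hg : g ∈ normalizer (zpowers (B.v zV) : Set G)) {n : ℕ}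
    (hn : Odd n) (h1 : g ^ n = 1) : g ∈ centralizer ({B.v zV} : Set G) := by
  have h2 : g * g ∈ centralizer ({B.v zV} : Set G) := by
    rw [mem_cent B]
    rcases mem_normalizer_zpowers_iff.1 hg with h | h
    · calc g * g * B.v zV = g * (g * B.v zV * g⁻¹) * g⁻¹ * (g * g) := by group
        _ = B.v zV * (g * g) := by rw [h, h]
    · calc g * g * B.v zV = g * (g * B.v zV * g⁻¹) * g⁻¹ * (g * g) := by group
        _ = B.v zV * (g * g) := by
            rw [h, v_neg, show g * (B.v zV)⁻¹ * g⁻¹ = (g * B.v zV * g⁻¹)⁻¹ by group, h, v_neg,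
              inv_inv]
  obtain ⟨m, rfl⟩ := hn
  have e : g = (g * g) ^ (m + 1) := by
    rw [← pow_two, ← pow_mul, show 2 * (m + 1) = 2 * m + 1 + 1 by ring, pow_succ, h1, one_mul]
  rw [e]
  exact pow_mem h2 _

/-- An element of order three of `C(a)` is conjugate into `J` there. -/
theorem to_J_cent {x : G} (hx : x ∈ centralizer ({B.v zV} : Set G)) (h3 : x ^ 3 = 1) :
    ∃ c ∈ centralizer ({B.v zV} : Set G), ∃ y, c * x * c⁻¹ = B.v y := by
  have : Fact (Nat.Prime 3) := ⟨Nat.prime_three⟩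
  obtain ⟨k, hk, hkS⟩ := Transfer.exists_conj_le_of_isPGroup (p := 3)
    (K := centralizer ({B.v zV} : Set G)) (U := SS B) (V := zpowers x)
    (IsPGroup.of_card (n := 4) (card_SS B)) (SS_le_cent B)
    (fun h => not_dvd_index_SS B
      (h.trans ⟨_, (relIndex_mul_index (SS_le_cent B)).symm⟩))
    (fun z => by
      obtain ⟨i, hi⟩ := mem_zpowers_iff.1 z.2
      refine ⟨1, Subtype.ext ?_⟩
      rw [SubmonoidClass.coe_pow, ← hi, pow_one, ← zpow_natCast, ← zpow_mul, mul_comm,
        zpow_mul, zpow_natCast, h3, one_zpow]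
      rfl)
    (zpowers_le.2 hx)
  obtain ⟨c, hc, y, hy⟩ := to_J B (hkS x (mem_zpowers x)) (by
    rw [show k⁻¹ * x * k = k⁻¹ * x * k⁻¹⁻¹ by rw [inv_inv], conj_pow, h3, mul_one,
      mul_inv_cancel])
  exact ⟨c * k⁻¹, Subgroup.mul_mem _ hc (Subgroup.inv_mem _ hk), y, by rw [← hy]; group⟩

variable {d : G}

/-- `N(⟨a⟩)` is strongly 3-embedded. -/
theorem strong (hB : Pm B) (hd : d * d = 1) (hdv : ∀ x, d * B.v x * d⁻¹ = B.v (-x))
    (hdσ : d * B.σ = B.σ * d) : ∀ (k : ℕ) (x g : G),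
    x ∈ normalizer (zpowers (B.v zV) : Set G) → x ^ 3 ^ k = 1 → x ≠ 1 →
    g * x * g⁻¹ ∈ normalizer (zpowers (B.v zV) : Set G) →
    g ∈ normalizer (zpowers (B.v zV) : Set G) := by
  intro k
  induction k with
  | zero => intro x g _ h hne _; rw [pow_zero, pow_one] at h; exact absurd h hne
  | succ k ih =>
    intro x g hx hpow hne hy
    by_cases h3 : x ^ 3 = 1
    · have hxC := mem_cent_of_odd hx (n := 3) (by decide) h3
      have hy3 : (g * x * g⁻¹) ^ 3 = 1 := by rw [conj_pow, h3, mul_one, mul_inv_cancel]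
      have hyC := mem_cent_of_odd hy (n := 3) (by decide) hy3
      obtain ⟨c1, hc1, X, hX⟩ := to_J_cent hxC h3
      obtain ⟨c2, hc2, Y, hY⟩ := to_J_cent hyC hy3
      obtain ⟨m, hm, hmY⟩ := B.fusion X Y (isConj_iff.2 ⟨c2 * g * c1⁻¹, by rw [← hX, ← hY]; group⟩)
      have hX0 : X ≠ 0 := fun h => hne (by
        rw [h, v_zero, conj_eq_one_iff] at hX; exact hX)
      have hz : m⁻¹ * c2 * g * c1⁻¹ ∈ normalizer (zpowers (B.v zV) : Set G) := by
        refine cent_le hB hd hdv hdσ hX0 (mem_centralizer_singleton_iff.2 ?_)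
        rw [← mul_inv_eq_iff_eq_mul]
        calc m⁻¹ * c2 * g * c1⁻¹ * B.v X * (m⁻¹ * c2 * g * c1⁻¹)⁻¹
            = m⁻¹ * (c2 * (g * (c1⁻¹ * B.v X * c1) * g⁻¹) * c2⁻¹) * m := by group
          _ = m⁻¹ * (c2 * (g * x * g⁻¹) * c2⁻¹) * m := by
              rw [show c1⁻¹ * B.v X * c1 = x by rw [← hX]; group]
          _ = B.v X := by rw [hY, ← hmY]; group
      have e : g = c2⁻¹ * m * (m⁻¹ * c2 * g * c1⁻¹) * c1 := by group
      rw [e]
      exact Subgroup.mul_mem _ (Subgroup.mul_mem _ (Subgroup.mul_mem _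
        (Subgroup.inv_mem _ (cent_le_normalizer hc2)) (normalizer_J_le hB hm)) hz)
        (cent_le_normalizer hc1)
    · refine ih (x ^ 3) g (pow_mem hx 3) ?_ h3 ?_
      · rw [← pow_mul, mul_comm, ← pow_succ, hpow]
      · rw [← conj_pow]; exact pow_mem hy 3

theorem v_mem_N (y : V3) : B.v y ∈ normalizer (zpowers (B.v zV) : Set G) :=
  cent_le_normalizer (J_le_cent B (mem B y))

/-- The centralizer of `σ` lies in `N(⟨a⟩)`. -/
theorem cent_σ_le (hB : Pm B) (hd : d * d = 1) (hdv : ∀ x, d * B.v x * d⁻¹ = B.v (-x))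
    (hdσ : d * B.σ = B.σ * d) :
    centralizer ({B.σ} : Set G) ≤ normalizer (zpowers (B.v zV) : Set G) := by
  have : Fact (Nat.Prime 3) := ⟨Nat.prime_three⟩
  set C := centralizer ({B.σ} : Set G) with hC
  have hvC : ∀ y : V3, B.v y ∈ C ↔ actS y = y := fun y => by
    rw [hC, mem_centralizer_singleton_iff, commute_σ_iff]
  set E := B.J ⊓ C with hE
  have hEmem : ∀ g, g ∈ E ↔ ∃ y : V3, actS y = y ∧ B.v y = g := by
    intro g
    constructor
    · rintro ⟨hg, hgC⟩
      obtain ⟨y, rfl⟩ := (B.mem_J g).1 hg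
      exact ⟨y, (hvC y).1 hgC, rfl⟩
    · rintro ⟨y, hy, rfl⟩
      exact mem_inf.2 ⟨mem B y, (hvC y).2 hy⟩
  have h9 : 9 ≤ Nat.card E := by
    refine le_trans (by simp) (Nat.card_le_card_of_injective
      (fun p : ZMod 3 × ZMod 3 =>
        (⟨B.v (p.1, p.2, p.2), (hEmem _).2 ⟨_, actS_pair p, rfl⟩⟩ : E)) fun p p' e => ?_)
    have e' := B.v_inj (congrArg Subtype.val e)
    exact Prod.ext (congrArg (fun t : V3 => t.1) e') (congrArg (fun t : V3 => t.2.1) e')
  have haE : B.v zV ∈ E := (hEmem _).2 ⟨_, actS_zV, rfl⟩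
  have hdC : d ∈ C := by rw [hC, mem_centralizer_singleton_iff]; exact hdσ
  obtain ⟨T, hT⟩ :=
    (((J_pgroup B).to_le (inf_le_left (b := C))).comap_subtype (K := C)).exists_le_sylow
  have hTeq : (E.subgroupOf C : Subgroup C) = T := by
    refine eq_of_le_of_card_ge hT ?_
    rw [Nat.card_congr (subgroupOfEquivOfLe (inf_le_right : E ≤ C)).toEquiv]
    refine le_trans ?_ h9
    have haT : (⟨B.v zV, (mem_inf.1 haE).2⟩ : C) ∈ (T : Subgroup C) := hT (mem_subgroupOf.2 haE)
    have hnt : Nontrivial (T : Subgroup C) := ⟨⟨⟨_, haT⟩, 1, fun h => v_ne B zV_ne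
      (congrArg (fun z : (T : Subgroup C) => ((z : C) : G)) h)⟩⟩
    have hcn : Nontrivial (center (T : Subgroup C)) := T.2.center_nontrivial
    obtain ⟨z, hz1⟩ := exists_ne (1 : center (T : Subgroup C))
    obtain ⟨k, hk⟩ := T.2 z.1
    have hzC : ((z.1 : C) : G) ∈ centralizer ({B.v zV} : Set G) :=
      mem_centralizer_singleton_iff.2
        (congrArg (fun t : (T : Subgroup C) => ((t : C) : G))
          (mem_center_iff.1 z.2 ⟨_, haT⟩)).symm
    have hle : (T : Subgroup C).map C.subtype ≤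
        centralizer ({B.v zV} : Set G) ⊓ centralizer ({B.σ} : Set G) := by
      rintro _ ⟨t, ht, rfl⟩
      refine mem_inf.2 ⟨?_, t.2⟩
      have htN : (t : G) ∈ normalizer (zpowers (B.v zV) : Set G) := by
        refine strong hB hd hdv hdσ k ((z.1 : C) : G) t (cent_le_normalizer hzC) ?_ ?_ ?_
        · exact congrArg (fun s : (T : Subgroup C) => ((s : C) : G)) hk
        · exact fun h => hz1 (Subtype.ext (Subtype.ext (Subtype.ext h)))
        · have hc : (t : G) * ((z.1 : C) : G) = ((z.1 : C) : G) * t :=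
            congrArg (fun s : (T : Subgroup C) => ((s : C) : G)) (mem_center_iff.1 z.2 ⟨t, ht⟩)
          rw [hc, mul_inv_cancel_right]
          exact cent_le_normalizer hzC
      obtain ⟨j, hj⟩ := T.2 ⟨t, ht⟩
      exact mem_cent_of_odd htN (n := 3 ^ j) (Odd.pow (by decide))
        (congrArg (fun s : (T : Subgroup C) => ((s : C) : G)) hj)
    have hd72 := card_dvd_of_le hle
    rw [B.card_cent_z_σ, card_subtype] at hd72
    obtain ⟨n, hn⟩ := IsPGroup.iff_card.1 T.2
    rw [hn] at hd72 ⊢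
    rcases Nat.lt_or_ge n 3 with h | h
    · exact le_trans (Nat.pow_le_pow_right (by norm_num) (show n ≤ 2 by omega)) (by norm_num)
    · exact absurd ((pow_dvd_pow 3 h).trans hd72) (by norm_num)
  have hmemT : ∀ z : C, z ∈ (T : Subgroup C) ↔ ∃ y : V3, actS y = y ∧ B.v y = z := fun z => by
    rw [← hTeq, mem_subgroupOf, hEmem]
  intro h hh
  let i : C := ⟨d, hdC⟩
  have hinv : ∀ z ∈ (T : Subgroup C), i * z * i⁻¹ = z⁻¹ := fun z hz => by
    obtain ⟨y, -, hy⟩ := (hmemT z).1 hz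
    refine Subtype.ext ?_
    show d * (z : G) * d⁻¹ = (z : G)⁻¹
    rw [← hy, hdv, v_neg]
  have hTN : ∀ n ∈ normalizer ((T : Subgroup C) : Set C),
      (n : G) ∈ normalizer (zpowers (B.v zV) : Set G) := by
    intro n hn
    refine strong hB hd hdv hdσ 1 (B.v zV) n (v_mem_N zV) ?_ (v_ne B zV_ne) ?_
    · rw [pow_one]; exact v_cube B zV
    · obtain ⟨y, -, hy⟩ := (hmemT _).1
        ((mem_normalizer_iff.1 hn ⟨_, (mem_inf.1 haE).2⟩).1 ((hmemT _).2 ⟨_, actS_zV, rfl⟩))
      have hy' : B.v y = (n : G) * B.v zV * (n : G)⁻¹ := hy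
      exact hy' ▸ v_mem_N y
  -- an element of `N(E)` fixing `a` centralises `E`
  have hfix : ∀ n ∈ normalizer ((T : Subgroup C) : Set C), (n : G) * B.v zV * (n : G)⁻¹ = B.v zV →
      ∀ z ∈ (T : Subgroup C), n * z * n⁻¹ = z := by
    intro n hn hna
    have heC : B.v eV ∈ C := (hvC eV).2 actS_eV
    obtain ⟨y, hy, hye⟩ := (hmemT _).1
      ((mem_normalizer_iff.1 hn ⟨_, heC⟩).1 ((hmemT _).2 ⟨_, actS_eV, rfl⟩))
    have hye' : B.v y = (n : G) * B.v eV * (n : G)⁻¹ := hye
    obtain ⟨m, hm, hmy⟩ := B.fusion eV y (isConj_iff.2 ⟨(n : G), hye'.symm⟩)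
    obtain ⟨k, hk, hkv⟩ := code hB hm
    have hky : act8 k eV = y := B.v_inj ((hkv eV).symm.trans hmy)
    have hne : (n : G) * B.v eV * (n : G)⁻¹ = B.v eV := by
      rcases (key_eV k hk).1 (by rw [hky]; exact hy) with e | e <;> rw [hky] at e
      · rw [← hye', e]
      · exfalso
        have h1 : (n : G) * B.v zV' * (n : G)⁻¹ = B.v (0, 2, 2) := by
          have e2 : (n : G) * B.v eV * (n : G)⁻¹ = B.v (-eV) := by rw [← hye', e]
          have hmulc : ∀ x y : G, (n : G) * (x * y) * (n : G)⁻¹ =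
              ((n : G) * x * (n : G)⁻¹) * ((n : G) * y * (n : G)⁻¹) := by intro x y; group
          rw [zV'_eq, B.v_add, B.v_add, B.v_add, hmulc, hmulc, hmulc, hna, e2, ← B.v_add,
            ← B.v_add, ← B.v_add, flip_eq]
        obtain ⟨m', hm', hm1⟩ := B.fusion zV' (0, 2, 2) (isConj_iff.2 ⟨(n : G), h1⟩)
        obtain ⟨k', hk', hkv'⟩ := code hB hm'
        exact (key_eV k' hk').2 (B.v_inj ((hkv' _).symm.trans hm1))
    intro z hz
    obtain ⟨w, hw, hwz⟩ := (hmemT z).1 hz
    refine Subtype.ext ?_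
    show (n : G) * z * (n : G)⁻¹ = z
    obtain ⟨a, b, rfl⟩ := fixed_eq w hw
    rw [← hwz, B.v_add, v_nsmul, v_nsmul]
    calc (n : G) * (B.v zV ^ a.val * B.v eV ^ b.val) * (n : G)⁻¹
        = ((n : G) * B.v zV ^ a.val * (n : G)⁻¹) * ((n : G) * B.v eV ^ b.val * (n : G)⁻¹) := by
          group
      _ = _ := by rw [← conj_pow, ← conj_pow, hna, hne]
  obtain ⟨o, ho, n, hn, e⟩ := core_mul_normalizer T
    (fun a ha b hb => Subtype.ext (by
      obtain ⟨y, -, hy⟩ := (hmemT a).1 ha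
      obtain ⟨y', -, hy'⟩ := (hmemT b).1 hb
      show (a : G) * b = b * a
      rw [← hy, ← hy', v_comm]))
    (fun a ha => Subtype.ext (by
      obtain ⟨y, -, hy⟩ := (hmemT a).1 ha
      show (a : G) ^ 3 = 1
      rw [← hy, v_cube]))
    (by rw [← hTeq, Nat.card_congr (subgroupOfEquivOfLe (inf_le_right : E ≤ C)).toEquiv]; exact h9)
    i (Subtype.ext hd) hinv
    (fun n hn => by
      rcases mem_normalizer_zpowers_iff.1 (hTN n hn) with hna | hna
      · exact Or.inl (hfix n hn hna)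
      · refine Or.inr fun z hz => ?_
        have hiN : i ∈ normalizer ((T : Subgroup C) : Set C) :=
          mem_normalizer_fintype fun x hx => (hinv x hx).symm ▸ Subgroup.inv_mem _ hx
        have h1 := hfix (i * n) (Subgroup.mul_mem _ hiN hn) (by
          show d * (n : G) * B.v zV * (d * (n : G))⁻¹ = _
          rw [show d * (n : G) * B.v zV * (d * (n : G))⁻¹ =
            d * ((n : G) * B.v zV * (n : G)⁻¹) * d⁻¹ by group, hna, hdv, neg_neg]) z hz
        calc n * z * n⁻¹ = i⁻¹ * (i * n * z * (i * n)⁻¹) * i := by group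
          _ = i⁻¹ * z * i := by rw [h1]
          _ = z⁻¹ := by
            have e := hinv z hz
            rw [show i⁻¹ = i from inv_eq_of_mul_eq_one_left (Subtype.ext hd : i * i = 1)] at e ⊢
            exact e) ⟨h, hh⟩
  -- the core is generated by centralizers of elements of `E`
  set O := (Cfsg.pPrimeCore 3 C).map C.subtype with hO
  have hOle : O ≤ normalizer (zpowers (B.v zV) : Set G) := by
    have : IsMulCommutative E :=
      ⟨⟨fun a b => Subtype.ext (J_comm B a (mem_inf.1 a.2).1 b (mem_inf.1 b.2).1)⟩⟩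
    have hnc : ¬ IsCyclic E := by
      intro hcyc
      obtain ⟨g, hg⟩ := IsCyclic.exists_generator (α := E)
      rw [← orderOf_eq_card_of_forall_mem_zpowers hg] at h9
      have := Nat.le_of_dvd (by norm_num) (orderOf_dvd_of_pow_eq_one
        (Subtype.ext (J_cube B g (mem_inf.1 g.2).1) : g ^ 3 = 1))
      omega
    have hgen := Cfsg.Agent.S0058.result E O hnc
      ((inf_le_right.trans le_normalizer).trans
        (CfsgLib.Base.normalizer_le_normalizer_map_subtype C _))
      (by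
        have hd27 : Nat.card E ∣ 3 ^ 3 := (card_dvd_of_le inf_le_left).trans (card_J B).dvd
        refine Nat.Coprime.coprime_dvd_left hd27 (Nat.Coprime.pow_left 3 ?_)
        rw [hO, card_subtype]
        exact (CfsgLib.Base.pPrimeCore_coprime 3 C).symm)
    rw [← hgen]
    refine iSup₂_le fun z hz => inf_le_right.trans ?_
    obtain ⟨y, -, rfl⟩ := (hEmem z).1 hz.1
    exact cent_le hB hd hdv hdσ fun h0 => hz.2 (by rw [h0, v_zero])
  rw [show h = (n : G) * (o : G) from congrArg Subtype.val e]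
  exact Subgroup.mul_mem _ (hTN n hn) (hOle ⟨o, ho, rfl⟩)

/-- `σ` is isolated. -/
theorem isolated (hB : Pm B) (hd : d * d = 1) (hdv : ∀ x, d * B.v x * d⁻¹ = B.v (-x))
    (hdσ : d * B.σ = B.σ * d) (hdβ : d * B.β = B.β * d) : Cfsg.IsIsolatedInvolution B.σ := by
  have : Fact (Nat.Prime 2) := ⟨Nat.prime_two⟩
  refine ⟨orderOf_eq_prime (by rw [pow_two, B.σ_sq]) (σ_ne B), fun g hc => ?_⟩
  set w := g * B.σ * g⁻¹ with hw
  have hw2 : w * w = 1 := by
    calc w * w = g * (B.σ * B.σ) * g⁻¹ := by rw [hw]; group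
      _ = 1 := by rw [B.σ_sq]; group
  have hw1 : w ≠ 1 := fun h => σ_ne B (conj_eq_one_iff.1 (hw.symm.trans h))
  have hwN := cent_σ_le hB hd hdv hdσ (mem_centralizer_singleton_iff.2 hc.eq.symm)
  by_cases hwa : w * B.v zV = B.v zV * w
  · exact (invol_eq B hwa hc.eq.symm hw2).resolve_left hw1
  exfalso
  apply hwa
  -- `w` centralises an element of order three of `R`
  have hdR : d ∈ normalizer (B.R : Set G) := mem_normalizer_fintype fun r hr => by
    obtain ⟨y, j, hy, rfl⟩ := R_form B hr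
    have hcj : Commute d (B.β ^ j.val) := (show Commute d B.β from hdβ).pow_right _
    rw [show d * (B.v y * B.β ^ j.val) * d⁻¹ = (d * B.v y * d⁻¹) * (d * B.β ^ j.val * d⁻¹) by
      group, hdv, hcj.eq, mul_inv_cancel_right]
    refine Subgroup.mul_mem _ ((B.v_mem_R _).2 ?_) (Subgroup.pow_mem _ B.β_mem _)
    have key : ∀ y : V3, vsum y = 0 → vsum (-y) = 0 := by decide +kernel
    exact key y hy
  have hwR : w ∈ normalizer (B.R : Set G) := by
    have h2 : d * w ∈ centralizer ({B.v zV} : Set G) := by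
      rw [mem_cent B]
      rcases mem_normalizer_zpowers_iff.1 hwN with h | h
      · exact absurd (mul_inv_eq_iff_eq_mul.1 h) hwa
      · calc d * w * B.v zV = d * (w * B.v zV * w⁻¹) * d⁻¹ * (d * w) := by group
          _ = B.v zV * (d * w) := by rw [h, hdv, neg_neg]
    have := Subgroup.mul_mem _ (Subgroup.inv_mem _ hdR) (B.R_normal h2)
    rwa [inv_mul_cancel_left] at this
  obtain ⟨r, hr, hr1, hrw⟩ : ∃ r ∈ B.R, r ≠ 1 ∧ w * r * w⁻¹ = r := by
    by_contra hcon
    push Not at hcon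
    let φ : B.R →* B.R :=
      { toFun := fun r => ⟨w * r * w⁻¹, (mem_normalizer_iff.1 hwR r).1 r.2⟩
        map_one' := Subtype.ext (by simp)
        map_mul' := fun a b => Subtype.ext (by
          show w * ((a : G) * b) * w⁻¹ = w * a * w⁻¹ * (w * b * w⁻¹)
          group) }
    have hfree : MonoidHom.FixedPointFree φ := fun r h => Subtype.ext (by
      by_contra hne
      exact hcon r r.2 hne (congrArg Subtype.val h))
    have h2 : Function.Involutive φ := fun r => Subtype.ext (by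
      show w * (w * (r : G) * w⁻¹) * w⁻¹ = r
      calc w * (w * (r : G) * w⁻¹) * w⁻¹ = (w * w) * r * (w * w)⁻¹ := by group
        _ = r := by rw [hw2]; group)
    have hcomm : B.β * B.v gV = B.v gV * B.β := congrArg Subtype.val
      (hfree.commute_all_of_involutive h2 ⟨B.β, B.β_mem⟩
        ⟨B.v gV, (B.v_mem_R gV).2 (by decide +kernel)⟩).eq
    have h3 := B.conj_β gV
    rw [hcomm, mul_inv_cancel_right] at h3
    exact absurd (B.v_inj h3) (by decide +kernel)
  have hrN : r ∈ normalizer (zpowers (B.v zV) : Set G) := cent_le_normalizer (R_le_cent B hr)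
  have hgr : g⁻¹ * r * g⁻¹⁻¹ ∈ normalizer (zpowers (B.v zV) : Set G) := by
    refine cent_σ_le hB hd hdv hdσ (mem_centralizer_singleton_iff.2 ?_)
    calc g⁻¹ * r * g⁻¹⁻¹ * B.σ = g⁻¹ * (r * (g * B.σ * g⁻¹)) * g := by group
      _ = g⁻¹ * ((g * B.σ * g⁻¹) * r) * g := by
          rw [← hw, ← mul_inv_eq_iff_eq_mul.1 hrw]
      _ = _ := by group
  have hg : g⁻¹ ∈ normalizer (zpowers (B.v zV) : Set G) :=
    strong hB hd hdv hdσ 1 r g⁻¹ hrN (by rw [pow_one]; exact B.R_cube r hr) hr1 hgr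
  have hσa : B.σ * B.v zV = B.v zV * B.σ := ((commute_σ_iff B zV).2 actS_zV).symm
  have hσn : B.σ * B.v (-zV) = B.v (-zV) * B.σ := by
    rw [v_neg]
    exact (show Commute B.σ (B.v zV) from hσa).inv_right.eq
  rcases mem_normalizer_zpowers_iff.1 hg with h | h <;> rw [inv_inv] at h
  · calc w * B.v zV = g * (B.σ * (g⁻¹ * B.v zV * g)) * g⁻¹ := by rw [hw]; group
      _ = g * ((g⁻¹ * B.v zV * g) * B.σ) * g⁻¹ := by rw [h, hσa]
      _ = _ := by rw [hw]; group
  · calc w * B.v zV = g * (B.σ * (g⁻¹ * B.v zV * g)) * g⁻¹ := by rw [hw]; group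
      _ = g * ((g⁻¹ * B.v zV * g) * B.σ) * g⁻¹ := by rw [h, hσn]
      _ = _ := by rw [hw]; group

/-- The odd core lies in `N(⟨a⟩)`. -/
theorem oddCore_le (hB : Pm B) (hd : d * d = 1) (hdv : ∀ x, d * B.v x * d⁻¹ = B.v (-x))
    (hdσ : d * B.σ = B.σ * d) :
    Cfsg.oddCore G ≤ normalizer (zpowers (B.v zV) : Set G) := by
  have : Fact (Nat.Prime 3) := ⟨Nat.prime_three⟩
  set O := Cfsg.oddCore G with hO
  have hOn : O.Normal := by rw [hO]; infer_instance
  have hOdd : Odd (Nat.card O) := CfsgLib.Base.odd_card_oddCore G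
  obtain ⟨P, hP⟩ := exists_sylow B
  obtain ⟨T, hT⟩ : ∃ T : Sylow 3 O, (T : Subgroup O) = (P : Subgroup G).subgroupOf O :=
    ⟨(P.2.comap_subtype (K := O)).toSylow (Transfer.not_dvd_index_subgroupOf_of_normal P O), rfl⟩
  set CO := (centralizer ({B.v zV} : Set G)).subgroupOf O with hCO
  have hTle : (T : Subgroup O) ≤ CO := fun t ht => by
    rw [hT, mem_subgroupOf, hP] at ht
    exact SS_le_cent B ht
  have hCOp : IsPGroup 3 CO := by
    refine IsPGroup.iff_card.2 ?_
    have h1 : Nat.card CO ∣ 2 ^ 3 * 3 ^ 4 := by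
      rw [hCO, ← card_subtype, subgroupOf_map_subtype]
      exact (card_dvd_of_le inf_le_left).trans (B.card_cent_z.trans (by norm_num)).dvd
    have h2 : Odd (Nat.card CO) := Odd.of_dvd_nat hOdd (card_subgroup_dvd_card CO)
    obtain ⟨j, -, hj⟩ := (Nat.dvd_prime_pow Nat.prime_three).1
      (((h2.coprime_two_right).pow_right 3).dvd_of_dvd_mul_left h1)
    exact ⟨j, hj⟩
  have hTeq : CO = (T : Subgroup O) := T.3 hCOp hTle
  have hmem : ∀ g : O, (g : G) ∈ normalizer (zpowers (B.v zV) : Set G) →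
      g ∈ (T : Subgroup O) := fun g hg => by
    rw [← hTeq]
    exact mem_cent_of_odd hg hOdd
      (congrArg Subtype.val (pow_card_eq_one' (x := g)) : ((g : G)) ^ Nat.card O = 1)
  have hTN : ∀ g ∈ (T : Subgroup O), (g : G) ∈ normalizer (zpowers (B.v zV) : Set G) :=
    fun g hg => cent_le_normalizer (hTle hg)
  have hcomp : Cfsg.HasNormalPComplement 3 O := by
    refine Transfer.hasNormalPComplement_of_fusion T fun x hx g hg => ?_
    rcases eq_or_ne x 1 with rfl | hx1
    · exact ⟨1, one_mem _, by simp⟩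
    obtain ⟨k, hk⟩ := T.2 ⟨x, hx⟩
    refine ⟨g, hmem g ?_, rfl⟩
    exact strong hB hd hdv hdσ k (x : G) (g : G) (hTN x hx)
      (congrArg (fun s : (T : Subgroup O) => ((s : O) : G)) hk)
      (fun h => hx1 (Subtype.ext h)) (hTN _ hg)
  -- the complement is normalised by `J`, so trivial
  have hK : Cfsg.pResidual 3 O = ⊥ := by
    have hKn : (Cfsg.pResidual 3 O).Normal := Transfer.pResidual_normal
    have hle := CfsgLib.Base.le_pPrimeCore_of_not_dvd (N := Cfsg.pResidual 3 O) (p := 3)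
      (Transfer.hasNormalPComplement_iff_pResidual.1 hcomp)
    have hW : (Cfsg.pPrimeCore 3 O).map O.subtype = ⊥ := B.sig _
      (by rw [card_subtype]; exact CfsgLib.Base.pPrimeCore_coprime 3 O)
      ((le_normalizer_of_normal (H := O)).trans
        (CfsgLib.Base.normalizer_le_normalizer_map_subtype O _))
    rw [map_eq_bot_iff_of_injective _ O.subtype_injective] at hW
    exact le_bot_iff.1 (hW ▸ hle)
  obtain ⟨k, hk⟩ := Transfer.exists_index_pResidual (G := O) (p := 3)
  rw [hK, index_bot] at hk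
  have htop : (⊤ : Subgroup O) = T :=
    T.3 (IsPGroup.of_card (n := k) (by rw [card_top, hk])) le_top
  intro g hg
  exact hTN ⟨g, hg⟩ (htop ▸ mem_top _)

end Small

open CfsgLib.SpSixThree.Small in
theorem two : StmtTwo.{u} := by
  intro G _ _ B hT
  obtain ⟨⟨d, hd, hdv, hdσ, hdβ⟩, hB⟩ := hT
  refine eq_top_iff.2 fun g _ => ?_
  obtain ⟨o, ho, c, hc, rfl⟩ :=
    CfsgLib.Involutions.ZStar.exists_mul_centralizer (isolated hB hd hdv hdσ hdβ) g
  exact Subgroup.mul_mem _ (oddCore_le hB hd hdv hdσ ho) (cent_σ_le hB hd hdv hdσ hc)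

end CfsgLib.SpSixThree
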